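import Cfsg.Agent.Lib.Lead.Co1Out.D2
import Cfsg.Agent.Lib.Lead.Co1P.Real

/-! # The outer automorphism group of Co₁: the element number 2 (generated) -/

set_option autoImplicit false
set_option maxRecDepth 100000

namespace Cfsg.Agent.Co1Out

open Cfsg.Agent.PF Cfsg.Agent.Lib.Helper6 Cfsg.Agent.Lib.Helper6.TC Cfsg.Agent.Lib.Helper6.NatArr Cfsg.Agent.Co1P
open Cfsg.Agent.PL (Acts evalF)

theorem rep2 : Rep P f2 := rep_lD

end Cfsg.Agent.Co1Out
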