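import Cfsg.Agent.Lib.Lead.Co1Out.C5
import Cfsg.Agent.Lib.Lead.Co1Out.T0
import Cfsg.Agent.Lib.Lead.Co1Out.T1
import Cfsg.Agent.Lib.Lead.Co1Out.T2
import Cfsg.Agent.Lib.Lead.Co1Out.T3
import Cfsg.Agent.Lib.Lead.Co1Out.T4

/-! # The outer automorphism group of Co₁: the element number 5 (generated) -/

set_option autoImplicit false
set_option maxRecDepth 100000

namespace Cfsg.Agent.Co1Out

open Cfsg.Agent.PF Cfsg.Agent.Lib.Helper6 Cfsg.Agent.Lib.Helper6.TC Cfsg.Agent.Lib.Helper6.NatArr Cfsg.Agent.Co1P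
open Cfsg.Agent.PL (Acts evalF)

theorem rep5 : Rep P f5 :=
  (rep_wordR (l := W5) (Reps.cons rep2 (Reps.cons rep3 (Reps.cons rep2 (Reps.cons rep2 (Reps.cons rep4 (Reps.cons rep3 (Reps.cons rep0 (Reps.cons rep2 (Reps.cons rep3 (Reps.cons rep3 (Reps.cons rep4 (Reps.cons rep0 (Reps.cons rep3 (Reps.cons rep2 (Reps.cons rep1 (Reps.cons rep4 (Reps.cons rep0 (Reps.nil P))))))))))))))))))).congr eq5

end Cfsg.Agent.Co1Out
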