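import Cfsg.Agent.Lib.Lead.Co1Out.C7
import Cfsg.Agent.Lib.Lead.Co1Out.T5
import Cfsg.Agent.Lib.Lead.Co1Out.T6

/-! # The outer automorphism group of Co₁: the element number 7 (generated) -/

set_option autoImplicit false
set_option maxRecDepth 100000

namespace Cfsg.Agent.Co1Out

open Cfsg.Agent.PF Cfsg.Agent.Lib.Helper6 Cfsg.Agent.Lib.Helper6.TC Cfsg.Agent.Lib.Helper6.NatArr Cfsg.Agent.Co1P
open Cfsg.Agent.PL (Acts evalF)

theorem rep7 : Rep P f7 :=
  (rep_wordR (l := W7) (Reps.cons rep5 (Reps.cons rep5 (Reps.cons rep5 (Reps.cons rep6 (Reps.cons rep6 (Reps.cons rep6 (Reps.cons rep5 (Reps.cons rep5 (Reps.cons rep5 (Reps.cons rep6 (Reps.cons rep5 (Reps.cons rep5 (Reps.cons rep5 (Reps.cons rep6 (Reps.cons rep6 (Reps.cons rep5 (Reps.cons rep5 (Reps.cons rep6 (Reps.cons rep6 (Reps.cons rep5 (Reps.cons rep6 (Reps.cons rep5 (Reps.cons rep5 (Reps.nil P))))))))))))))))))))))))).congr eq7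

end Cfsg.Agent.Co1Out
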