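import Cfsg.Agent.Lib.Lead.Co1Out.C8
import Cfsg.Agent.Lib.Lead.Co1Out.T0
import Cfsg.Agent.Lib.Lead.Co1Out.T1
import Cfsg.Agent.Lib.Lead.Co1Out.T2
import Cfsg.Agent.Lib.Lead.Co1Out.T4
import Cfsg.Agent.Lib.Lead.Co1Out.T5
import Cfsg.Agent.Lib.Lead.Co1Out.T6
import Cfsg.Agent.Lib.Lead.Co1Out.T7

/-! # The outer automorphism group of Co₁: the element number 8 (generated) -/

set_option autoImplicit false
set_option maxRecDepth 100000

namespace Cfsg.Agent.Co1Out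

open Cfsg.Agent.PF Cfsg.Agent.Lib.Helper6 Cfsg.Agent.Lib.Helper6.TC Cfsg.Agent.Lib.Helper6.NatArr Cfsg.Agent.Co1P
open Cfsg.Agent.PL (Acts evalF)

theorem rep8 : Rep P f8 :=
  (rep_wordR (l := W8) (Reps.cons rep6 (Reps.cons rep5 (Reps.cons rep7 (Reps.cons rep5 (Reps.cons rep6 (Reps.cons rep5 (Reps.cons rep5 (Reps.cons rep5 (Reps.cons rep6 (Reps.cons rep6 (Reps.cons rep6 (Reps.cons rep0 (Reps.cons rep5 (Reps.cons rep6 (Reps.cons rep1 (Reps.cons rep6 (Reps.cons rep5 (Reps.cons rep7 (Reps.cons rep4 (Reps.cons rep0 (Reps.cons rep6 (Reps.cons rep1 (Reps.cons rep2 (Reps.cons rep4 (Reps.cons rep1 (Reps.cons rep5 (Reps.nil P)))))))))))))))))))))))))))).congr eq8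

end Cfsg.Agent.Co1Out
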