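import Cfsg.Agent.Lib.Lead.Co1Out.C9
import Cfsg.Agent.Lib.Lead.Co1Out.T0
import Cfsg.Agent.Lib.Lead.Co1Out.T2
import Cfsg.Agent.Lib.Lead.Co1Out.T3
import Cfsg.Agent.Lib.Lead.Co1Out.T4
import Cfsg.Agent.Lib.Lead.Co1Out.T5
import Cfsg.Agent.Lib.Lead.Co1Out.T6
import Cfsg.Agent.Lib.Lead.Co1Out.T7
import Cfsg.Agent.Lib.Lead.Co1Out.T8

/-! # The outer automorphism group of Co₁: the element number 9 (generated) -/

set_option autoImplicit false
set_option maxRecDepth 100000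

namespace Cfsg.Agent.Co1Out

open Cfsg.Agent.PF Cfsg.Agent.Lib.Helper6 Cfsg.Agent.Lib.Helper6.TC Cfsg.Agent.Lib.Helper6.NatArr Cfsg.Agent.Co1P
open Cfsg.Agent.PL (Acts evalF)

theorem rep9 : Rep P f9 :=
  (rep_wordR (l := W9) (Reps.cons rep7 (Reps.cons rep8 (Reps.cons rep7 (Reps.cons rep8 (Reps.cons rep7 (Reps.cons rep8 (Reps.cons rep8 (Reps.cons rep7 (Reps.cons rep7 (Reps.cons rep8 (Reps.cons rep8 (Reps.cons rep7 (Reps.cons rep8 (Reps.cons rep5 (Reps.cons rep5 (Reps.cons rep7 (Reps.cons rep8 (Reps.cons rep5 (Reps.cons rep7 (Reps.cons rep6 (Reps.cons rep8 (Reps.cons rep4 (Reps.cons rep6 (Reps.cons rep2 (Reps.cons rep0 (Reps.cons rep4 (Reps.cons rep8 (Reps.cons rep8 (Reps.cons rep6 (Reps.cons rep8 (Reps.cons rep3 (Reps.cons rep4 (Reps.cons rep4 (Reps.cons rep7 (Reps.cons rep8 (Reps.nil P))))))))))))))))))))))))))))))))))))).congr eq9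

end Cfsg.Agent.Co1Out
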