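import Cfsg.Agent.Lib.Lead.Co1Out.C10
import Cfsg.Agent.Lib.Lead.Co1Out.T1
import Cfsg.Agent.Lib.Lead.Co1Out.T2
import Cfsg.Agent.Lib.Lead.Co1Out.T3
import Cfsg.Agent.Lib.Lead.Co1Out.T4
import Cfsg.Agent.Lib.Lead.Co1Out.T5
import Cfsg.Agent.Lib.Lead.Co1Out.T6
import Cfsg.Agent.Lib.Lead.Co1Out.T7
import Cfsg.Agent.Lib.Lead.Co1Out.T8
import Cfsg.Agent.Lib.Lead.Co1Out.T9

/-! # The outer automorphism group of Co₁: the element number 10 (generated) -/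

set_option autoImplicit false
set_option maxRecDepth 100000

namespace Cfsg.Agent.Co1Out

open Cfsg.Agent.PF Cfsg.Agent.Lib.Helper6 Cfsg.Agent.Lib.Helper6.TC Cfsg.Agent.Lib.Helper6.NatArr Cfsg.Agent.Co1P
open Cfsg.Agent.PL (Acts evalF)

theorem rep10 : Rep P f10 :=
  (rep_wordR (l := W10) (Reps.cons rep8 (Reps.cons rep7 (Reps.cons rep7 (Reps.cons rep8 (Reps.cons rep9 (Reps.cons rep7 (Reps.cons rep6 (Reps.cons rep6 (Reps.cons rep7 (Reps.cons rep9 (Reps.cons rep6 (Reps.cons rep6 (Reps.cons rep5 (Reps.cons rep1 (Reps.cons rep4 (Reps.cons rep7 (Reps.cons rep1 (Reps.cons rep8 (Reps.cons rep3 (Reps.cons rep7 (Reps.cons rep3 (Reps.cons rep6 (Reps.cons rep6 (Reps.cons rep2 (Reps.cons rep5 (Reps.cons rep8 (Reps.cons rep5 (Reps.nil P))))))))))))))))))))))))))))).congr eq10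

end Cfsg.Agent.Co1Out
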