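import Cfsg.Agent.Lib.Lead.Co1Out.C11
import Cfsg.Agent.Lib.Lead.Co1Out.T0
import Cfsg.Agent.Lib.Lead.Co1Out.T1
import Cfsg.Agent.Lib.Lead.Co1Out.T2
import Cfsg.Agent.Lib.Lead.Co1Out.T3
import Cfsg.Agent.Lib.Lead.Co1Out.T5
import Cfsg.Agent.Lib.Lead.Co1Out.T6
import Cfsg.Agent.Lib.Lead.Co1Out.T7
import Cfsg.Agent.Lib.Lead.Co1Out.T8
import Cfsg.Agent.Lib.Lead.Co1Out.T9
import Cfsg.Agent.Lib.Lead.Co1Out.T10

/-! # The outer automorphism group of Co₁: the element number 11 (generated) -/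

set_option autoImplicit false
set_option maxRecDepth 100000

namespace Cfsg.Agent.Co1Out

open Cfsg.Agent.PF Cfsg.Agent.Lib.Helper6 Cfsg.Agent.Lib.Helper6.TC Cfsg.Agent.Lib.Helper6.NatArr Cfsg.Agent.Co1P
open Cfsg.Agent.PL (Acts evalF)

theorem rep11 : Rep P f11 :=
  (rep_wordR (l := W11) (Reps.cons rep9 (Reps.cons rep10 (Reps.cons rep10 (Reps.cons rep9 (Reps.cons rep9 (Reps.cons rep10 (Reps.cons rep9 (Reps.cons rep9 (Reps.cons rep10 (Reps.cons rep9 (Reps.cons rep10 (Reps.cons rep10 (Reps.cons rep10 (Reps.cons rep7 (Reps.cons rep10 (Reps.cons rep9 (Reps.cons rep9 (Reps.cons rep7 (Reps.cons rep8 (Reps.cons rep8 (Reps.cons rep6 (Reps.cons rep7 (Reps.cons rep5 (Reps.cons rep7 (Reps.cons rep7 (Reps.cons rep10 (Reps.cons rep0 (Reps.cons rep9 (Reps.cons rep6 (Reps.cons rep3 (Reps.cons rep1 (Reps.cons rep3 (Reps.cons rep2 (Reps.cons rep8 (Reps.cons rep6 (Reps.cons rep5 (Reps.cons rep7 (Reps.cons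 rep0 (Reps.cons rep7 (Reps.cons rep0 (Reps.nil P)))))))))))))))))))))))))))))))))))))))))).congr eq11

end Cfsg.Agent.Co1Out
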