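import Cfsg.Agent.Lib.Lead.Co1Out.C12
import Cfsg.Agent.Lib.Lead.Co1Out.T1
import Cfsg.Agent.Lib.Lead.Co1Out.T3
import Cfsg.Agent.Lib.Lead.Co1Out.T5
import Cfsg.Agent.Lib.Lead.Co1Out.T6
import Cfsg.Agent.Lib.Lead.Co1Out.T7
import Cfsg.Agent.Lib.Lead.Co1Out.T8
import Cfsg.Agent.Lib.Lead.Co1Out.T9
import Cfsg.Agent.Lib.Lead.Co1Out.T10
import Cfsg.Agent.Lib.Lead.Co1Out.T11

/-! # The outer automorphism group of Co₁: the element number 12 (generated) -/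

set_option autoImplicit false
set_option maxRecDepth 100000

namespace Cfsg.Agent.Co1Out

open Cfsg.Agent.PF Cfsg.Agent.Lib.Helper6 Cfsg.Agent.Lib.Helper6.TC Cfsg.Agent.Lib.Helper6.NatArr Cfsg.Agent.Co1P
open Cfsg.Agent.PL (Acts evalF)

theorem rep12 : Rep P f12 :=
  (rep_wordR (l := W12) (Reps.cons rep10 (Reps.cons rep11 (Reps.cons rep10 (Reps.cons rep10 (Reps.cons rep10 (Reps.cons rep9 (Reps.cons rep10 (Reps.cons rep10 (Reps.cons rep10 (Reps.cons rep7 (Reps.cons rep11 (Reps.cons rep8 (Reps.cons rep7 (Reps.cons rep9 (Reps.cons rep7 (Reps.cons rep10 (Reps.cons rep5 (Reps.cons rep7 (Reps.cons rep10 (Reps.cons rep8 (Reps.cons rep10 (Reps.cons rep5 (Reps.cons rep9 (Reps.cons rep1 (Reps.cons rep5 (Reps.cons rep5 (Reps.cons rep10 (Reps.cons rep7 (Reps.cons rep8 (Reps.cons rep3 (Reps.cons rep6 (Reps.cons rep8 (Reps.cons rep5 (Reps.cons rep9 (Reps.cons rep5 (Reps.cons rep7 (Reps.nil P)))))))))))))))))))))))))))))))))))))).congr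 eq12

end Cfsg.Agent.Co1Out
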