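import Cfsg.Agent.Lib.Lead.Co1Out.C14
import Cfsg.Agent.Lib.Lead.Co1Out.T1
import Cfsg.Agent.Lib.Lead.Co1Out.T2
import Cfsg.Agent.Lib.Lead.Co1Out.T4
import Cfsg.Agent.Lib.Lead.Co1Out.T5
import Cfsg.Agent.Lib.Lead.Co1Out.T7
import Cfsg.Agent.Lib.Lead.Co1Out.T8
import Cfsg.Agent.Lib.Lead.Co1Out.T9
import Cfsg.Agent.Lib.Lead.Co1Out.T10
import Cfsg.Agent.Lib.Lead.Co1Out.T11
import Cfsg.Agent.Lib.Lead.Co1Out.T12

/-! # The outer automorphism group of Co₁: the element number 14 (generated) -/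

set_option autoImplicit false
set_option maxRecDepth 100000

namespace Cfsg.Agent.Co1Out

open Cfsg.Agent.PF Cfsg.Agent.Lib.Helper6 Cfsg.Agent.Lib.Helper6.TC Cfsg.Agent.Lib.Helper6.NatArr Cfsg.Agent.Co1P
open Cfsg.Agent.PL (Acts evalF)

theorem rep14 : Rep P f14 :=
  (rep_wordR (l := W14) (Reps.cons rep9 (Reps.cons rep12 (Reps.cons rep11 (Reps.cons rep9 (Reps.cons rep9 (Reps.cons rep8 (Reps.cons rep11 (Reps.cons rep9 (Reps.cons rep12 (Reps.cons rep7 (Reps.cons rep10 (Reps.cons rep5 (Reps.cons rep5 (Reps.cons rep7 (Reps.cons rep5 (Reps.cons rep9 (Reps.cons rep8 (Reps.cons rep9 (Reps.cons rep1 (Reps.cons rep10 (Reps.cons rep4 (Reps.cons rep12 (Reps.cons rep2 (Reps.nil P))))))))))))))))))))))))).congr eq14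

end Cfsg.Agent.Co1Out
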