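import Cfsg.Agent.Lib.Lead.Co1Out.C24
import Cfsg.Agent.Lib.Lead.Co1Out.T0
import Cfsg.Agent.Lib.Lead.Co1Out.T3
import Cfsg.Agent.Lib.Lead.Co1Out.T5
import Cfsg.Agent.Lib.Lead.Co1Out.T6
import Cfsg.Agent.Lib.Lead.Co1Out.T7
import Cfsg.Agent.Lib.Lead.Co1Out.T8
import Cfsg.Agent.Lib.Lead.Co1Out.T9
import Cfsg.Agent.Lib.Lead.Co1Out.T10
import Cfsg.Agent.Lib.Lead.Co1Out.T11
import Cfsg.Agent.Lib.Lead.Co1Out.T12

/-! # The outer automorphism group of Co₁: the element number 24 (generated) -/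

set_option autoImplicit false
set_option maxRecDepth 100000

namespace Cfsg.Agent.Co1Out

open Cfsg.Agent.PF Cfsg.Agent.Lib.Helper6 Cfsg.Agent.Lib.Helper6.TC Cfsg.Agent.Lib.Helper6.NatArr Cfsg.Agent.Co1P
open Cfsg.Agent.PL (Acts evalF)

theorem rep24 : Rep P f24 :=
  (rep_wordR (l := W24) (Reps.cons rep12 (Reps.cons rep10 (Reps.cons rep10 (Reps.cons rep11 (Reps.cons rep12 (Reps.cons rep10 (Reps.cons rep12 (Reps.cons rep11 (Reps.cons rep10 (Reps.cons rep8 (Reps.cons rep12 (Reps.cons rep7 (Reps.cons rep11 (Reps.cons rep9 (Reps.cons rep9 (Reps.cons rep5 (Reps.cons rep5 (Reps.cons rep5 (Reps.cons rep11 (Reps.cons rep10 (Reps.cons rep5 (Reps.cons rep6 (Reps.cons rep0 (Reps.cons rep3 (Reps.cons rep10 (Reps.cons rep12 (Reps.cons rep7 (Reps.cons rep3 (Reps.nil P)))))))))))))))))))))))))))))).congr eq24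

end Cfsg.Agent.Co1Out
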