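import Cfsg.Agent.Lib.Lead.Co1Out.T13
import Cfsg.Agent.Lib.Lead.Co1Out.T14
import Cfsg.Agent.Lib.Lead.Co1Out.T24

/-! # The outer automorphism group of Co₁: the elements `x`, `y`, `w` (generated) -/

set_option autoImplicit false
set_option maxRecDepth 100000

namespace Cfsg.Agent.Co1Out

open Cfsg.Agent.PF Cfsg.Agent.Lib.Helper6 Cfsg.Agent.Lib.Helper6.TC Cfsg.Agent.Lib.Helper6.NatArr Cfsg.Agent.Co1P
open Cfsg.Agent.PL (Acts evalF)

/-- the element `x` of order 23 -/
noncomputable def x : Equiv.Perm (Fin 98280) := Classical.choose rep13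
/-- the element `y` normalising `⟨x⟩` -/
noncomputable def y : Equiv.Perm (Fin 98280) := Classical.choose rep14
/-- the element `w` normalising `⟨y⟩` -/
noncomputable def w : Equiv.Perm (Fin 98280) := Classical.choose rep24

theorem hx : x ∈ P := (Classical.choose_spec rep13).1
theorem hy : y ∈ P := (Classical.choose_spec rep14).1
theorem hw : w ∈ P := (Classical.choose_spec rep24).1
theorem ax : Acts x f13 := (Classical.choose_spec rep13).2
theorem ay : Acts y f14 := (Classical.choose_spec rep14).2
theorem aw : Acts w f24 := (Classical.choose_spec rep24).2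

/-- the subgroup generated by `x`, `y`, `w` -/
noncomputable abbrev K : Subgroup (Equiv.Perm (Fin 98280)) := Subgroup.closure {x, y, w}

theorem repK13 : Rep K f13 := ⟨x, Subgroup.subset_closure (by simp), ax⟩
theorem repK14 : Rep K f14 := ⟨y, Subgroup.subset_closure (by simp), ay⟩
theorem repK24 : Rep K f24 := ⟨w, Subgroup.subset_closure (by simp), aw⟩

end Cfsg.Agent.Co1Out
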