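import Cfsg.Agent.Lib.Lead.Co1Out.C25
import Cfsg.Agent.Lib.Lead.Co1Out.XYW

/-! # The outer automorphism group of Co₁: the element number 25 (generated) -/

set_option autoImplicit false
set_option maxRecDepth 100000

namespace Cfsg.Agent.Co1Out

open Cfsg.Agent.PF Cfsg.Agent.Lib.Helper6 Cfsg.Agent.Lib.Helper6.TC Cfsg.Agent.Lib.Helper6.NatArr Cfsg.Agent.Co1P
open Cfsg.Agent.PL (Acts evalF)

theorem rep25 : Rep K f25 :=
  (rep_wordR (l := W25) (Reps.cons repK13 (Reps.cons repK14 (Reps.cons repK14 (Reps.cons repK13 (Reps.cons repK14 (Reps.cons repK13 (Reps.cons repK13 (Reps.cons repK24 (Reps.cons repK24 (Reps.cons repK13 (Reps.cons repK14 (Reps.cons repK24 (Reps.cons repK24 (Reps.cons repK14 (Reps.cons repK13 (Reps.cons repK14 (Reps.cons repK14 (Reps.cons repK14 (Reps.cons repK24 (Reps.cons repK14 (Reps.cons repK13 (Reps.cons repK13 (Reps.cons repK14 (Reps.nil K))))))))))))))))))))))))).congr eq25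

end Cfsg.Agent.Co1Out
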