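import Cfsg.Agent.Lib.Lead.Co1Out.C28
import Cfsg.Agent.Lib.Lead.Co1Out.T25
import Cfsg.Agent.Lib.Lead.Co1Out.T26
import Cfsg.Agent.Lib.Lead.Co1Out.T27
import Cfsg.Agent.Lib.Lead.Co1Out.XYW

/-! # The outer automorphism group of Co₁: the element number 28 (generated) -/

set_option autoImplicit false
set_option maxRecDepth 100000

namespace Cfsg.Agent.Co1Out

open Cfsg.Agent.PF Cfsg.Agent.Lib.Helper6 Cfsg.Agent.Lib.Helper6.TC Cfsg.Agent.Lib.Helper6.NatArr Cfsg.Agent.Co1P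
open Cfsg.Agent.PL (Acts evalF)

theorem rep28 : Rep K f28 :=
  (rep_wordR (l := W28) (Reps.cons rep25 (Reps.cons rep25 (Reps.cons rep27 (Reps.cons rep25 (Reps.cons rep27 (Reps.cons rep26 (Reps.cons rep25 (Reps.cons rep27 (Reps.cons rep26 (Reps.cons repK13 (Reps.cons rep25 (Reps.cons rep27 (Reps.cons repK13 (Reps.cons rep25 (Reps.cons repK13 (Reps.cons rep25 (Reps.cons rep27 (Reps.cons repK14 (Reps.cons rep25 (Reps.cons repK24 (Reps.cons repK13 (Reps.cons rep25 (Reps.cons rep26 (Reps.cons rep27 (Reps.cons repK13 (Reps.cons repK14 (Reps.nil K)))))))))))))))))))))))))))).congr eq28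

end Cfsg.Agent.Co1Out
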