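import Cfsg.Agent.Lib.Lead.Co1Out.C30
import Cfsg.Agent.Lib.Lead.Co1Out.T25
import Cfsg.Agent.Lib.Lead.Co1Out.T26
import Cfsg.Agent.Lib.Lead.Co1Out.T27
import Cfsg.Agent.Lib.Lead.Co1Out.T28
import Cfsg.Agent.Lib.Lead.Co1Out.T29
import Cfsg.Agent.Lib.Lead.Co1Out.XYW

/-! # The outer automorphism group of Co₁: the element number 30 (generated) -/

set_option autoImplicit false
set_option maxRecDepth 100000

namespace Cfsg.Agent.Co1Out

open Cfsg.Agent.PF Cfsg.Agent.Lib.Helper6 Cfsg.Agent.Lib.Helper6.TC Cfsg.Agent.Lib.Helper6.NatArr Cfsg.Agent.Co1P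
open Cfsg.Agent.PL (Acts evalF)

theorem rep30 : Rep K f30 :=
  (rep_wordR (l := W30) (Reps.cons rep28 (Reps.cons rep28 (Reps.cons rep27 (Reps.cons rep29 (Reps.cons rep29 (Reps.cons rep28 (Reps.cons rep27 (Reps.cons rep29 (Reps.cons rep25 (Reps.cons rep25 (Reps.cons rep25 (Reps.cons rep25 (Reps.cons rep25 (Reps.cons rep28 (Reps.cons rep29 (Reps.cons rep29 (Reps.cons repK13 (Reps.cons repK13 (Reps.cons rep25 (Reps.cons rep27 (Reps.cons repK24 (Reps.cons repK13 (Reps.cons rep29 (Reps.cons rep25 (Reps.cons rep26 (Reps.cons rep26 (Reps.cons rep29 (Reps.cons rep28 (Reps.cons repK13 (Reps.cons rep29 (Reps.cons rep25 (Reps.cons rep28 (Reps.cons rep28 (Reps.nil K))))))))))))))))))))))))))))))))))).congr eq30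

end Cfsg.Agent.Co1Out
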