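import Cfsg.Agent.Lib.Lead.Co1Out.C31
import Cfsg.Agent.Lib.Lead.Co1Out.T25
import Cfsg.Agent.Lib.Lead.Co1Out.T26
import Cfsg.Agent.Lib.Lead.Co1Out.T27
import Cfsg.Agent.Lib.Lead.Co1Out.T28
import Cfsg.Agent.Lib.Lead.Co1Out.T29
import Cfsg.Agent.Lib.Lead.Co1Out.T30
import Cfsg.Agent.Lib.Lead.Co1Out.XYW

/-! # The outer automorphism group of Co₁: the element number 31 (generated) -/

set_option autoImplicit false
set_option maxRecDepth 100000

namespace Cfsg.Agent.Co1Out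

open Cfsg.Agent.PF Cfsg.Agent.Lib.Helper6 Cfsg.Agent.Lib.Helper6.TC Cfsg.Agent.Lib.Helper6.NatArr Cfsg.Agent.Co1P
open Cfsg.Agent.PL (Acts evalF)

theorem rep31 : Rep K f31 :=
  (rep_wordR (l := W31) (Reps.cons rep30 (Reps.cons rep29 (Reps.cons rep29 (Reps.cons rep29 (Reps.cons rep29 (Reps.cons rep30 (Reps.cons rep30 (Reps.cons rep29 (Reps.cons rep29 (Reps.cons rep29 (Reps.cons rep27 (Reps.cons rep28 (Reps.cons rep27 (Reps.cons rep27 (Reps.cons rep29 (Reps.cons rep28 (Reps.cons rep28 (Reps.cons rep25 (Reps.cons rep25 (Reps.cons rep27 (Reps.cons rep30 (Reps.cons rep27 (Reps.cons rep28 (Reps.cons rep27 (Reps.cons repK13 (Reps.cons rep25 (Reps.cons rep27 (Reps.cons rep30 (Reps.cons rep28 (Reps.cons rep30 (Reps.cons rep29 (Reps.cons repK13 (Reps.cons rep26 (Reps.cons rep28 (Reps.cons repK24 (Reps.cons repK24 (Reps.cons rep30 (Reps.cons rep25 (Reps.cons repK13 (Reps.cons rep25 (Reps.nil K)))))))))))))))))))))))))))))))))))))))))).congr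 eq31

end Cfsg.Agent.Co1Out
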