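import Cfsg.Agent.Lib.Lead.Co1Out.C32
import Cfsg.Agent.Lib.Lead.Co1Out.T25
import Cfsg.Agent.Lib.Lead.Co1Out.T26
import Cfsg.Agent.Lib.Lead.Co1Out.T27
import Cfsg.Agent.Lib.Lead.Co1Out.T28
import Cfsg.Agent.Lib.Lead.Co1Out.T29
import Cfsg.Agent.Lib.Lead.Co1Out.T30
import Cfsg.Agent.Lib.Lead.Co1Out.T31
import Cfsg.Agent.Lib.Lead.Co1Out.XYW

/-! # The outer automorphism group of Co₁: the element number 32 (generated) -/

set_option autoImplicit false
set_option maxRecDepth 100000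

namespace Cfsg.Agent.Co1Out

open Cfsg.Agent.PF Cfsg.Agent.Lib.Helper6 Cfsg.Agent.Lib.Helper6.TC Cfsg.Agent.Lib.Helper6.NatArr Cfsg.Agent.Co1P
open Cfsg.Agent.PL (Acts evalF)

theorem rep32 : Rep K f32 :=
  (rep_wordR (l := W32) (Reps.cons rep30 (Reps.cons rep29 (Reps.cons rep30 (Reps.cons rep30 (Reps.cons rep30 (Reps.cons rep27 (Reps.cons rep27 (Reps.cons rep28 (Reps.cons rep27 (Reps.cons rep27 (Reps.cons rep31 (Reps.cons rep31 (Reps.cons rep29 (Reps.cons rep26 (Reps.cons rep30 (Reps.cons rep31 (Reps.cons rep26 (Reps.cons rep28 (Reps.cons rep27 (Reps.cons rep30 (Reps.cons rep25 (Reps.cons rep28 (Reps.cons rep30 (Reps.cons rep27 (Reps.cons rep31 (Reps.cons rep27 (Reps.cons rep29 (Reps.cons rep26 (Reps.cons rep30 (Reps.nil K))))))))))))))))))))))))))))))).congr eq32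

end Cfsg.Agent.Co1Out
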