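import Cfsg.Agent.Lib.Lead.Co1Out.LevGD
import Cfsg.Agent.Lib.Lead.Co1Out.T25
import Cfsg.Agent.Lib.Lead.Co1Out.T26
import Cfsg.Agent.Lib.Lead.Co1Out.T27
import Cfsg.Agent.Lib.Lead.Co1Out.T28
import Cfsg.Agent.Lib.Lead.Co1Out.T29
import Cfsg.Agent.Lib.Lead.Co1Out.T30
import Cfsg.Agent.Lib.Lead.Co1Out.T31
import Cfsg.Agent.Lib.Lead.Co1Out.T32
import Cfsg.Agent.Lib.Lead.Co1Out.XYW

/-! # The outer automorphism group of Co₁: the generators of the trees of the chain `G` are elements of the group (generated) -/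

set_option autoImplicit false
set_option maxRecDepth 100000

namespace Cfsg.Agent.Co1Out

open Cfsg.Agent.PF Cfsg.Agent.Lib.Helper6 Cfsg.Agent.Lib.Helper6.TC Cfsg.Agent.Lib.Helper6.NatArr Cfsg.Agent.Co1P
open Cfsg.Agent.PL (Acts evalF)

theorem repsG0 : Reps K LG0.2.1 :=
  (Reps.cons repK13 (Reps.cons repK14 (Reps.cons repK24 (Reps.cons rep25 (Reps.cons rep26 (Reps.cons rep27 (Reps.cons rep28 (Reps.cons rep29 (Reps.cons rep30 (Reps.cons rep31 (Reps.cons rep32 (Reps.nil K))))))))))))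

theorem repsG1 : Reps K LG1.2.1 :=
  (Reps.cons rep25 (Reps.cons rep26 (Reps.cons rep27 (Reps.cons rep28 (Reps.cons rep29 (Reps.cons rep30 (Reps.cons rep31 (Reps.cons rep32 (Reps.nil K)))))))))

theorem repsG2 : Reps K LG2.2.1 :=
  (Reps.cons rep27 (Reps.cons rep28 (Reps.cons rep29 (Reps.cons rep30 (Reps.cons rep31 (Reps.cons rep32 (Reps.nil K)))))))

theorem repsG3 : Reps K LG3.2.1 :=
  (Reps.cons rep29 (Reps.cons rep30 (Reps.cons rep31 (Reps.cons rep32 (Reps.nil K)))))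

theorem repsG4 : Reps K LG4.2.1 :=
  (Reps.cons rep31 (Reps.cons rep32 (Reps.nil K)))

theorem hG : ∀ L ∈ LG0 :: LsG, ∀ c ∈ L.2.1, Rep K c := by
  intro L hL
  simp only [LsG, List.mem_cons, List.not_mem_nil, or_false] at hL
  rcases hL with rfl | rfl | rfl | rfl | rfl
  · exact repsG0
  · exact repsG1
  · exact repsG2
  · exact repsG3
  · exact repsG4

end Cfsg.Agent.Co1Out
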