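import Cfsg.Agent.Lib.Lead.Co1Out.C10_0
import Cfsg.Agent.Lib.Lead.Co1Out.C10_1

/-! # The outer automorphism group of Co₁: the check of the table number 10 (generated) -/

set_option autoImplicit false
set_option maxRecDepth 100000

namespace Cfsg.Agent.Co1Out

open Cfsg.Agent.PF Cfsg.Agent.Lib.Helper6 Cfsg.Agent.Lib.Helper6.TC Cfsg.Agent.Lib.Helper6.NatArr Cfsg.Agent.Co1P
open Cfsg.Agent.PL (Acts evalF)

theorem eq10_all : ∀ q < 98280, (fun q => Nat.beq (f10 q) (wordR W10 q)) q = true :=
  forall_lt_of_chunks (f := fun q => (fun q => Nat.beq (f10 q) (wordR W10 q)) q) [(0, 3510), (3510, 3510), (7020, 3510), (10530, 3510), (14040, 3510), (17550, 3510), (21060, 3510), (24570, 3510), (28080, 3510), (31590, 3510), (35100, 3510), (38610, 3510), (42120, 3510), (45630, 3510), (49140, 3510), (52650, 3510), (56160, 3510), (59670, 3510), (63180, 3510), (66690, 3510), (70200, 3510), (73710, 3510), (77220, 3510), (80730, 3510), (84240, 3510), (87750, 3510), (91260, 3510), (94770, 3510)] (by decide)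
    (all_cons eq10_0 (all_cons eq10_1 (all_cons eq10_2 (all_cons eq10_3 (all_cons eq10_4 (all_cons eq10_5 (all_cons eq10_6 (all_cons eq10_7 (all_cons eq10_8 (all_cons eq10_9 (all_cons eq10_10 (all_cons eq10_11 (all_cons eq10_12 (all_cons eq10_13 (all_cons eq10_14 (all_cons eq10_15 (all_cons eq10_16 (all_cons eq10_17 (all_cons eq10_18 (all_cons eq10_19 (all_cons eq10_20 (all_cons eq10_21 (all_cons eq10_22 (all_cons eq10_23 (all_cons eq10_24 (all_cons eq10_25 (all_cons eq10_26 (all_cons eq10_27 all_nil))))))))))))))))))))))))))))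

/-- the table agrees with the word -/
theorem eq10 : ∀ q < 98280, f10 q = wordR W10 q :=
  fun q hq => Nat.eq_of_beq_eq_true (eq10_all q hq)

end Cfsg.Agent.Co1Out
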