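import Cfsg.Agent.Lib.Lead.Co1Out.D10

/-! # The outer automorphism group of Co₁: the check of the table number 10, slices (generated) -/

set_option autoImplicit false
set_option Elab.async false
set_option maxRecDepth 100000

namespace Cfsg.Agent.Co1Out

open Cfsg.Agent.PF Cfsg.Agent.Lib.Helper6 Cfsg.Agent.Lib.Helper6.TC Cfsg.Agent.Lib.Helper6.NatArr Cfsg.Agent.Co1P
open Cfsg.Agent.PL (Acts evalF)

theorem eq10_0 : allR 0 3510 (fun q => (fun q => Nat.beq (f10 q) (wordR W10 q)) q) = true := by decide +kernel

theorem eq10_1 : allR 3510 3510 (fun q => (fun q => Nat.beq (f10 q) (wordR W10 q)) q) = true := by decide +kernel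

theorem eq10_2 : allR 7020 3510 (fun q => (fun q => Nat.beq (f10 q) (wordR W10 q)) q) = true := by decide +kernel

theorem eq10_3 : allR 10530 3510 (fun q => (fun q => Nat.beq (f10 q) (wordR W10 q)) q) = true := by decide +kernel

theorem eq10_4 : allR 14040 3510 (fun q => (fun q => Nat.beq (f10 q) (wordR W10 q)) q) = true := by decide +kernel

theorem eq10_5 : allR 17550 3510 (fun q => (fun q => Nat.beq (f10 q) (wordR W10 q)) q) = true := by decide +kernel

theorem eq10_6 : allR 21060 3510 (fun q => (fun q => Nat.beq (f10 q) (wordR W10 q)) q) = true := by decide +kernel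

theorem eq10_7 : allR 24570 3510 (fun q => (fun q => Nat.beq (f10 q) (wordR W10 q)) q) = true := by decide +kernel

theorem eq10_8 : allR 28080 3510 (fun q => (fun q => Nat.beq (f10 q) (wordR W10 q)) q) = true := by decide +kernel

theorem eq10_9 : allR 31590 3510 (fun q => (fun q => Nat.beq (f10 q) (wordR W10 q)) q) = true := by decide +kernel

theorem eq10_10 : allR 35100 3510 (fun q => (fun q => Nat.beq (f10 q) (wordR W10 q)) q) = true := by decide +kernel

theorem eq10_11 : allR 38610 3510 (fun q => (fun q => Nat.beq (f10 q) (wordR W10 q)) q) = true := by decide +kernel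

theorem eq10_12 : allR 42120 3510 (fun q => (fun q => Nat.beq (f10 q) (wordR W10 q)) q) = true := by decide +kernel

theorem eq10_13 : allR 45630 3510 (fun q => (fun q => Nat.beq (f10 q) (wordR W10 q)) q) = true := by decide +kernel

theorem eq10_14 : allR 49140 3510 (fun q => (fun q => Nat.beq (f10 q) (wordR W10 q)) q) = true := by decide +kernel

theorem eq10_15 : allR 52650 3510 (fun q => (fun q => Nat.beq (f10 q) (wordR W10 q)) q) = true := by decide +kernel

theorem eq10_16 : allR 56160 3510 (fun q => (fun q => Nat.beq (f10 q) (wordR W10 q)) q) = true := by decide +kernel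

theorem eq10_17 : allR 59670 3510 (fun q => (fun q => Nat.beq (f10 q) (wordR W10 q)) q) = true := by decide +kernel

theorem eq10_18 : allR 63180 3510 (fun q => (fun q => Nat.beq (f10 q) (wordR W10 q)) q) = true := by decide +kernel

theorem eq10_19 : allR 66690 3510 (fun q => (fun q => Nat.beq (f10 q) (wordR W10 q)) q) = true := by decide +kernel

theorem eq10_20 : allR 70200 3510 (fun q => (fun q => Nat.beq (f10 q) (wordR W10 q)) q) = true := by decide +kernel

theorem eq10_21 : allR 73710 3510 (fun q => (fun q => Nat.beq (f10 q) (wordR W10 q)) q) = true := by decide +kernel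

theorem eq10_22 : allR 77220 3510 (fun q => (fun q => Nat.beq (f10 q) (wordR W10 q)) q) = true := by decide +kernel

theorem eq10_23 : allR 80730 3510 (fun q => (fun q => Nat.beq (f10 q) (wordR W10 q)) q) = true := by decide +kernel

theorem eq10_24 : allR 84240 3510 (fun q => (fun q => Nat.beq (f10 q) (wordR W10 q)) q) = true := by decide +kernel


end Cfsg.Agent.Co1Out
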