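import Cfsg.Agent.Lib.Lead.Co1Out.D11

/-! # The outer automorphism group of Co₁: the check of the table number 11, slices (generated) -/

set_option autoImplicit false
set_option Elab.async false
set_option maxRecDepth 100000

namespace Cfsg.Agent.Co1Out

open Cfsg.Agent.PF Cfsg.Agent.Lib.Helper6 Cfsg.Agent.Lib.Helper6.TC Cfsg.Agent.Lib.Helper6.NatArr Cfsg.Agent.Co1P
open Cfsg.Agent.PL (Acts evalF)

theorem eq11_25 : allR 59950 2398 (fun q => (fun q => Nat.beq (f11 q) (wordR W11 q)) q) = true := by decide +kernel

theorem eq11_26 : allR 62348 2398 (fun q => (fun q => Nat.beq (f11 q) (wordR W11 q)) q) = true := by decide +kernel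

theorem eq11_27 : allR 64746 2398 (fun q => (fun q => Nat.beq (f11 q) (wordR W11 q)) q) = true := by decide +kernel

theorem eq11_28 : allR 67144 2398 (fun q => (fun q => Nat.beq (f11 q) (wordR W11 q)) q) = true := by decide +kernel

theorem eq11_29 : allR 69542 2398 (fun q => (fun q => Nat.beq (f11 q) (wordR W11 q)) q) = true := by decide +kernel

theorem eq11_30 : allR 71940 2398 (fun q => (fun q => Nat.beq (f11 q) (wordR W11 q)) q) = true := by decide +kernel

theorem eq11_31 : allR 74338 2398 (fun q => (fun q => Nat.beq (f11 q) (wordR W11 q)) q) = true := by decide +kernel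

theorem eq11_32 : allR 76736 2398 (fun q => (fun q => Nat.beq (f11 q) (wordR W11 q)) q) = true := by decide +kernel

theorem eq11_33 : allR 79134 2398 (fun q => (fun q => Nat.beq (f11 q) (wordR W11 q)) q) = true := by decide +kernel

theorem eq11_34 : allR 81532 2398 (fun q => (fun q => Nat.beq (f11 q) (wordR W11 q)) q) = true := by decide +kernel

theorem eq11_35 : allR 83930 2398 (fun q => (fun q => Nat.beq (f11 q) (wordR W11 q)) q) = true := by decide +kernel

theorem eq11_36 : allR 86328 2398 (fun q => (fun q => Nat.beq (f11 q) (wordR W11 q)) q) = true := by decide +kernel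

theorem eq11_37 : allR 88726 2398 (fun q => (fun q => Nat.beq (f11 q) (wordR W11 q)) q) = true := by decide +kernel

theorem eq11_38 : allR 91124 2398 (fun q => (fun q => Nat.beq (f11 q) (wordR W11 q)) q) = true := by decide +kernel

theorem eq11_39 : allR 93522 2398 (fun q => (fun q => Nat.beq (f11 q) (wordR W11 q)) q) = true := by decide +kernel

theorem eq11_40 : allR 95920 2360 (fun q => (fun q => Nat.beq (f11 q) (wordR W11 q)) q) = true := by decide +kernel


end Cfsg.Agent.Co1Out
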