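import Cfsg.Agent.Lib.Lead.Co1Out.D11

/-! # The outer automorphism group of Co₁: the check of the table number 11, slices (generated) -/

set_option autoImplicit false
set_option Elab.async false
set_option maxRecDepth 100000

namespace Cfsg.Agent.Co1Out

open Cfsg.Agent.PF Cfsg.Agent.Lib.Helper6 Cfsg.Agent.Lib.Helper6.TC Cfsg.Agent.Lib.Helper6.NatArr Cfsg.Agent.Co1P
open Cfsg.Agent.PL (Acts evalF)

theorem eq11_0 : allR 0 2398 (fun q => (fun q => Nat.beq (f11 q) (wordR W11 q)) q) = true := by decide +kernel

theorem eq11_1 : allR 2398 2398 (fun q => (fun q => Nat.beq (f11 q) (wordR W11 q)) q) = true := by decide +kernel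

theorem eq11_2 : allR 4796 2398 (fun q => (fun q => Nat.beq (f11 q) (wordR W11 q)) q) = true := by decide +kernel

theorem eq11_3 : allR 7194 2398 (fun q => (fun q => Nat.beq (f11 q) (wordR W11 q)) q) = true := by decide +kernel

theorem eq11_4 : allR 9592 2398 (fun q => (fun q => Nat.beq (f11 q) (wordR W11 q)) q) = true := by decide +kernel

theorem eq11_5 : allR 11990 2398 (fun q => (fun q => Nat.beq (f11 q) (wordR W11 q)) q) = true := by decide +kernel

theorem eq11_6 : allR 14388 2398 (fun q => (fun q => Nat.beq (f11 q) (wordR W11 q)) q) = true := by decide +kernel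

theorem eq11_7 : allR 16786 2398 (fun q => (fun q => Nat.beq (f11 q) (wordR W11 q)) q) = true := by decide +kernel

theorem eq11_8 : allR 19184 2398 (fun q => (fun q => Nat.beq (f11 q) (wordR W11 q)) q) = true := by decide +kernel

theorem eq11_9 : allR 21582 2398 (fun q => (fun q => Nat.beq (f11 q) (wordR W11 q)) q) = true := by decide +kernel

theorem eq11_10 : allR 23980 2398 (fun q => (fun q => Nat.beq (f11 q) (wordR W11 q)) q) = true := by decide +kernel

theorem eq11_11 : allR 26378 2398 (fun q => (fun q => Nat.beq (f11 q) (wordR W11 q)) q) = true := by decide +kernel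

theorem eq11_12 : allR 28776 2398 (fun q => (fun q => Nat.beq (f11 q) (wordR W11 q)) q) = true := by decide +kernel

theorem eq11_13 : allR 31174 2398 (fun q => (fun q => Nat.beq (f11 q) (wordR W11 q)) q) = true := by decide +kernel

theorem eq11_14 : allR 33572 2398 (fun q => (fun q => Nat.beq (f11 q) (wordR W11 q)) q) = true := by decide +kernel

theorem eq11_15 : allR 35970 2398 (fun q => (fun q => Nat.beq (f11 q) (wordR W11 q)) q) = true := by decide +kernel

theorem eq11_16 : allR 38368 2398 (fun q => (fun q => Nat.beq (f11 q) (wordR W11 q)) q) = true := by decide +kernel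

theorem eq11_17 : allR 40766 2398 (fun q => (fun q => Nat.beq (f11 q) (wordR W11 q)) q) = true := by decide +kernel

theorem eq11_18 : allR 43164 2398 (fun q => (fun q => Nat.beq (f11 q) (wordR W11 q)) q) = true := by decide +kernel

theorem eq11_19 : allR 45562 2398 (fun q => (fun q => Nat.beq (f11 q) (wordR W11 q)) q) = true := by decide +kernel

theorem eq11_20 : allR 47960 2398 (fun q => (fun q => Nat.beq (f11 q) (wordR W11 q)) q) = true := by decide +kernel

theorem eq11_21 : allR 50358 2398 (fun q => (fun q => Nat.beq (f11 q) (wordR W11 q)) q) = true := by decide +kernel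

theorem eq11_22 : allR 52756 2398 (fun q => (fun q => Nat.beq (f11 q) (wordR W11 q)) q) = true := by decide +kernel

theorem eq11_23 : allR 55154 2398 (fun q => (fun q => Nat.beq (f11 q) (wordR W11 q)) q) = true := by decide +kernel

theorem eq11_24 : allR 57552 2398 (fun q => (fun q => Nat.beq (f11 q) (wordR W11 q)) q) = true := by decide +kernel


end Cfsg.Agent.Co1Out
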