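import Cfsg.Agent.Lib.Lead.Co1Out.D12

/-! # The outer automorphism group of Co₁: the check of the table number 12, slices (generated) -/

set_option autoImplicit false
set_option Elab.async false
set_option maxRecDepth 100000

namespace Cfsg.Agent.Co1Out

open Cfsg.Agent.PF Cfsg.Agent.Lib.Helper6 Cfsg.Agent.Lib.Helper6.TC Cfsg.Agent.Lib.Helper6.NatArr Cfsg.Agent.Co1P
open Cfsg.Agent.PL (Acts evalF)

theorem eq12_25 : allR 66425 2657 (fun q => (fun q => Nat.beq (f12 q) (wordR W12 q)) q) = true := by decide +kernel

theorem eq12_26 : allR 69082 2657 (fun q => (fun q => Nat.beq (f12 q) (wordR W12 q)) q) = true := by decide +kernel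

theorem eq12_27 : allR 71739 2657 (fun q => (fun q => Nat.beq (f12 q) (wordR W12 q)) q) = true := by decide +kernel

theorem eq12_28 : allR 74396 2657 (fun q => (fun q => Nat.beq (f12 q) (wordR W12 q)) q) = true := by decide +kernel

theorem eq12_29 : allR 77053 2657 (fun q => (fun q => Nat.beq (f12 q) (wordR W12 q)) q) = true := by decide +kernel

theorem eq12_30 : allR 79710 2657 (fun q => (fun q => Nat.beq (f12 q) (wordR W12 q)) q) = true := by decide +kernel

theorem eq12_31 : allR 82367 2657 (fun q => (fun q => Nat.beq (f12 q) (wordR W12 q)) q) = true := by decide +kernel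

theorem eq12_32 : allR 85024 2657 (fun q => (fun q => Nat.beq (f12 q) (wordR W12 q)) q) = true := by decide +kernel

theorem eq12_33 : allR 87681 2657 (fun q => (fun q => Nat.beq (f12 q) (wordR W12 q)) q) = true := by decide +kernel

theorem eq12_34 : allR 90338 2657 (fun q => (fun q => Nat.beq (f12 q) (wordR W12 q)) q) = true := by decide +kernel

theorem eq12_35 : allR 92995 2657 (fun q => (fun q => Nat.beq (f12 q) (wordR W12 q)) q) = true := by decide +kernel

theorem eq12_36 : allR 95652 2628 (fun q => (fun q => Nat.beq (f12 q) (wordR W12 q)) q) = true := by decide +kernel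


end Cfsg.Agent.Co1Out
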