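import Cfsg.Agent.Lib.Lead.Co1Out.C12_0
import Cfsg.Agent.Lib.Lead.Co1Out.C12_1

/-! # The outer automorphism group of Co₁: the check of the table number 12 (generated) -/

set_option autoImplicit false
set_option maxRecDepth 100000

namespace Cfsg.Agent.Co1Out

open Cfsg.Agent.PF Cfsg.Agent.Lib.Helper6 Cfsg.Agent.Lib.Helper6.TC Cfsg.Agent.Lib.Helper6.NatArr Cfsg.Agent.Co1P
open Cfsg.Agent.PL (Acts evalF)

theorem eq12_all : ∀ q < 98280, (fun q => Nat.beq (f12 q) (wordR W12 q)) q = true :=
  forall_lt_of_chunks (f := fun q => (fun q => Nat.beq (f12 q) (wordR W12 q)) q) [(0, 2657), (2657, 2657), (5314, 2657), (7971, 2657), (10628, 2657), (13285, 2657), (15942, 2657), (18599, 2657), (21256, 2657), (23913, 2657), (26570, 2657), (29227, 2657), (31884, 2657), (34541, 2657), (37198, 2657), (39855, 2657), (42512, 2657), (45169, 2657), (47826, 2657), (50483, 2657), (53140, 2657), (55797, 2657), (58454, 2657), (61111, 2657), (63768, 2657), (66425, 2657), (69082, 2657), (71739, 2657), (74396, 2657), (77053, 2657),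 (79710, 2657), (82367, 2657), (85024, 2657), (87681, 2657), (90338, 2657), (92995, 2657), (95652, 2628)] (by decide)
    (all_cons eq12_0 (all_cons eq12_1 (all_cons eq12_2 (all_cons eq12_3 (all_cons eq12_4 (all_cons eq12_5 (all_cons eq12_6 (all_cons eq12_7 (all_cons eq12_8 (all_cons eq12_9 (all_cons eq12_10 (all_cons eq12_11 (all_cons eq12_12 (all_cons eq12_13 (all_cons eq12_14 (all_cons eq12_15 (all_cons eq12_16 (all_cons eq12_17 (all_cons eq12_18 (all_cons eq12_19 (all_cons eq12_20 (all_cons eq12_21 (all_cons eq12_22 (all_cons eq12_23 (all_cons eq12_24 (all_cons eq12_25 (all_cons eq12_26 (all_cons eq12_27 (all_cons eq12_28 (all_cons eq12_29 (all_cons eq12_30 (all_cons eq12_31 (all_cons eq12_32 (all_cons eq12_33 (all_cons eq12_34 (all_cons eq12_35 (all_cons eq12_36 all_nil)))))))))))))))))))))))))))))))))))))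

/-- the table agrees with the word -/
theorem eq12 : ∀ q < 98280, f12 q = wordR W12 q :=
  fun q hq => Nat.eq_of_beq_eq_true (eq12_all q hq)

end Cfsg.Agent.Co1Out
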