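import Cfsg.Agent.Lib.Lead.Co1Out.D12

/-! # The outer automorphism group of Co₁: the check of the table number 12, slices (generated) -/

set_option autoImplicit false
set_option Elab.async false
set_option maxRecDepth 100000

namespace Cfsg.Agent.Co1Out

open Cfsg.Agent.PF Cfsg.Agent.Lib.Helper6 Cfsg.Agent.Lib.Helper6.TC Cfsg.Agent.Lib.Helper6.NatArr Cfsg.Agent.Co1P
open Cfsg.Agent.PL (Acts evalF)

theorem eq12_0 : allR 0 2657 (fun q => (fun q => Nat.beq (f12 q) (wordR W12 q)) q) = true := by decide +kernel

theorem eq12_1 : allR 2657 2657 (fun q => (fun q => Nat.beq (f12 q) (wordR W12 q)) q) = true := by decide +kernel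

theorem eq12_2 : allR 5314 2657 (fun q => (fun q => Nat.beq (f12 q) (wordR W12 q)) q) = true := by decide +kernel

theorem eq12_3 : allR 7971 2657 (fun q => (fun q => Nat.beq (f12 q) (wordR W12 q)) q) = true := by decide +kernel

theorem eq12_4 : allR 10628 2657 (fun q => (fun q => Nat.beq (f12 q) (wordR W12 q)) q) = true := by decide +kernel

theorem eq12_5 : allR 13285 2657 (fun q => (fun q => Nat.beq (f12 q) (wordR W12 q)) q) = true := by decide +kernel

theorem eq12_6 : allR 15942 2657 (fun q => (fun q => Nat.beq (f12 q) (wordR W12 q)) q) = true := by decide +kernel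

theorem eq12_7 : allR 18599 2657 (fun q => (fun q => Nat.beq (f12 q) (wordR W12 q)) q) = true := by decide +kernel

theorem eq12_8 : allR 21256 2657 (fun q => (fun q => Nat.beq (f12 q) (wordR W12 q)) q) = true := by decide +kernel

theorem eq12_9 : allR 23913 2657 (fun q => (fun q => Nat.beq (f12 q) (wordR W12 q)) q) = true := by decide +kernel

theorem eq12_10 : allR 26570 2657 (fun q => (fun q => Nat.beq (f12 q) (wordR W12 q)) q) = true := by decide +kernel

theorem eq12_11 : allR 29227 2657 (fun q => (fun q => Nat.beq (f12 q) (wordR W12 q)) q) = true := by decide +kernel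

theorem eq12_12 : allR 31884 2657 (fun q => (fun q => Nat.beq (f12 q) (wordR W12 q)) q) = true := by decide +kernel

theorem eq12_13 : allR 34541 2657 (fun q => (fun q => Nat.beq (f12 q) (wordR W12 q)) q) = true := by decide +kernel

theorem eq12_14 : allR 37198 2657 (fun q => (fun q => Nat.beq (f12 q) (wordR W12 q)) q) = true := by decide +kernel

theorem eq12_15 : allR 39855 2657 (fun q => (fun q => Nat.beq (f12 q) (wordR W12 q)) q) = true := by decide +kernel

theorem eq12_16 : allR 42512 2657 (fun q => (fun q => Nat.beq (f12 q) (wordR W12 q)) q) = true := by decide +kernel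

theorem eq12_17 : allR 45169 2657 (fun q => (fun q => Nat.beq (f12 q) (wordR W12 q)) q) = true := by decide +kernel

theorem eq12_18 : allR 47826 2657 (fun q => (fun q => Nat.beq (f12 q) (wordR W12 q)) q) = true := by decide +kernel

theorem eq12_19 : allR 50483 2657 (fun q => (fun q => Nat.beq (f12 q) (wordR W12 q)) q) = true := by decide +kernel

theorem eq12_20 : allR 53140 2657 (fun q => (fun q => Nat.beq (f12 q) (wordR W12 q)) q) = true := by decide +kernel

theorem eq12_21 : allR 55797 2657 (fun q => (fun q => Nat.beq (f12 q) (wordR W12 q)) q) = true := by decide +kernel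

theorem eq12_22 : allR 58454 2657 (fun q => (fun q => Nat.beq (f12 q) (wordR W12 q)) q) = true := by decide +kernel

theorem eq12_23 : allR 61111 2657 (fun q => (fun q => Nat.beq (f12 q) (wordR W12 q)) q) = true := by decide +kernel

theorem eq12_24 : allR 63768 2657 (fun q => (fun q => Nat.beq (f12 q) (wordR W12 q)) q) = true := by decide +kernel


end Cfsg.Agent.Co1Out
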