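import Cfsg.Agent.Lib.Lead.Co1Out.D14

/-! # The outer automorphism group of Co₁: the check of the table number 14, slices (generated) -/

set_option autoImplicit false
set_option Elab.async false
set_option maxRecDepth 100000

namespace Cfsg.Agent.Co1Out

open Cfsg.Agent.PF Cfsg.Agent.Lib.Helper6 Cfsg.Agent.Lib.Helper6.TC Cfsg.Agent.Lib.Helper6.NatArr Cfsg.Agent.Co1P
open Cfsg.Agent.PL (Acts evalF)

theorem eq14_0 : allR 0 4095 (fun q => (fun q => Nat.beq (f14 q) (wordR W14 q)) q) = true := by decide +kernel

theorem eq14_1 : allR 4095 4095 (fun q => (fun q => Nat.beq (f14 q) (wordR W14 q)) q) = true := by decide +kernel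

theorem eq14_2 : allR 8190 4095 (fun q => (fun q => Nat.beq (f14 q) (wordR W14 q)) q) = true := by decide +kernel

theorem eq14_3 : allR 12285 4095 (fun q => (fun q => Nat.beq (f14 q) (wordR W14 q)) q) = true := by decide +kernel

theorem eq14_4 : allR 16380 4095 (fun q => (fun q => Nat.beq (f14 q) (wordR W14 q)) q) = true := by decide +kernel

theorem eq14_5 : allR 20475 4095 (fun q => (fun q => Nat.beq (f14 q) (wordR W14 q)) q) = true := by decide +kernel

theorem eq14_6 : allR 24570 4095 (fun q => (fun q => Nat.beq (f14 q) (wordR W14 q)) q) = true := by decide +kernel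

theorem eq14_7 : allR 28665 4095 (fun q => (fun q => Nat.beq (f14 q) (wordR W14 q)) q) = true := by decide +kernel

theorem eq14_8 : allR 32760 4095 (fun q => (fun q => Nat.beq (f14 q) (wordR W14 q)) q) = true := by decide +kernel

theorem eq14_9 : allR 36855 4095 (fun q => (fun q => Nat.beq (f14 q) (wordR W14 q)) q) = true := by decide +kernel

theorem eq14_10 : allR 40950 4095 (fun q => (fun q => Nat.beq (f14 q) (wordR W14 q)) q) = true := by decide +kernel

theorem eq14_11 : allR 45045 4095 (fun q => (fun q => Nat.beq (f14 q) (wordR W14 q)) q) = true := by decide +kernel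

theorem eq14_12 : allR 49140 4095 (fun q => (fun q => Nat.beq (f14 q) (wordR W14 q)) q) = true := by decide +kernel

theorem eq14_13 : allR 53235 4095 (fun q => (fun q => Nat.beq (f14 q) (wordR W14 q)) q) = true := by decide +kernel

theorem eq14_14 : allR 57330 4095 (fun q => (fun q => Nat.beq (f14 q) (wordR W14 q)) q) = true := by decide +kernel

theorem eq14_15 : allR 61425 4095 (fun q => (fun q => Nat.beq (f14 q) (wordR W14 q)) q) = true := by decide +kernel

theorem eq14_16 : allR 65520 4095 (fun q => (fun q => Nat.beq (f14 q) (wordR W14 q)) q) = true := by decide +kernel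

theorem eq14_17 : allR 69615 4095 (fun q => (fun q => Nat.beq (f14 q) (wordR W14 q)) q) = true := by decide +kernel

theorem eq14_18 : allR 73710 4095 (fun q => (fun q => Nat.beq (f14 q) (wordR W14 q)) q) = true := by decide +kernel

theorem eq14_19 : allR 77805 4095 (fun q => (fun q => Nat.beq (f14 q) (wordR W14 q)) q) = true := by decide +kernel

theorem eq14_20 : allR 81900 4095 (fun q => (fun q => Nat.beq (f14 q) (wordR W14 q)) q) = true := by decide +kernel

theorem eq14_21 : allR 85995 4095 (fun q => (fun q => Nat.beq (f14 q) (wordR W14 q)) q) = true := by decide +kernel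

theorem eq14_22 : allR 90090 4095 (fun q => (fun q => Nat.beq (f14 q) (wordR W14 q)) q) = true := by decide +kernel

theorem eq14_23 : allR 94185 4095 (fun q => (fun q => Nat.beq (f14 q) (wordR W14 q)) q) = true := by decide +kernel


end Cfsg.Agent.Co1Out
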