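import Cfsg.Agent.Lib.Lead.Co1Out.D16

/-! # The outer automorphism group of Co₁: the check of the table number 16, slices (generated) -/

set_option autoImplicit false
set_option Elab.async false
set_option maxRecDepth 100000

namespace Cfsg.Agent.Co1Out

open Cfsg.Agent.PF Cfsg.Agent.Lib.Helper6 Cfsg.Agent.Lib.Helper6.TC Cfsg.Agent.Lib.Helper6.NatArr Cfsg.Agent.Co1P
open Cfsg.Agent.PL (Acts evalF)

theorem eq16_0 : allR 0 8935 (fun q => (fun q => Nat.beq (f16 q) (wordR W16 q)) q) = true := by decide +kernel

theorem eq16_1 : allR 8935 8935 (fun q => (fun q => Nat.beq (f16 q) (wordR W16 q)) q) = true := by decide +kernel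

theorem eq16_2 : allR 17870 8935 (fun q => (fun q => Nat.beq (f16 q) (wordR W16 q)) q) = true := by decide +kernel

theorem eq16_3 : allR 26805 8935 (fun q => (fun q => Nat.beq (f16 q) (wordR W16 q)) q) = true := by decide +kernel

theorem eq16_4 : allR 35740 8935 (fun q => (fun q => Nat.beq (f16 q) (wordR W16 q)) q) = true := by decide +kernel

theorem eq16_5 : allR 44675 8935 (fun q => (fun q => Nat.beq (f16 q) (wordR W16 q)) q) = true := by decide +kernel

theorem eq16_6 : allR 53610 8935 (fun q => (fun q => Nat.beq (f16 q) (wordR W16 q)) q) = true := by decide +kernel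

theorem eq16_7 : allR 62545 8935 (fun q => (fun q => Nat.beq (f16 q) (wordR W16 q)) q) = true := by decide +kernel

theorem eq16_8 : allR 71480 8935 (fun q => (fun q => Nat.beq (f16 q) (wordR W16 q)) q) = true := by decide +kernel

theorem eq16_9 : allR 80415 8935 (fun q => (fun q => Nat.beq (f16 q) (wordR W16 q)) q) = true := by decide +kernel

theorem eq16_10 : allR 89350 8930 (fun q => (fun q => Nat.beq (f16 q) (wordR W16 q)) q) = true := by decide +kernel


end Cfsg.Agent.Co1Out
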