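import Cfsg.Agent.Lib.Lead.Co1Out.D17

/-! # The outer automorphism group of Co₁: the check of the table number 17, slices (generated) -/

set_option autoImplicit false
set_option Elab.async false
set_option maxRecDepth 100000

namespace Cfsg.Agent.Co1Out

open Cfsg.Agent.PF Cfsg.Agent.Lib.Helper6 Cfsg.Agent.Lib.Helper6.TC Cfsg.Agent.Lib.Helper6.NatArr Cfsg.Agent.Co1P
open Cfsg.Agent.PL (Acts evalF)

theorem eq17_0 : allR 0 3640 (fun q => (fun q => Nat.beq (f17 q) (wordR W17 q)) q) = true := by decide +kernel

theorem eq17_1 : allR 3640 3640 (fun q => (fun q => Nat.beq (f17 q) (wordR W17 q)) q) = true := by decide +kernel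

theorem eq17_2 : allR 7280 3640 (fun q => (fun q => Nat.beq (f17 q) (wordR W17 q)) q) = true := by decide +kernel

theorem eq17_3 : allR 10920 3640 (fun q => (fun q => Nat.beq (f17 q) (wordR W17 q)) q) = true := by decide +kernel

theorem eq17_4 : allR 14560 3640 (fun q => (fun q => Nat.beq (f17 q) (wordR W17 q)) q) = true := by decide +kernel

theorem eq17_5 : allR 18200 3640 (fun q => (fun q => Nat.beq (f17 q) (wordR W17 q)) q) = true := by decide +kernel

theorem eq17_6 : allR 21840 3640 (fun q => (fun q => Nat.beq (f17 q) (wordR W17 q)) q) = true := by decide +kernel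

theorem eq17_7 : allR 25480 3640 (fun q => (fun q => Nat.beq (f17 q) (wordR W17 q)) q) = true := by decide +kernel

theorem eq17_8 : allR 29120 3640 (fun q => (fun q => Nat.beq (f17 q) (wordR W17 q)) q) = true := by decide +kernel

theorem eq17_9 : allR 32760 3640 (fun q => (fun q => Nat.beq (f17 q) (wordR W17 q)) q) = true := by decide +kernel

theorem eq17_10 : allR 36400 3640 (fun q => (fun q => Nat.beq (f17 q) (wordR W17 q)) q) = true := by decide +kernel

theorem eq17_11 : allR 40040 3640 (fun q => (fun q => Nat.beq (f17 q) (wordR W17 q)) q) = true := by decide +kernel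

theorem eq17_12 : allR 43680 3640 (fun q => (fun q => Nat.beq (f17 q) (wordR W17 q)) q) = true := by decide +kernel

theorem eq17_13 : allR 47320 3640 (fun q => (fun q => Nat.beq (f17 q) (wordR W17 q)) q) = true := by decide +kernel

theorem eq17_14 : allR 50960 3640 (fun q => (fun q => Nat.beq (f17 q) (wordR W17 q)) q) = true := by decide +kernel

theorem eq17_15 : allR 54600 3640 (fun q => (fun q => Nat.beq (f17 q) (wordR W17 q)) q) = true := by decide +kernel

theorem eq17_16 : allR 58240 3640 (fun q => (fun q => Nat.beq (f17 q) (wordR W17 q)) q) = true := by decide +kernel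

theorem eq17_17 : allR 61880 3640 (fun q => (fun q => Nat.beq (f17 q) (wordR W17 q)) q) = true := by decide +kernel

theorem eq17_18 : allR 65520 3640 (fun q => (fun q => Nat.beq (f17 q) (wordR W17 q)) q) = true := by decide +kernel

theorem eq17_19 : allR 69160 3640 (fun q => (fun q => Nat.beq (f17 q) (wordR W17 q)) q) = true := by decide +kernel

theorem eq17_20 : allR 72800 3640 (fun q => (fun q => Nat.beq (f17 q) (wordR W17 q)) q) = true := by decide +kernel

theorem eq17_21 : allR 76440 3640 (fun q => (fun q => Nat.beq (f17 q) (wordR W17 q)) q) = true := by decide +kernel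

theorem eq17_22 : allR 80080 3640 (fun q => (fun q => Nat.beq (f17 q) (wordR W17 q)) q) = true := by decide +kernel

theorem eq17_23 : allR 83720 3640 (fun q => (fun q => Nat.beq (f17 q) (wordR W17 q)) q) = true := by decide +kernel

theorem eq17_24 : allR 87360 3640 (fun q => (fun q => Nat.beq (f17 q) (wordR W17 q)) q) = true := by decide +kernel


end Cfsg.Agent.Co1Out
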