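import Cfsg.Agent.Lib.Lead.Co1Out.C18_0

/-! # The outer automorphism group of Co₁: the check of the table number 18 (generated) -/

set_option autoImplicit false
set_option maxRecDepth 100000

namespace Cfsg.Agent.Co1Out

open Cfsg.Agent.PF Cfsg.Agent.Lib.Helper6 Cfsg.Agent.Lib.Helper6.TC Cfsg.Agent.Lib.Helper6.NatArr Cfsg.Agent.Co1P
open Cfsg.Agent.PL (Acts evalF)

theorem eq18_all : ∀ q < 98280, (fun q => Nat.beq (f18 q) (wordR W18 q)) q = true :=
  forall_lt_of_chunks (f := fun q => (fun q => Nat.beq (f18 q) (wordR W18 q)) q) [(0, 4468), (4468, 4468), (8936, 4468), (13404, 4468), (17872, 4468), (22340, 4468), (26808, 4468), (31276, 4468), (35744, 4468), (40212, 4468), (44680, 4468), (49148, 4468), (53616, 4468), (58084, 4468), (62552, 4468), (67020, 4468), (71488, 4468), (75956, 4468), (80424, 4468), (84892, 4468), (89360, 4468), (93828, 4452)] (by decide)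
    (all_cons eq18_0 (all_cons eq18_1 (all_cons eq18_2 (all_cons eq18_3 (all_cons eq18_4 (all_cons eq18_5 (all_cons eq18_6 (all_cons eq18_7 (all_cons eq18_8 (all_cons eq18_9 (all_cons eq18_10 (all_cons eq18_11 (all_cons eq18_12 (all_cons eq18_13 (all_cons eq18_14 (all_cons eq18_15 (all_cons eq18_16 (all_cons eq18_17 (all_cons eq18_18 (all_cons eq18_19 (all_cons eq18_20 (all_cons eq18_21 all_nil))))))))))))))))))))))

/-- the table agrees with the word -/
theorem eq18 : ∀ q < 98280, f18 q = wordR W18 q :=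
  fun q hq => Nat.eq_of_beq_eq_true (eq18_all q hq)

end Cfsg.Agent.Co1Out
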