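import Cfsg.Agent.Lib.Lead.Co1Out.D18

/-! # The outer automorphism group of Co₁: the check of the table number 18, slices (generated) -/

set_option autoImplicit false
set_option Elab.async false
set_option maxRecDepth 100000

namespace Cfsg.Agent.Co1Out

open Cfsg.Agent.PF Cfsg.Agent.Lib.Helper6 Cfsg.Agent.Lib.Helper6.TC Cfsg.Agent.Lib.Helper6.NatArr Cfsg.Agent.Co1P
open Cfsg.Agent.PL (Acts evalF)

theorem eq18_0 : allR 0 4468 (fun q => (fun q => Nat.beq (f18 q) (wordR W18 q)) q) = true := by decide +kernel

theorem eq18_1 : allR 4468 4468 (fun q => (fun q => Nat.beq (f18 q) (wordR W18 q)) q) = true := by decide +kernel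

theorem eq18_2 : allR 8936 4468 (fun q => (fun q => Nat.beq (f18 q) (wordR W18 q)) q) = true := by decide +kernel

theorem eq18_3 : allR 13404 4468 (fun q => (fun q => Nat.beq (f18 q) (wordR W18 q)) q) = true := by decide +kernel

theorem eq18_4 : allR 17872 4468 (fun q => (fun q => Nat.beq (f18 q) (wordR W18 q)) q) = true := by decide +kernel

theorem eq18_5 : allR 22340 4468 (fun q => (fun q => Nat.beq (f18 q) (wordR W18 q)) q) = true := by decide +kernel

theorem eq18_6 : allR 26808 4468 (fun q => (fun q => Nat.beq (f18 q) (wordR W18 q)) q) = true := by decide +kernel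

theorem eq18_7 : allR 31276 4468 (fun q => (fun q => Nat.beq (f18 q) (wordR W18 q)) q) = true := by decide +kernel

theorem eq18_8 : allR 35744 4468 (fun q => (fun q => Nat.beq (f18 q) (wordR W18 q)) q) = true := by decide +kernel

theorem eq18_9 : allR 40212 4468 (fun q => (fun q => Nat.beq (f18 q) (wordR W18 q)) q) = true := by decide +kernel

theorem eq18_10 : allR 44680 4468 (fun q => (fun q => Nat.beq (f18 q) (wordR W18 q)) q) = true := by decide +kernel

theorem eq18_11 : allR 49148 4468 (fun q => (fun q => Nat.beq (f18 q) (wordR W18 q)) q) = true := by decide +kernel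

theorem eq18_12 : allR 53616 4468 (fun q => (fun q => Nat.beq (f18 q) (wordR W18 q)) q) = true := by decide +kernel

theorem eq18_13 : allR 58084 4468 (fun q => (fun q => Nat.beq (f18 q) (wordR W18 q)) q) = true := by decide +kernel

theorem eq18_14 : allR 62552 4468 (fun q => (fun q => Nat.beq (f18 q) (wordR W18 q)) q) = true := by decide +kernel

theorem eq18_15 : allR 67020 4468 (fun q => (fun q => Nat.beq (f18 q) (wordR W18 q)) q) = true := by decide +kernel

theorem eq18_16 : allR 71488 4468 (fun q => (fun q => Nat.beq (f18 q) (wordR W18 q)) q) = true := by decide +kernel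

theorem eq18_17 : allR 75956 4468 (fun q => (fun q => Nat.beq (f18 q) (wordR W18 q)) q) = true := by decide +kernel

theorem eq18_18 : allR 80424 4468 (fun q => (fun q => Nat.beq (f18 q) (wordR W18 q)) q) = true := by decide +kernel

theorem eq18_19 : allR 84892 4468 (fun q => (fun q => Nat.beq (f18 q) (wordR W18 q)) q) = true := by decide +kernel

theorem eq18_20 : allR 89360 4468 (fun q => (fun q => Nat.beq (f18 q) (wordR W18 q)) q) = true := by decide +kernel

theorem eq18_21 : allR 93828 4452 (fun q => (fun q => Nat.beq (f18 q) (wordR W18 q)) q) = true := by decide +kernel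


end Cfsg.Agent.Co1Out
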