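import Cfsg.Agent.Lib.Lead.Co1Out.C19_0
import Cfsg.Agent.Lib.Lead.Co1Out.C19_1

/-! # The outer automorphism group of Co₁: the check of the table number 19 (generated) -/

set_option autoImplicit false
set_option maxRecDepth 100000

namespace Cfsg.Agent.Co1Out

open Cfsg.Agent.PF Cfsg.Agent.Lib.Helper6 Cfsg.Agent.Lib.Helper6.TC Cfsg.Agent.Lib.Helper6.NatArr Cfsg.Agent.Co1P
open Cfsg.Agent.PL (Acts evalF)

theorem eq19_all : ∀ q < 98280, (fun q => Nat.beq (f19 q) (wordR W19 q)) q = true :=
  forall_lt_of_chunks (f := fun q => (fun q => Nat.beq (f19 q) (wordR W19 q)) q) [(0, 2730), (2730, 2730), (5460, 2730), (8190, 2730), (10920, 2730), (13650, 2730), (16380, 2730), (19110, 2730), (21840, 2730), (24570, 2730), (27300, 2730), (30030, 2730), (32760, 2730), (35490, 2730), (38220, 2730), (40950, 2730), (43680, 2730), (46410, 2730), (49140, 2730), (51870, 2730), (54600, 2730), (57330, 2730), (60060, 2730), (62790, 2730), (65520, 2730), (68250, 2730), (70980, 2730), (73710, 2730), (76440, 2730), (79170, 2730),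 (81900, 2730), (84630, 2730), (87360, 2730), (90090, 2730), (92820, 2730), (95550, 2730)] (by decide)
    (all_cons eq19_0 (all_cons eq19_1 (all_cons eq19_2 (all_cons eq19_3 (all_cons eq19_4 (all_cons eq19_5 (all_cons eq19_6 (all_cons eq19_7 (all_cons eq19_8 (all_cons eq19_9 (all_cons eq19_10 (all_cons eq19_11 (all_cons eq19_12 (all_cons eq19_13 (all_cons eq19_14 (all_cons eq19_15 (all_cons eq19_16 (all_cons eq19_17 (all_cons eq19_18 (all_cons eq19_19 (all_cons eq19_20 (all_cons eq19_21 (all_cons eq19_22 (all_cons eq19_23 (all_cons eq19_24 (all_cons eq19_25 (all_cons eq19_26 (all_cons eq19_27 (all_cons eq19_28 (all_cons eq19_29 (all_cons eq19_30 (all_cons eq19_31 (all_cons eq19_32 (all_cons eq19_33 (all_cons eq19_34 (all_cons eq19_35 all_nil))))))))))))))))))))))))))))))))))))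

/-- the table agrees with the word -/
theorem eq19 : ∀ q < 98280, f19 q = wordR W19 q :=
  fun q hq => Nat.eq_of_beq_eq_true (eq19_all q hq)

end Cfsg.Agent.Co1Out
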