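import Cfsg.Agent.Lib.Lead.Co1Out.D19

/-! # The outer automorphism group of Co₁: the check of the table number 19, slices (generated) -/

set_option autoImplicit false
set_option Elab.async false
set_option maxRecDepth 100000

namespace Cfsg.Agent.Co1Out

open Cfsg.Agent.PF Cfsg.Agent.Lib.Helper6 Cfsg.Agent.Lib.Helper6.TC Cfsg.Agent.Lib.Helper6.NatArr Cfsg.Agent.Co1P
open Cfsg.Agent.PL (Acts evalF)

theorem eq19_0 : allR 0 2730 (fun q => (fun q => Nat.beq (f19 q) (wordR W19 q)) q) = true := by decide +kernel

theorem eq19_1 : allR 2730 2730 (fun q => (fun q => Nat.beq (f19 q) (wordR W19 q)) q) = true := by decide +kernel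

theorem eq19_2 : allR 5460 2730 (fun q => (fun q => Nat.beq (f19 q) (wordR W19 q)) q) = true := by decide +kernel

theorem eq19_3 : allR 8190 2730 (fun q => (fun q => Nat.beq (f19 q) (wordR W19 q)) q) = true := by decide +kernel

theorem eq19_4 : allR 10920 2730 (fun q => (fun q => Nat.beq (f19 q) (wordR W19 q)) q) = true := by decide +kernel

theorem eq19_5 : allR 13650 2730 (fun q => (fun q => Nat.beq (f19 q) (wordR W19 q)) q) = true := by decide +kernel

theorem eq19_6 : allR 16380 2730 (fun q => (fun q => Nat.beq (f19 q) (wordR W19 q)) q) = true := by decide +kernel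

theorem eq19_7 : allR 19110 2730 (fun q => (fun q => Nat.beq (f19 q) (wordR W19 q)) q) = true := by decide +kernel

theorem eq19_8 : allR 21840 2730 (fun q => (fun q => Nat.beq (f19 q) (wordR W19 q)) q) = true := by decide +kernel

theorem eq19_9 : allR 24570 2730 (fun q => (fun q => Nat.beq (f19 q) (wordR W19 q)) q) = true := by decide +kernel

theorem eq19_10 : allR 27300 2730 (fun q => (fun q => Nat.beq (f19 q) (wordR W19 q)) q) = true := by decide +kernel

theorem eq19_11 : allR 30030 2730 (fun q => (fun q => Nat.beq (f19 q) (wordR W19 q)) q) = true := by decide +kernel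

theorem eq19_12 : allR 32760 2730 (fun q => (fun q => Nat.beq (f19 q) (wordR W19 q)) q) = true := by decide +kernel

theorem eq19_13 : allR 35490 2730 (fun q => (fun q => Nat.beq (f19 q) (wordR W19 q)) q) = true := by decide +kernel

theorem eq19_14 : allR 38220 2730 (fun q => (fun q => Nat.beq (f19 q) (wordR W19 q)) q) = true := by decide +kernel

theorem eq19_15 : allR 40950 2730 (fun q => (fun q => Nat.beq (f19 q) (wordR W19 q)) q) = true := by decide +kernel

theorem eq19_16 : allR 43680 2730 (fun q => (fun q => Nat.beq (f19 q) (wordR W19 q)) q) = true := by decide +kernel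

theorem eq19_17 : allR 46410 2730 (fun q => (fun q => Nat.beq (f19 q) (wordR W19 q)) q) = true := by decide +kernel

theorem eq19_18 : allR 49140 2730 (fun q => (fun q => Nat.beq (f19 q) (wordR W19 q)) q) = true := by decide +kernel

theorem eq19_19 : allR 51870 2730 (fun q => (fun q => Nat.beq (f19 q) (wordR W19 q)) q) = true := by decide +kernel

theorem eq19_20 : allR 54600 2730 (fun q => (fun q => Nat.beq (f19 q) (wordR W19 q)) q) = true := by decide +kernel

theorem eq19_21 : allR 57330 2730 (fun q => (fun q => Nat.beq (f19 q) (wordR W19 q)) q) = true := by decide +kernel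

theorem eq19_22 : allR 60060 2730 (fun q => (fun q => Nat.beq (f19 q) (wordR W19 q)) q) = true := by decide +kernel

theorem eq19_23 : allR 62790 2730 (fun q => (fun q => Nat.beq (f19 q) (wordR W19 q)) q) = true := by decide +kernel

theorem eq19_24 : allR 65520 2730 (fun q => (fun q => Nat.beq (f19 q) (wordR W19 q)) q) = true := by decide +kernel


end Cfsg.Agent.Co1Out
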