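import Cfsg.Agent.Lib.Lead.Co1Out.C21_0

/-! # The outer automorphism group of Co₁: the check of the table number 21 (generated) -/

set_option autoImplicit false
set_option maxRecDepth 100000

namespace Cfsg.Agent.Co1Out

open Cfsg.Agent.PF Cfsg.Agent.Lib.Helper6 Cfsg.Agent.Lib.Helper6.TC Cfsg.Agent.Lib.Helper6.NatArr Cfsg.Agent.Co1P
open Cfsg.Agent.PL (Acts evalF)

theorem eq21_all : ∀ q < 98280, (fun q => Nat.beq (f21 q) (wordR W21 q)) q = true :=
  forall_lt_of_chunks (f := fun q => (fun q => Nat.beq (f21 q) (wordR W21 q)) q) [(0, 3932), (3932, 3932), (7864, 3932), (11796, 3932), (15728, 3932), (19660, 3932), (23592, 3932), (27524, 3932), (31456, 3932), (35388, 3932), (39320, 3932), (43252, 3932), (47184, 3932), (51116, 3932), (55048, 3932), (58980, 3932), (62912, 3932), (66844, 3932), (70776, 3932), (74708, 3932), (78640, 3932), (82572, 3932), (86504, 3932), (90436, 3932), (94368, 3912)] (by decide)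
    (all_cons eq21_0 (all_cons eq21_1 (all_cons eq21_2 (all_cons eq21_3 (all_cons eq21_4 (all_cons eq21_5 (all_cons eq21_6 (all_cons eq21_7 (all_cons eq21_8 (all_cons eq21_9 (all_cons eq21_10 (all_cons eq21_11 (all_cons eq21_12 (all_cons eq21_13 (all_cons eq21_14 (all_cons eq21_15 (all_cons eq21_16 (all_cons eq21_17 (all_cons eq21_18 (all_cons eq21_19 (all_cons eq21_20 (all_cons eq21_21 (all_cons eq21_22 (all_cons eq21_23 (all_cons eq21_24 all_nil)))))))))))))))))))))))))

/-- the table agrees with the word -/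
theorem eq21 : ∀ q < 98280, f21 q = wordR W21 q :=
  fun q hq => Nat.eq_of_beq_eq_true (eq21_all q hq)

end Cfsg.Agent.Co1Out
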