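import Cfsg.Agent.Lib.Lead.Co1Out.D21

/-! # The outer automorphism group of Co₁: the check of the table number 21, slices (generated) -/

set_option autoImplicit false
set_option Elab.async false
set_option maxRecDepth 100000

namespace Cfsg.Agent.Co1Out

open Cfsg.Agent.PF Cfsg.Agent.Lib.Helper6 Cfsg.Agent.Lib.Helper6.TC Cfsg.Agent.Lib.Helper6.NatArr Cfsg.Agent.Co1P
open Cfsg.Agent.PL (Acts evalF)

theorem eq21_0 : allR 0 3932 (fun q => (fun q => Nat.beq (f21 q) (wordR W21 q)) q) = true := by decide +kernel

theorem eq21_1 : allR 3932 3932 (fun q => (fun q => Nat.beq (f21 q) (wordR W21 q)) q) = true := by decide +kernel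

theorem eq21_2 : allR 7864 3932 (fun q => (fun q => Nat.beq (f21 q) (wordR W21 q)) q) = true := by decide +kernel

theorem eq21_3 : allR 11796 3932 (fun q => (fun q => Nat.beq (f21 q) (wordR W21 q)) q) = true := by decide +kernel

theorem eq21_4 : allR 15728 3932 (fun q => (fun q => Nat.beq (f21 q) (wordR W21 q)) q) = true := by decide +kernel

theorem eq21_5 : allR 19660 3932 (fun q => (fun q => Nat.beq (f21 q) (wordR W21 q)) q) = true := by decide +kernel

theorem eq21_6 : allR 23592 3932 (fun q => (fun q => Nat.beq (f21 q) (wordR W21 q)) q) = true := by decide +kernel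

theorem eq21_7 : allR 27524 3932 (fun q => (fun q => Nat.beq (f21 q) (wordR W21 q)) q) = true := by decide +kernel

theorem eq21_8 : allR 31456 3932 (fun q => (fun q => Nat.beq (f21 q) (wordR W21 q)) q) = true := by decide +kernel

theorem eq21_9 : allR 35388 3932 (fun q => (fun q => Nat.beq (f21 q) (wordR W21 q)) q) = true := by decide +kernel

theorem eq21_10 : allR 39320 3932 (fun q => (fun q => Nat.beq (f21 q) (wordR W21 q)) q) = true := by decide +kernel

theorem eq21_11 : allR 43252 3932 (fun q => (fun q => Nat.beq (f21 q) (wordR W21 q)) q) = true := by decide +kernel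

theorem eq21_12 : allR 47184 3932 (fun q => (fun q => Nat.beq (f21 q) (wordR W21 q)) q) = true := by decide +kernel

theorem eq21_13 : allR 51116 3932 (fun q => (fun q => Nat.beq (f21 q) (wordR W21 q)) q) = true := by decide +kernel

theorem eq21_14 : allR 55048 3932 (fun q => (fun q => Nat.beq (f21 q) (wordR W21 q)) q) = true := by decide +kernel

theorem eq21_15 : allR 58980 3932 (fun q => (fun q => Nat.beq (f21 q) (wordR W21 q)) q) = true := by decide +kernel

theorem eq21_16 : allR 62912 3932 (fun q => (fun q => Nat.beq (f21 q) (wordR W21 q)) q) = true := by decide +kernel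

theorem eq21_17 : allR 66844 3932 (fun q => (fun q => Nat.beq (f21 q) (wordR W21 q)) q) = true := by decide +kernel

theorem eq21_18 : allR 70776 3932 (fun q => (fun q => Nat.beq (f21 q) (wordR W21 q)) q) = true := by decide +kernel

theorem eq21_19 : allR 74708 3932 (fun q => (fun q => Nat.beq (f21 q) (wordR W21 q)) q) = true := by decide +kernel

theorem eq21_20 : allR 78640 3932 (fun q => (fun q => Nat.beq (f21 q) (wordR W21 q)) q) = true := by decide +kernel

theorem eq21_21 : allR 82572 3932 (fun q => (fun q => Nat.beq (f21 q) (wordR W21 q)) q) = true := by decide +kernel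

theorem eq21_22 : allR 86504 3932 (fun q => (fun q => Nat.beq (f21 q) (wordR W21 q)) q) = true := by decide +kernel

theorem eq21_23 : allR 90436 3932 (fun q => (fun q => Nat.beq (f21 q) (wordR W21 q)) q) = true := by decide +kernel

theorem eq21_24 : allR 94368 3912 (fun q => (fun q => Nat.beq (f21 q) (wordR W21 q)) q) = true := by decide +kernel


end Cfsg.Agent.Co1Out
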