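import Cfsg.Agent.Lib.Lead.Co1Out.C22_0

/-! # The outer automorphism group of Co₁: the check of the table number 22 (generated) -/

set_option autoImplicit false
set_option maxRecDepth 100000

namespace Cfsg.Agent.Co1Out

open Cfsg.Agent.PF Cfsg.Agent.Lib.Helper6 Cfsg.Agent.Lib.Helper6.TC Cfsg.Agent.Lib.Helper6.NatArr Cfsg.Agent.Co1P
open Cfsg.Agent.PL (Acts evalF)

theorem eq22_all : ∀ q < 98280, (fun q => Nat.beq (f22 q) (wordR W22 q)) q = true :=
  forall_lt_of_chunks (f := fun q => (fun q => Nat.beq (f22 q) (wordR W22 q)) q) [(0, 6143), (6143, 6143), (12286, 6143), (18429, 6143), (24572, 6143), (30715, 6143), (36858, 6143), (43001, 6143), (49144, 6143), (55287, 6143), (61430, 6143), (67573, 6143), (73716, 6143), (79859, 6143), (86002, 6143), (92145, 6135)] (by decide)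
    (all_cons eq22_0 (all_cons eq22_1 (all_cons eq22_2 (all_cons eq22_3 (all_cons eq22_4 (all_cons eq22_5 (all_cons eq22_6 (all_cons eq22_7 (all_cons eq22_8 (all_cons eq22_9 (all_cons eq22_10 (all_cons eq22_11 (all_cons eq22_12 (all_cons eq22_13 (all_cons eq22_14 (all_cons eq22_15 all_nil))))))))))))))))

/-- the table agrees with the word -/
theorem eq22 : ∀ q < 98280, f22 q = wordR W22 q :=
  fun q hq => Nat.eq_of_beq_eq_true (eq22_all q hq)

end Cfsg.Agent.Co1Out
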