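import Cfsg.Agent.Lib.Lead.Co1Out.D22

/-! # The outer automorphism group of Co₁: the check of the table number 22, slices (generated) -/

set_option autoImplicit false
set_option Elab.async false
set_option maxRecDepth 100000

namespace Cfsg.Agent.Co1Out

open Cfsg.Agent.PF Cfsg.Agent.Lib.Helper6 Cfsg.Agent.Lib.Helper6.TC Cfsg.Agent.Lib.Helper6.NatArr Cfsg.Agent.Co1P
open Cfsg.Agent.PL (Acts evalF)

theorem eq22_0 : allR 0 6143 (fun q => (fun q => Nat.beq (f22 q) (wordR W22 q)) q) = true := by decide +kernel

theorem eq22_1 : allR 6143 6143 (fun q => (fun q => Nat.beq (f22 q) (wordR W22 q)) q) = true := by decide +kernel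

theorem eq22_2 : allR 12286 6143 (fun q => (fun q => Nat.beq (f22 q) (wordR W22 q)) q) = true := by decide +kernel

theorem eq22_3 : allR 18429 6143 (fun q => (fun q => Nat.beq (f22 q) (wordR W22 q)) q) = true := by decide +kernel

theorem eq22_4 : allR 24572 6143 (fun q => (fun q => Nat.beq (f22 q) (wordR W22 q)) q) = true := by decide +kernel

theorem eq22_5 : allR 30715 6143 (fun q => (fun q => Nat.beq (f22 q) (wordR W22 q)) q) = true := by decide +kernel

theorem eq22_6 : allR 36858 6143 (fun q => (fun q => Nat.beq (f22 q) (wordR W22 q)) q) = true := by decide +kernel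

theorem eq22_7 : allR 43001 6143 (fun q => (fun q => Nat.beq (f22 q) (wordR W22 q)) q) = true := by decide +kernel

theorem eq22_8 : allR 49144 6143 (fun q => (fun q => Nat.beq (f22 q) (wordR W22 q)) q) = true := by decide +kernel

theorem eq22_9 : allR 55287 6143 (fun q => (fun q => Nat.beq (f22 q) (wordR W22 q)) q) = true := by decide +kernel

theorem eq22_10 : allR 61430 6143 (fun q => (fun q => Nat.beq (f22 q) (wordR W22 q)) q) = true := by decide +kernel

theorem eq22_11 : allR 67573 6143 (fun q => (fun q => Nat.beq (f22 q) (wordR W22 q)) q) = true := by decide +kernel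

theorem eq22_12 : allR 73716 6143 (fun q => (fun q => Nat.beq (f22 q) (wordR W22 q)) q) = true := by decide +kernel

theorem eq22_13 : allR 79859 6143 (fun q => (fun q => Nat.beq (f22 q) (wordR W22 q)) q) = true := by decide +kernel

theorem eq22_14 : allR 86002 6143 (fun q => (fun q => Nat.beq (f22 q) (wordR W22 q)) q) = true := by decide +kernel

theorem eq22_15 : allR 92145 6135 (fun q => (fun q => Nat.beq (f22 q) (wordR W22 q)) q) = true := by decide +kernel


end Cfsg.Agent.Co1Out
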