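import Cfsg.Agent.Lib.Lead.Co1Out.C23_0

/-! # The outer automorphism group of Co₁: the check of the table number 23 (generated) -/

set_option autoImplicit false
set_option maxRecDepth 100000

namespace Cfsg.Agent.Co1Out

open Cfsg.Agent.PF Cfsg.Agent.Lib.Helper6 Cfsg.Agent.Lib.Helper6.TC Cfsg.Agent.Lib.Helper6.NatArr Cfsg.Agent.Co1P
open Cfsg.Agent.PL (Acts evalF)

theorem eq23_all : ∀ q < 98280, (fun q => Nat.beq (f23 q) (wordR W23 q)) q = true :=
  forall_lt_of_chunks (f := fun q => (fun q => Nat.beq (f23 q) (wordR W23 q)) q) [(0, 8190), (8190, 8190), (16380, 8190), (24570, 8190), (32760, 8190), (40950, 8190), (49140, 8190), (57330, 8190), (65520, 8190), (73710, 8190), (81900, 8190), (90090, 8190)] (by decide)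
    (all_cons eq23_0 (all_cons eq23_1 (all_cons eq23_2 (all_cons eq23_3 (all_cons eq23_4 (all_cons eq23_5 (all_cons eq23_6 (all_cons eq23_7 (all_cons eq23_8 (all_cons eq23_9 (all_cons eq23_10 (all_cons eq23_11 all_nil))))))))))))

/-- the table agrees with the word -/
theorem eq23 : ∀ q < 98280, f23 q = wordR W23 q :=
  fun q hq => Nat.eq_of_beq_eq_true (eq23_all q hq)

end Cfsg.Agent.Co1Out
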