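import Cfsg.Agent.Lib.Lead.Co1Out.D23

/-! # The outer automorphism group of Co₁: the check of the table number 23, slices (generated) -/

set_option autoImplicit false
set_option Elab.async false
set_option maxRecDepth 100000

namespace Cfsg.Agent.Co1Out

open Cfsg.Agent.PF Cfsg.Agent.Lib.Helper6 Cfsg.Agent.Lib.Helper6.TC Cfsg.Agent.Lib.Helper6.NatArr Cfsg.Agent.Co1P
open Cfsg.Agent.PL (Acts evalF)

theorem eq23_0 : allR 0 8190 (fun q => (fun q => Nat.beq (f23 q) (wordR W23 q)) q) = true := by decide +kernel

theorem eq23_1 : allR 8190 8190 (fun q => (fun q => Nat.beq (f23 q) (wordR W23 q)) q) = true := by decide +kernel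

theorem eq23_2 : allR 16380 8190 (fun q => (fun q => Nat.beq (f23 q) (wordR W23 q)) q) = true := by decide +kernel

theorem eq23_3 : allR 24570 8190 (fun q => (fun q => Nat.beq (f23 q) (wordR W23 q)) q) = true := by decide +kernel

theorem eq23_4 : allR 32760 8190 (fun q => (fun q => Nat.beq (f23 q) (wordR W23 q)) q) = true := by decide +kernel

theorem eq23_5 : allR 40950 8190 (fun q => (fun q => Nat.beq (f23 q) (wordR W23 q)) q) = true := by decide +kernel

theorem eq23_6 : allR 49140 8190 (fun q => (fun q => Nat.beq (f23 q) (wordR W23 q)) q) = true := by decide +kernel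

theorem eq23_7 : allR 57330 8190 (fun q => (fun q => Nat.beq (f23 q) (wordR W23 q)) q) = true := by decide +kernel

theorem eq23_8 : allR 65520 8190 (fun q => (fun q => Nat.beq (f23 q) (wordR W23 q)) q) = true := by decide +kernel

theorem eq23_9 : allR 73710 8190 (fun q => (fun q => Nat.beq (f23 q) (wordR W23 q)) q) = true := by decide +kernel

theorem eq23_10 : allR 81900 8190 (fun q => (fun q => Nat.beq (f23 q) (wordR W23 q)) q) = true := by decide +kernel

theorem eq23_11 : allR 90090 8190 (fun q => (fun q => Nat.beq (f23 q) (wordR W23 q)) q) = true := by decide +kernel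


end Cfsg.Agent.Co1Out
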