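import Cfsg.Agent.Lib.Lead.Co1Out.C24_0
import Cfsg.Agent.Lib.Lead.Co1Out.C24_1

/-! # The outer automorphism group of Co₁: the check of the table number 24 (generated) -/

set_option autoImplicit false
set_option maxRecDepth 100000

namespace Cfsg.Agent.Co1Out

open Cfsg.Agent.PF Cfsg.Agent.Lib.Helper6 Cfsg.Agent.Lib.Helper6.TC Cfsg.Agent.Lib.Helper6.NatArr Cfsg.Agent.Co1P
open Cfsg.Agent.PL (Acts evalF)

theorem eq24_all : ∀ q < 98280, (fun q => Nat.beq (f24 q) (wordR W24 q)) q = true :=
  forall_lt_of_chunks (f := fun q => (fun q => Nat.beq (f24 q) (wordR W24 q)) q) [(0, 3389), (3389, 3389), (6778, 3389), (10167, 3389), (13556, 3389), (16945, 3389), (20334, 3389), (23723, 3389), (27112, 3389), (30501, 3389), (33890, 3389), (37279, 3389), (40668, 3389), (44057, 3389), (47446, 3389), (50835, 3389), (54224, 3389), (57613, 3389), (61002, 3389), (64391, 3389), (67780, 3389), (71169, 3389), (74558, 3389), (77947, 3389), (81336, 3389), (84725, 3389), (88114, 3389), (91503, 3389), (94892, 3388)] (by decide)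
    (all_cons eq24_0 (all_cons eq24_1 (all_cons eq24_2 (all_cons eq24_3 (all_cons eq24_4 (all_cons eq24_5 (all_cons eq24_6 (all_cons eq24_7 (all_cons eq24_8 (all_cons eq24_9 (all_cons eq24_10 (all_cons eq24_11 (all_cons eq24_12 (all_cons eq24_13 (all_cons eq24_14 (all_cons eq24_15 (all_cons eq24_16 (all_cons eq24_17 (all_cons eq24_18 (all_cons eq24_19 (all_cons eq24_20 (all_cons eq24_21 (all_cons eq24_22 (all_cons eq24_23 (all_cons eq24_24 (all_cons eq24_25 (all_cons eq24_26 (all_cons eq24_27 (all_cons eq24_28 all_nil)))))))))))))))))))))))))))))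

/-- the table agrees with the word -/
theorem eq24 : ∀ q < 98280, f24 q = wordR W24 q :=
  fun q hq => Nat.eq_of_beq_eq_true (eq24_all q hq)

end Cfsg.Agent.Co1Out
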