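import Cfsg.Agent.Lib.Lead.Co1Out.D24

/-! # The outer automorphism group of Co₁: the check of the table number 24, slices (generated) -/

set_option autoImplicit false
set_option Elab.async false
set_option maxRecDepth 100000

namespace Cfsg.Agent.Co1Out

open Cfsg.Agent.PF Cfsg.Agent.Lib.Helper6 Cfsg.Agent.Lib.Helper6.TC Cfsg.Agent.Lib.Helper6.NatArr Cfsg.Agent.Co1P
open Cfsg.Agent.PL (Acts evalF)

theorem eq24_0 : allR 0 3389 (fun q => (fun q => Nat.beq (f24 q) (wordR W24 q)) q) = true := by decide +kernel

theorem eq24_1 : allR 3389 3389 (fun q => (fun q => Nat.beq (f24 q) (wordR W24 q)) q) = true := by decide +kernel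

theorem eq24_2 : allR 6778 3389 (fun q => (fun q => Nat.beq (f24 q) (wordR W24 q)) q) = true := by decide +kernel

theorem eq24_3 : allR 10167 3389 (fun q => (fun q => Nat.beq (f24 q) (wordR W24 q)) q) = true := by decide +kernel

theorem eq24_4 : allR 13556 3389 (fun q => (fun q => Nat.beq (f24 q) (wordR W24 q)) q) = true := by decide +kernel

theorem eq24_5 : allR 16945 3389 (fun q => (fun q => Nat.beq (f24 q) (wordR W24 q)) q) = true := by decide +kernel

theorem eq24_6 : allR 20334 3389 (fun q => (fun q => Nat.beq (f24 q) (wordR W24 q)) q) = true := by decide +kernel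

theorem eq24_7 : allR 23723 3389 (fun q => (fun q => Nat.beq (f24 q) (wordR W24 q)) q) = true := by decide +kernel

theorem eq24_8 : allR 27112 3389 (fun q => (fun q => Nat.beq (f24 q) (wordR W24 q)) q) = true := by decide +kernel

theorem eq24_9 : allR 30501 3389 (fun q => (fun q => Nat.beq (f24 q) (wordR W24 q)) q) = true := by decide +kernel

theorem eq24_10 : allR 33890 3389 (fun q => (fun q => Nat.beq (f24 q) (wordR W24 q)) q) = true := by decide +kernel

theorem eq24_11 : allR 37279 3389 (fun q => (fun q => Nat.beq (f24 q) (wordR W24 q)) q) = true := by decide +kernel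

theorem eq24_12 : allR 40668 3389 (fun q => (fun q => Nat.beq (f24 q) (wordR W24 q)) q) = true := by decide +kernel

theorem eq24_13 : allR 44057 3389 (fun q => (fun q => Nat.beq (f24 q) (wordR W24 q)) q) = true := by decide +kernel

theorem eq24_14 : allR 47446 3389 (fun q => (fun q => Nat.beq (f24 q) (wordR W24 q)) q) = true := by decide +kernel

theorem eq24_15 : allR 50835 3389 (fun q => (fun q => Nat.beq (f24 q) (wordR W24 q)) q) = true := by decide +kernel

theorem eq24_16 : allR 54224 3389 (fun q => (fun q => Nat.beq (f24 q) (wordR W24 q)) q) = true := by decide +kernel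

theorem eq24_17 : allR 57613 3389 (fun q => (fun q => Nat.beq (f24 q) (wordR W24 q)) q) = true := by decide +kernel

theorem eq24_18 : allR 61002 3389 (fun q => (fun q => Nat.beq (f24 q) (wordR W24 q)) q) = true := by decide +kernel

theorem eq24_19 : allR 64391 3389 (fun q => (fun q => Nat.beq (f24 q) (wordR W24 q)) q) = true := by decide +kernel

theorem eq24_20 : allR 67780 3389 (fun q => (fun q => Nat.beq (f24 q) (wordR W24 q)) q) = true := by decide +kernel

theorem eq24_21 : allR 71169 3389 (fun q => (fun q => Nat.beq (f24 q) (wordR W24 q)) q) = true := by decide +kernel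

theorem eq24_22 : allR 74558 3389 (fun q => (fun q => Nat.beq (f24 q) (wordR W24 q)) q) = true := by decide +kernel

theorem eq24_23 : allR 77947 3389 (fun q => (fun q => Nat.beq (f24 q) (wordR W24 q)) q) = true := by decide +kernel

theorem eq24_24 : allR 81336 3389 (fun q => (fun q => Nat.beq (f24 q) (wordR W24 q)) q) = true := by decide +kernel


end Cfsg.Agent.Co1Out
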