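import Cfsg.Agent.Lib.Lead.Co1Out.C25_0

/-! # The outer automorphism group of Co₁: the check of the table number 25 (generated) -/

set_option autoImplicit false
set_option maxRecDepth 100000

namespace Cfsg.Agent.Co1Out

open Cfsg.Agent.PF Cfsg.Agent.Lib.Helper6 Cfsg.Agent.Lib.Helper6.TC Cfsg.Agent.Lib.Helper6.NatArr Cfsg.Agent.Co1P
open Cfsg.Agent.PL (Acts evalF)

theorem eq25_all : ∀ q < 98280, (fun q => Nat.beq (f25 q) (wordR W25 q)) q = true :=
  forall_lt_of_chunks (f := fun q => (fun q => Nat.beq (f25 q) (wordR W25 q)) q) [(0, 4095), (4095, 4095), (8190, 4095), (12285, 4095), (16380, 4095), (20475, 4095), (24570, 4095), (28665, 4095), (32760, 4095), (36855, 4095), (40950, 4095), (45045, 4095), (49140, 4095), (53235, 4095), (57330, 4095), (61425, 4095), (65520, 4095), (69615, 4095), (73710, 4095), (77805, 4095), (81900, 4095), (85995, 4095), (90090, 4095), (94185, 4095)] (by decide)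
    (all_cons eq25_0 (all_cons eq25_1 (all_cons eq25_2 (all_cons eq25_3 (all_cons eq25_4 (all_cons eq25_5 (all_cons eq25_6 (all_cons eq25_7 (all_cons eq25_8 (all_cons eq25_9 (all_cons eq25_10 (all_cons eq25_11 (all_cons eq25_12 (all_cons eq25_13 (all_cons eq25_14 (all_cons eq25_15 (all_cons eq25_16 (all_cons eq25_17 (all_cons eq25_18 (all_cons eq25_19 (all_cons eq25_20 (all_cons eq25_21 (all_cons eq25_22 (all_cons eq25_23 all_nil))))))))))))))))))))))))

/-- the table agrees with the word -/
theorem eq25 : ∀ q < 98280, f25 q = wordR W25 q :=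
  fun q hq => Nat.eq_of_beq_eq_true (eq25_all q hq)

end Cfsg.Agent.Co1Out
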