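import Cfsg.Agent.Lib.Lead.Co1Out.C26_0

/-! # The outer automorphism group of Co₁: the check of the table number 26 (generated) -/

set_option autoImplicit false
set_option maxRecDepth 100000

namespace Cfsg.Agent.Co1Out

open Cfsg.Agent.PF Cfsg.Agent.Lib.Helper6 Cfsg.Agent.Lib.Helper6.TC Cfsg.Agent.Lib.Helper6.NatArr Cfsg.Agent.Co1P
open Cfsg.Agent.PL (Acts evalF)

theorem eq26_all : ∀ q < 98280, (fun q => Nat.beq (f26 q) (wordR W26 q)) q = true :=
  forall_lt_of_chunks (f := fun q => (fun q => Nat.beq (f26 q) (wordR W26 q)) q) [(0, 4914), (4914, 4914), (9828, 4914), (14742, 4914), (19656, 4914), (24570, 4914), (29484, 4914), (34398, 4914), (39312, 4914), (44226, 4914), (49140, 4914), (54054, 4914), (58968, 4914), (63882, 4914), (68796, 4914), (73710, 4914), (78624, 4914), (83538, 4914), (88452, 4914), (93366, 4914)] (by decide)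
    (all_cons eq26_0 (all_cons eq26_1 (all_cons eq26_2 (all_cons eq26_3 (all_cons eq26_4 (all_cons eq26_5 (all_cons eq26_6 (all_cons eq26_7 (all_cons eq26_8 (all_cons eq26_9 (all_cons eq26_10 (all_cons eq26_11 (all_cons eq26_12 (all_cons eq26_13 (all_cons eq26_14 (all_cons eq26_15 (all_cons eq26_16 (all_cons eq26_17 (all_cons eq26_18 (all_cons eq26_19 all_nil))))))))))))))))))))

/-- the table agrees with the word -/
theorem eq26 : ∀ q < 98280, f26 q = wordR W26 q :=
  fun q hq => Nat.eq_of_beq_eq_true (eq26_all q hq)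

end Cfsg.Agent.Co1Out
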