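import Cfsg.Agent.Lib.Lead.Co1Out.D26

/-! # The outer automorphism group of Co₁: the check of the table number 26, slices (generated) -/

set_option autoImplicit false
set_option Elab.async false
set_option maxRecDepth 100000

namespace Cfsg.Agent.Co1Out

open Cfsg.Agent.PF Cfsg.Agent.Lib.Helper6 Cfsg.Agent.Lib.Helper6.TC Cfsg.Agent.Lib.Helper6.NatArr Cfsg.Agent.Co1P
open Cfsg.Agent.PL (Acts evalF)

theorem eq26_0 : allR 0 4914 (fun q => (fun q => Nat.beq (f26 q) (wordR W26 q)) q) = true := by decide +kernel

theorem eq26_1 : allR 4914 4914 (fun q => (fun q => Nat.beq (f26 q) (wordR W26 q)) q) = true := by decide +kernel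

theorem eq26_2 : allR 9828 4914 (fun q => (fun q => Nat.beq (f26 q) (wordR W26 q)) q) = true := by decide +kernel

theorem eq26_3 : allR 14742 4914 (fun q => (fun q => Nat.beq (f26 q) (wordR W26 q)) q) = true := by decide +kernel

theorem eq26_4 : allR 19656 4914 (fun q => (fun q => Nat.beq (f26 q) (wordR W26 q)) q) = true := by decide +kernel

theorem eq26_5 : allR 24570 4914 (fun q => (fun q => Nat.beq (f26 q) (wordR W26 q)) q) = true := by decide +kernel

theorem eq26_6 : allR 29484 4914 (fun q => (fun q => Nat.beq (f26 q) (wordR W26 q)) q) = true := by decide +kernel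

theorem eq26_7 : allR 34398 4914 (fun q => (fun q => Nat.beq (f26 q) (wordR W26 q)) q) = true := by decide +kernel

theorem eq26_8 : allR 39312 4914 (fun q => (fun q => Nat.beq (f26 q) (wordR W26 q)) q) = true := by decide +kernel

theorem eq26_9 : allR 44226 4914 (fun q => (fun q => Nat.beq (f26 q) (wordR W26 q)) q) = true := by decide +kernel

theorem eq26_10 : allR 49140 4914 (fun q => (fun q => Nat.beq (f26 q) (wordR W26 q)) q) = true := by decide +kernel

theorem eq26_11 : allR 54054 4914 (fun q => (fun q => Nat.beq (f26 q) (wordR W26 q)) q) = true := by decide +kernel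

theorem eq26_12 : allR 58968 4914 (fun q => (fun q => Nat.beq (f26 q) (wordR W26 q)) q) = true := by decide +kernel

theorem eq26_13 : allR 63882 4914 (fun q => (fun q => Nat.beq (f26 q) (wordR W26 q)) q) = true := by decide +kernel

theorem eq26_14 : allR 68796 4914 (fun q => (fun q => Nat.beq (f26 q) (wordR W26 q)) q) = true := by decide +kernel

theorem eq26_15 : allR 73710 4914 (fun q => (fun q => Nat.beq (f26 q) (wordR W26 q)) q) = true := by decide +kernel

theorem eq26_16 : allR 78624 4914 (fun q => (fun q => Nat.beq (f26 q) (wordR W26 q)) q) = true := by decide +kernel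

theorem eq26_17 : allR 83538 4914 (fun q => (fun q => Nat.beq (f26 q) (wordR W26 q)) q) = true := by decide +kernel

theorem eq26_18 : allR 88452 4914 (fun q => (fun q => Nat.beq (f26 q) (wordR W26 q)) q) = true := by decide +kernel

theorem eq26_19 : allR 93366 4914 (fun q => (fun q => Nat.beq (f26 q) (wordR W26 q)) q) = true := by decide +kernel


end Cfsg.Agent.Co1Out
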