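import Cfsg.Agent.Lib.Lead.Co1Out.C27_0
import Cfsg.Agent.Lib.Lead.Co1Out.C27_1

/-! # The outer automorphism group of Co₁: the check of the table number 27 (generated) -/

set_option autoImplicit false
set_option maxRecDepth 100000

namespace Cfsg.Agent.Co1Out

open Cfsg.Agent.PF Cfsg.Agent.Lib.Helper6 Cfsg.Agent.Lib.Helper6.TC Cfsg.Agent.Lib.Helper6.NatArr Cfsg.Agent.Co1P
open Cfsg.Agent.PL (Acts evalF)

theorem eq27_all : ∀ q < 98280, (fun q => Nat.beq (f27 q) (wordR W27 q)) q = true :=
  forall_lt_of_chunks (f := fun q => (fun q => Nat.beq (f27 q) (wordR W27 q)) q) [(0, 3072), (3072, 3072), (6144, 3072), (9216, 3072), (12288, 3072), (15360, 3072), (18432, 3072), (21504, 3072), (24576, 3072), (27648, 3072), (30720, 3072), (33792, 3072), (36864, 3072), (39936, 3072), (43008, 3072), (46080, 3072), (49152, 3072), (52224, 3072), (55296, 3072), (58368, 3072), (61440, 3072), (64512, 3072), (67584, 3072), (70656, 3072), (73728, 3072), (76800, 3072), (79872, 3072), (82944, 3072), (86016, 3072), (89088, 3072),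 (92160, 3072), (95232, 3048)] (by decide)
    (all_cons eq27_0 (all_cons eq27_1 (all_cons eq27_2 (all_cons eq27_3 (all_cons eq27_4 (all_cons eq27_5 (all_cons eq27_6 (all_cons eq27_7 (all_cons eq27_8 (all_cons eq27_9 (all_cons eq27_10 (all_cons eq27_11 (all_cons eq27_12 (all_cons eq27_13 (all_cons eq27_14 (all_cons eq27_15 (all_cons eq27_16 (all_cons eq27_17 (all_cons eq27_18 (all_cons eq27_19 (all_cons eq27_20 (all_cons eq27_21 (all_cons eq27_22 (all_cons eq27_23 (all_cons eq27_24 (all_cons eq27_25 (all_cons eq27_26 (all_cons eq27_27 (all_cons eq27_28 (all_cons eq27_29 (all_cons eq27_30 (all_cons eq27_31 all_nil))))))))))))))))))))))))))))))))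

/-- the table agrees with the word -/
theorem eq27 : ∀ q < 98280, f27 q = wordR W27 q :=
  fun q hq => Nat.eq_of_beq_eq_true (eq27_all q hq)

end Cfsg.Agent.Co1Out
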