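import Cfsg.Agent.Lib.Lead.Co1Out.D27

/-! # The outer automorphism group of Co₁: the check of the table number 27, slices (generated) -/

set_option autoImplicit false
set_option Elab.async false
set_option maxRecDepth 100000

namespace Cfsg.Agent.Co1Out

open Cfsg.Agent.PF Cfsg.Agent.Lib.Helper6 Cfsg.Agent.Lib.Helper6.TC Cfsg.Agent.Lib.Helper6.NatArr Cfsg.Agent.Co1P
open Cfsg.Agent.PL (Acts evalF)

theorem eq27_0 : allR 0 3072 (fun q => (fun q => Nat.beq (f27 q) (wordR W27 q)) q) = true := by decide +kernel

theorem eq27_1 : allR 3072 3072 (fun q => (fun q => Nat.beq (f27 q) (wordR W27 q)) q) = true := by decide +kernel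

theorem eq27_2 : allR 6144 3072 (fun q => (fun q => Nat.beq (f27 q) (wordR W27 q)) q) = true := by decide +kernel

theorem eq27_3 : allR 9216 3072 (fun q => (fun q => Nat.beq (f27 q) (wordR W27 q)) q) = true := by decide +kernel

theorem eq27_4 : allR 12288 3072 (fun q => (fun q => Nat.beq (f27 q) (wordR W27 q)) q) = true := by decide +kernel

theorem eq27_5 : allR 15360 3072 (fun q => (fun q => Nat.beq (f27 q) (wordR W27 q)) q) = true := by decide +kernel

theorem eq27_6 : allR 18432 3072 (fun q => (fun q => Nat.beq (f27 q) (wordR W27 q)) q) = true := by decide +kernel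

theorem eq27_7 : allR 21504 3072 (fun q => (fun q => Nat.beq (f27 q) (wordR W27 q)) q) = true := by decide +kernel

theorem eq27_8 : allR 24576 3072 (fun q => (fun q => Nat.beq (f27 q) (wordR W27 q)) q) = true := by decide +kernel

theorem eq27_9 : allR 27648 3072 (fun q => (fun q => Nat.beq (f27 q) (wordR W27 q)) q) = true := by decide +kernel

theorem eq27_10 : allR 30720 3072 (fun q => (fun q => Nat.beq (f27 q) (wordR W27 q)) q) = true := by decide +kernel

theorem eq27_11 : allR 33792 3072 (fun q => (fun q => Nat.beq (f27 q) (wordR W27 q)) q) = true := by decide +kernel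

theorem eq27_12 : allR 36864 3072 (fun q => (fun q => Nat.beq (f27 q) (wordR W27 q)) q) = true := by decide +kernel

theorem eq27_13 : allR 39936 3072 (fun q => (fun q => Nat.beq (f27 q) (wordR W27 q)) q) = true := by decide +kernel

theorem eq27_14 : allR 43008 3072 (fun q => (fun q => Nat.beq (f27 q) (wordR W27 q)) q) = true := by decide +kernel

theorem eq27_15 : allR 46080 3072 (fun q => (fun q => Nat.beq (f27 q) (wordR W27 q)) q) = true := by decide +kernel

theorem eq27_16 : allR 49152 3072 (fun q => (fun q => Nat.beq (f27 q) (wordR W27 q)) q) = true := by decide +kernel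

theorem eq27_17 : allR 52224 3072 (fun q => (fun q => Nat.beq (f27 q) (wordR W27 q)) q) = true := by decide +kernel

theorem eq27_18 : allR 55296 3072 (fun q => (fun q => Nat.beq (f27 q) (wordR W27 q)) q) = true := by decide +kernel

theorem eq27_19 : allR 58368 3072 (fun q => (fun q => Nat.beq (f27 q) (wordR W27 q)) q) = true := by decide +kernel

theorem eq27_20 : allR 61440 3072 (fun q => (fun q => Nat.beq (f27 q) (wordR W27 q)) q) = true := by decide +kernel

theorem eq27_21 : allR 64512 3072 (fun q => (fun q => Nat.beq (f27 q) (wordR W27 q)) q) = true := by decide +kernel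

theorem eq27_22 : allR 67584 3072 (fun q => (fun q => Nat.beq (f27 q) (wordR W27 q)) q) = true := by decide +kernel

theorem eq27_23 : allR 70656 3072 (fun q => (fun q => Nat.beq (f27 q) (wordR W27 q)) q) = true := by decide +kernel

theorem eq27_24 : allR 73728 3072 (fun q => (fun q => Nat.beq (f27 q) (wordR W27 q)) q) = true := by decide +kernel


end Cfsg.Agent.Co1Out
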