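import Cfsg.Agent.Lib.Lead.Co1Out.C28_0
import Cfsg.Agent.Lib.Lead.Co1Out.C28_1

/-! # The outer automorphism group of Co₁: the check of the table number 28 (generated) -/

set_option autoImplicit false
set_option maxRecDepth 100000

namespace Cfsg.Agent.Co1Out

open Cfsg.Agent.PF Cfsg.Agent.Lib.Helper6 Cfsg.Agent.Lib.Helper6.TC Cfsg.Agent.Lib.Helper6.NatArr Cfsg.Agent.Co1P
open Cfsg.Agent.PL (Acts evalF)

theorem eq28_all : ∀ q < 98280, (fun q => Nat.beq (f28 q) (wordR W28 q)) q = true :=
  forall_lt_of_chunks (f := fun q => (fun q => Nat.beq (f28 q) (wordR W28 q)) q) [(0, 3640), (3640, 3640), (7280, 3640), (10920, 3640), (14560, 3640), (18200, 3640), (21840, 3640), (25480, 3640), (29120, 3640), (32760, 3640), (36400, 3640), (40040, 3640), (43680, 3640), (47320, 3640), (50960, 3640), (54600, 3640), (58240, 3640), (61880, 3640), (65520, 3640), (69160, 3640), (72800, 3640), (76440, 3640), (80080, 3640), (83720, 3640), (87360, 3640), (91000, 3640), (94640, 3640)] (by decide)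
    (all_cons eq28_0 (all_cons eq28_1 (all_cons eq28_2 (all_cons eq28_3 (all_cons eq28_4 (all_cons eq28_5 (all_cons eq28_6 (all_cons eq28_7 (all_cons eq28_8 (all_cons eq28_9 (all_cons eq28_10 (all_cons eq28_11 (all_cons eq28_12 (all_cons eq28_13 (all_cons eq28_14 (all_cons eq28_15 (all_cons eq28_16 (all_cons eq28_17 (all_cons eq28_18 (all_cons eq28_19 (all_cons eq28_20 (all_cons eq28_21 (all_cons eq28_22 (all_cons eq28_23 (all_cons eq28_24 (all_cons eq28_25 (all_cons eq28_26 all_nil)))))))))))))))))))))))))))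

/-- the table agrees with the word -/
theorem eq28 : ∀ q < 98280, f28 q = wordR W28 q :=
  fun q hq => Nat.eq_of_beq_eq_true (eq28_all q hq)

end Cfsg.Agent.Co1Out
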