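import Cfsg.Agent.Lib.Lead.Co1Out.D29

/-! # The outer automorphism group of Co₁: the check of the table number 29, slices (generated) -/

set_option autoImplicit false
set_option Elab.async false
set_option maxRecDepth 100000

namespace Cfsg.Agent.Co1Out

open Cfsg.Agent.PF Cfsg.Agent.Lib.Helper6 Cfsg.Agent.Lib.Helper6.TC Cfsg.Agent.Lib.Helper6.NatArr Cfsg.Agent.Co1P
open Cfsg.Agent.PL (Acts evalF)

theorem eq29_25 : allR 61425 2457 (fun q => (fun q => Nat.beq (f29 q) (wordR W29 q)) q) = true := by decide +kernel

theorem eq29_26 : allR 63882 2457 (fun q => (fun q => Nat.beq (f29 q) (wordR W29 q)) q) = true := by decide +kernel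

theorem eq29_27 : allR 66339 2457 (fun q => (fun q => Nat.beq (f29 q) (wordR W29 q)) q) = true := by decide +kernel

theorem eq29_28 : allR 68796 2457 (fun q => (fun q => Nat.beq (f29 q) (wordR W29 q)) q) = true := by decide +kernel

theorem eq29_29 : allR 71253 2457 (fun q => (fun q => Nat.beq (f29 q) (wordR W29 q)) q) = true := by decide +kernel

theorem eq29_30 : allR 73710 2457 (fun q => (fun q => Nat.beq (f29 q) (wordR W29 q)) q) = true := by decide +kernel

theorem eq29_31 : allR 76167 2457 (fun q => (fun q => Nat.beq (f29 q) (wordR W29 q)) q) = true := by decide +kernel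

theorem eq29_32 : allR 78624 2457 (fun q => (fun q => Nat.beq (f29 q) (wordR W29 q)) q) = true := by decide +kernel

theorem eq29_33 : allR 81081 2457 (fun q => (fun q => Nat.beq (f29 q) (wordR W29 q)) q) = true := by decide +kernel

theorem eq29_34 : allR 83538 2457 (fun q => (fun q => Nat.beq (f29 q) (wordR W29 q)) q) = true := by decide +kernel

theorem eq29_35 : allR 85995 2457 (fun q => (fun q => Nat.beq (f29 q) (wordR W29 q)) q) = true := by decide +kernel

theorem eq29_36 : allR 88452 2457 (fun q => (fun q => Nat.beq (f29 q) (wordR W29 q)) q) = true := by decide +kernel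

theorem eq29_37 : allR 90909 2457 (fun q => (fun q => Nat.beq (f29 q) (wordR W29 q)) q) = true := by decide +kernel

theorem eq29_38 : allR 93366 2457 (fun q => (fun q => Nat.beq (f29 q) (wordR W29 q)) q) = true := by decide +kernel

theorem eq29_39 : allR 95823 2457 (fun q => (fun q => Nat.beq (f29 q) (wordR W29 q)) q) = true := by decide +kernel


end Cfsg.Agent.Co1Out
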