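import Cfsg.Agent.Lib.Lead.Co1Out.C29_0
import Cfsg.Agent.Lib.Lead.Co1Out.C29_1

/-! # The outer automorphism group of Co₁: the check of the table number 29 (generated) -/

set_option autoImplicit false
set_option maxRecDepth 100000

namespace Cfsg.Agent.Co1Out

open Cfsg.Agent.PF Cfsg.Agent.Lib.Helper6 Cfsg.Agent.Lib.Helper6.TC Cfsg.Agent.Lib.Helper6.NatArr Cfsg.Agent.Co1P
open Cfsg.Agent.PL (Acts evalF)

theorem eq29_all : ∀ q < 98280, (fun q => Nat.beq (f29 q) (wordR W29 q)) q = true :=
  forall_lt_of_chunks (f := fun q => (fun q => Nat.beq (f29 q) (wordR W29 q)) q) [(0, 2457), (2457, 2457), (4914, 2457), (7371, 2457), (9828, 2457), (12285, 2457), (14742, 2457), (17199, 2457), (19656, 2457), (22113, 2457), (24570, 2457), (27027, 2457), (29484, 2457), (31941, 2457), (34398, 2457), (36855, 2457), (39312, 2457), (41769, 2457), (44226, 2457), (46683, 2457), (49140, 2457), (51597, 2457), (54054, 2457), (56511, 2457), (58968, 2457), (61425, 2457), (63882, 2457), (66339, 2457), (68796, 2457), (71253, 2457), (73710,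 2457), (76167, 2457), (78624, 2457), (81081, 2457), (83538, 2457), (85995, 2457), (88452, 2457), (90909, 2457), (93366, 2457), (95823, 2457)] (by decide)
    (all_cons eq29_0 (all_cons eq29_1 (all_cons eq29_2 (all_cons eq29_3 (all_cons eq29_4 (all_cons eq29_5 (all_cons eq29_6 (all_cons eq29_7 (all_cons eq29_8 (all_cons eq29_9 (all_cons eq29_10 (all_cons eq29_11 (all_cons eq29_12 (all_cons eq29_13 (all_cons eq29_14 (all_cons eq29_15 (all_cons eq29_16 (all_cons eq29_17 (all_cons eq29_18 (all_cons eq29_19 (all_cons eq29_20 (all_cons eq29_21 (all_cons eq29_22 (all_cons eq29_23 (all_cons eq29_24 (all_cons eq29_25 (all_cons eq29_26 (all_cons eq29_27 (all_cons eq29_28 (all_cons eq29_29 (all_cons eq29_30 (all_cons eq29_31 (all_cons eq29_32 (all_cons eq29_33 (all_cons eq29_34 (all_cons eq29_35 (all_cons eq29_36 (all_cons eq29_37 (all_cons eq29_38 (all_cons eq29_39 all_nil))))))))))))))))))))))))))))))))))))))))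

/-- the table agrees with the word -/
theorem eq29 : ∀ q < 98280, f29 q = wordR W29 q :=
  fun q hq => Nat.eq_of_beq_eq_true (eq29_all q hq)

end Cfsg.Agent.Co1Out
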