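import Cfsg.Agent.Lib.Lead.Co1Out.D29

/-! # The outer automorphism group of Co₁: the check of the table number 29, slices (generated) -/

set_option autoImplicit false
set_option Elab.async false
set_option maxRecDepth 100000

namespace Cfsg.Agent.Co1Out

open Cfsg.Agent.PF Cfsg.Agent.Lib.Helper6 Cfsg.Agent.Lib.Helper6.TC Cfsg.Agent.Lib.Helper6.NatArr Cfsg.Agent.Co1P
open Cfsg.Agent.PL (Acts evalF)

theorem eq29_0 : allR 0 2457 (fun q => (fun q => Nat.beq (f29 q) (wordR W29 q)) q) = true := by decide +kernel

theorem eq29_1 : allR 2457 2457 (fun q => (fun q => Nat.beq (f29 q) (wordR W29 q)) q) = true := by decide +kernel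

theorem eq29_2 : allR 4914 2457 (fun q => (fun q => Nat.beq (f29 q) (wordR W29 q)) q) = true := by decide +kernel

theorem eq29_3 : allR 7371 2457 (fun q => (fun q => Nat.beq (f29 q) (wordR W29 q)) q) = true := by decide +kernel

theorem eq29_4 : allR 9828 2457 (fun q => (fun q => Nat.beq (f29 q) (wordR W29 q)) q) = true := by decide +kernel

theorem eq29_5 : allR 12285 2457 (fun q => (fun q => Nat.beq (f29 q) (wordR W29 q)) q) = true := by decide +kernel

theorem eq29_6 : allR 14742 2457 (fun q => (fun q => Nat.beq (f29 q) (wordR W29 q)) q) = true := by decide +kernel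

theorem eq29_7 : allR 17199 2457 (fun q => (fun q => Nat.beq (f29 q) (wordR W29 q)) q) = true := by decide +kernel

theorem eq29_8 : allR 19656 2457 (fun q => (fun q => Nat.beq (f29 q) (wordR W29 q)) q) = true := by decide +kernel

theorem eq29_9 : allR 22113 2457 (fun q => (fun q => Nat.beq (f29 q) (wordR W29 q)) q) = true := by decide +kernel

theorem eq29_10 : allR 24570 2457 (fun q => (fun q => Nat.beq (f29 q) (wordR W29 q)) q) = true := by decide +kernel

theorem eq29_11 : allR 27027 2457 (fun q => (fun q => Nat.beq (f29 q) (wordR W29 q)) q) = true := by decide +kernel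

theorem eq29_12 : allR 29484 2457 (fun q => (fun q => Nat.beq (f29 q) (wordR W29 q)) q) = true := by decide +kernel

theorem eq29_13 : allR 31941 2457 (fun q => (fun q => Nat.beq (f29 q) (wordR W29 q)) q) = true := by decide +kernel

theorem eq29_14 : allR 34398 2457 (fun q => (fun q => Nat.beq (f29 q) (wordR W29 q)) q) = true := by decide +kernel

theorem eq29_15 : allR 36855 2457 (fun q => (fun q => Nat.beq (f29 q) (wordR W29 q)) q) = true := by decide +kernel

theorem eq29_16 : allR 39312 2457 (fun q => (fun q => Nat.beq (f29 q) (wordR W29 q)) q) = true := by decide +kernel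

theorem eq29_17 : allR 41769 2457 (fun q => (fun q => Nat.beq (f29 q) (wordR W29 q)) q) = true := by decide +kernel

theorem eq29_18 : allR 44226 2457 (fun q => (fun q => Nat.beq (f29 q) (wordR W29 q)) q) = true := by decide +kernel

theorem eq29_19 : allR 46683 2457 (fun q => (fun q => Nat.beq (f29 q) (wordR W29 q)) q) = true := by decide +kernel

theorem eq29_20 : allR 49140 2457 (fun q => (fun q => Nat.beq (f29 q) (wordR W29 q)) q) = true := by decide +kernel

theorem eq29_21 : allR 51597 2457 (fun q => (fun q => Nat.beq (f29 q) (wordR W29 q)) q) = true := by decide +kernel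

theorem eq29_22 : allR 54054 2457 (fun q => (fun q => Nat.beq (f29 q) (wordR W29 q)) q) = true := by decide +kernel

theorem eq29_23 : allR 56511 2457 (fun q => (fun q => Nat.beq (f29 q) (wordR W29 q)) q) = true := by decide +kernel

theorem eq29_24 : allR 58968 2457 (fun q => (fun q => Nat.beq (f29 q) (wordR W29 q)) q) = true := by decide +kernel


end Cfsg.Agent.Co1Out
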