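import Cfsg.Agent.Lib.Lead.Co1Out.D30

/-! # The outer automorphism group of Co₁: the check of the table number 30, slices (generated) -/

set_option autoImplicit false
set_option Elab.async false
set_option maxRecDepth 100000

namespace Cfsg.Agent.Co1Out

open Cfsg.Agent.PF Cfsg.Agent.Lib.Helper6 Cfsg.Agent.Lib.Helper6.TC Cfsg.Agent.Lib.Helper6.NatArr Cfsg.Agent.Co1P
open Cfsg.Agent.PL (Acts evalF)

theorem eq30_25 : allR 72275 2891 (fun q => (fun q => Nat.beq (f30 q) (wordR W30 q)) q) = true := by decide +kernel

theorem eq30_26 : allR 75166 2891 (fun q => (fun q => Nat.beq (f30 q) (wordR W30 q)) q) = true := by decide +kernel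

theorem eq30_27 : allR 78057 2891 (fun q => (fun q => Nat.beq (f30 q) (wordR W30 q)) q) = true := by decide +kernel

theorem eq30_28 : allR 80948 2891 (fun q => (fun q => Nat.beq (f30 q) (wordR W30 q)) q) = true := by decide +kernel

theorem eq30_29 : allR 83839 2891 (fun q => (fun q => Nat.beq (f30 q) (wordR W30 q)) q) = true := by decide +kernel

theorem eq30_30 : allR 86730 2891 (fun q => (fun q => Nat.beq (f30 q) (wordR W30 q)) q) = true := by decide +kernel

theorem eq30_31 : allR 89621 2891 (fun q => (fun q => Nat.beq (f30 q) (wordR W30 q)) q) = true := by decide +kernel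

theorem eq30_32 : allR 92512 2891 (fun q => (fun q => Nat.beq (f30 q) (wordR W30 q)) q) = true := by decide +kernel

theorem eq30_33 : allR 95403 2877 (fun q => (fun q => Nat.beq (f30 q) (wordR W30 q)) q) = true := by decide +kernel


end Cfsg.Agent.Co1Out
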