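import Cfsg.Agent.Lib.Lead.Co1Out.C30_0
import Cfsg.Agent.Lib.Lead.Co1Out.C30_1

/-! # The outer automorphism group of Co₁: the check of the table number 30 (generated) -/

set_option autoImplicit false
set_option maxRecDepth 100000

namespace Cfsg.Agent.Co1Out

open Cfsg.Agent.PF Cfsg.Agent.Lib.Helper6 Cfsg.Agent.Lib.Helper6.TC Cfsg.Agent.Lib.Helper6.NatArr Cfsg.Agent.Co1P
open Cfsg.Agent.PL (Acts evalF)

theorem eq30_all : ∀ q < 98280, (fun q => Nat.beq (f30 q) (wordR W30 q)) q = true :=
  forall_lt_of_chunks (f := fun q => (fun q => Nat.beq (f30 q) (wordR W30 q)) q) [(0, 2891), (2891, 2891), (5782, 2891), (8673, 2891), (11564, 2891), (14455, 2891), (17346, 2891), (20237, 2891), (23128, 2891), (26019, 2891), (28910, 2891), (31801, 2891), (34692, 2891), (37583, 2891), (40474, 2891), (43365, 2891), (46256, 2891), (49147, 2891), (52038, 2891), (54929, 2891), (57820, 2891), (60711, 2891), (63602, 2891), (66493, 2891), (69384, 2891), (72275, 2891), (75166, 2891), (78057, 2891), (80948, 2891), (83839, 2891),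 (86730, 2891), (89621, 2891), (92512, 2891), (95403, 2877)] (by decide)
    (all_cons eq30_0 (all_cons eq30_1 (all_cons eq30_2 (all_cons eq30_3 (all_cons eq30_4 (all_cons eq30_5 (all_cons eq30_6 (all_cons eq30_7 (all_cons eq30_8 (all_cons eq30_9 (all_cons eq30_10 (all_cons eq30_11 (all_cons eq30_12 (all_cons eq30_13 (all_cons eq30_14 (all_cons eq30_15 (all_cons eq30_16 (all_cons eq30_17 (all_cons eq30_18 (all_cons eq30_19 (all_cons eq30_20 (all_cons eq30_21 (all_cons eq30_22 (all_cons eq30_23 (all_cons eq30_24 (all_cons eq30_25 (all_cons eq30_26 (all_cons eq30_27 (all_cons eq30_28 (all_cons eq30_29 (all_cons eq30_30 (all_cons eq30_31 (all_cons eq30_32 (all_cons eq30_33 all_nil))))))))))))))))))))))))))))))))))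

/-- the table agrees with the word -/
theorem eq30 : ∀ q < 98280, f30 q = wordR W30 q :=
  fun q hq => Nat.eq_of_beq_eq_true (eq30_all q hq)

end Cfsg.Agent.Co1Out
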