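import Cfsg.Agent.Lib.Lead.Co1Out.D30

/-! # The outer automorphism group of Co₁: the check of the table number 30, slices (generated) -/

set_option autoImplicit false
set_option Elab.async false
set_option maxRecDepth 100000

namespace Cfsg.Agent.Co1Out

open Cfsg.Agent.PF Cfsg.Agent.Lib.Helper6 Cfsg.Agent.Lib.Helper6.TC Cfsg.Agent.Lib.Helper6.NatArr Cfsg.Agent.Co1P
open Cfsg.Agent.PL (Acts evalF)

theorem eq30_0 : allR 0 2891 (fun q => (fun q => Nat.beq (f30 q) (wordR W30 q)) q) = true := by decide +kernel

theorem eq30_1 : allR 2891 2891 (fun q => (fun q => Nat.beq (f30 q) (wordR W30 q)) q) = true := by decide +kernel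

theorem eq30_2 : allR 5782 2891 (fun q => (fun q => Nat.beq (f30 q) (wordR W30 q)) q) = true := by decide +kernel

theorem eq30_3 : allR 8673 2891 (fun q => (fun q => Nat.beq (f30 q) (wordR W30 q)) q) = true := by decide +kernel

theorem eq30_4 : allR 11564 2891 (fun q => (fun q => Nat.beq (f30 q) (wordR W30 q)) q) = true := by decide +kernel

theorem eq30_5 : allR 14455 2891 (fun q => (fun q => Nat.beq (f30 q) (wordR W30 q)) q) = true := by decide +kernel

theorem eq30_6 : allR 17346 2891 (fun q => (fun q => Nat.beq (f30 q) (wordR W30 q)) q) = true := by decide +kernel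

theorem eq30_7 : allR 20237 2891 (fun q => (fun q => Nat.beq (f30 q) (wordR W30 q)) q) = true := by decide +kernel

theorem eq30_8 : allR 23128 2891 (fun q => (fun q => Nat.beq (f30 q) (wordR W30 q)) q) = true := by decide +kernel

theorem eq30_9 : allR 26019 2891 (fun q => (fun q => Nat.beq (f30 q) (wordR W30 q)) q) = true := by decide +kernel

theorem eq30_10 : allR 28910 2891 (fun q => (fun q => Nat.beq (f30 q) (wordR W30 q)) q) = true := by decide +kernel

theorem eq30_11 : allR 31801 2891 (fun q => (fun q => Nat.beq (f30 q) (wordR W30 q)) q) = true := by decide +kernel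

theorem eq30_12 : allR 34692 2891 (fun q => (fun q => Nat.beq (f30 q) (wordR W30 q)) q) = true := by decide +kernel

theorem eq30_13 : allR 37583 2891 (fun q => (fun q => Nat.beq (f30 q) (wordR W30 q)) q) = true := by decide +kernel

theorem eq30_14 : allR 40474 2891 (fun q => (fun q => Nat.beq (f30 q) (wordR W30 q)) q) = true := by decide +kernel

theorem eq30_15 : allR 43365 2891 (fun q => (fun q => Nat.beq (f30 q) (wordR W30 q)) q) = true := by decide +kernel

theorem eq30_16 : allR 46256 2891 (fun q => (fun q => Nat.beq (f30 q) (wordR W30 q)) q) = true := by decide +kernel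

theorem eq30_17 : allR 49147 2891 (fun q => (fun q => Nat.beq (f30 q) (wordR W30 q)) q) = true := by decide +kernel

theorem eq30_18 : allR 52038 2891 (fun q => (fun q => Nat.beq (f30 q) (wordR W30 q)) q) = true := by decide +kernel

theorem eq30_19 : allR 54929 2891 (fun q => (fun q => Nat.beq (f30 q) (wordR W30 q)) q) = true := by decide +kernel

theorem eq30_20 : allR 57820 2891 (fun q => (fun q => Nat.beq (f30 q) (wordR W30 q)) q) = true := by decide +kernel

theorem eq30_21 : allR 60711 2891 (fun q => (fun q => Nat.beq (f30 q) (wordR W30 q)) q) = true := by decide +kernel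

theorem eq30_22 : allR 63602 2891 (fun q => (fun q => Nat.beq (f30 q) (wordR W30 q)) q) = true := by decide +kernel

theorem eq30_23 : allR 66493 2891 (fun q => (fun q => Nat.beq (f30 q) (wordR W30 q)) q) = true := by decide +kernel

theorem eq30_24 : allR 69384 2891 (fun q => (fun q => Nat.beq (f30 q) (wordR W30 q)) q) = true := by decide +kernel


end Cfsg.Agent.Co1Out
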