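import Cfsg.Agent.Lib.Lead.Co1Out.C31_0
import Cfsg.Agent.Lib.Lead.Co1Out.C31_1

/-! # The outer automorphism group of Co₁: the check of the table number 31 (generated) -/

set_option autoImplicit false
set_option maxRecDepth 100000

namespace Cfsg.Agent.Co1Out

open Cfsg.Agent.PF Cfsg.Agent.Lib.Helper6 Cfsg.Agent.Lib.Helper6.TC Cfsg.Agent.Lib.Helper6.NatArr Cfsg.Agent.Co1P
open Cfsg.Agent.PL (Acts evalF)

theorem eq31_all : ∀ q < 98280, (fun q => Nat.beq (f31 q) (wordR W31 q)) q = true :=
  forall_lt_of_chunks (f := fun q => (fun q => Nat.beq (f31 q) (wordR W31 q)) q) [(0, 2398), (2398, 2398), (4796, 2398), (7194, 2398), (9592, 2398), (11990, 2398), (14388, 2398), (16786, 2398), (19184, 2398), (21582, 2398), (23980, 2398), (26378, 2398), (28776, 2398), (31174, 2398), (33572, 2398), (35970, 2398), (38368, 2398), (40766, 2398), (43164, 2398), (45562, 2398), (47960, 2398), (50358, 2398), (52756, 2398), (55154, 2398), (57552, 2398), (59950, 2398), (62348, 2398), (64746, 2398), (67144, 2398), (69542, 2398), (71940,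 2398), (74338, 2398), (76736, 2398), (79134, 2398), (81532, 2398), (83930, 2398), (86328, 2398), (88726, 2398), (91124, 2398), (93522, 2398), (95920, 2360)] (by decide)
    (all_cons eq31_0 (all_cons eq31_1 (all_cons eq31_2 (all_cons eq31_3 (all_cons eq31_4 (all_cons eq31_5 (all_cons eq31_6 (all_cons eq31_7 (all_cons eq31_8 (all_cons eq31_9 (all_cons eq31_10 (all_cons eq31_11 (all_cons eq31_12 (all_cons eq31_13 (all_cons eq31_14 (all_cons eq31_15 (all_cons eq31_16 (all_cons eq31_17 (all_cons eq31_18 (all_cons eq31_19 (all_cons eq31_20 (all_cons eq31_21 (all_cons eq31_22 (all_cons eq31_23 (all_cons eq31_24 (all_cons eq31_25 (all_cons eq31_26 (all_cons eq31_27 (all_cons eq31_28 (all_cons eq31_29 (all_cons eq31_30 (all_cons eq31_31 (all_cons eq31_32 (all_cons eq31_33 (all_cons eq31_34 (all_cons eq31_35 (all_cons eq31_36 (all_cons eq31_37 (all_cons eq31_38 (all_cons eq31_39 (all_cons eq31_40 all_nil)))))))))))))))))))))))))))))))))))))))))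

/-- the table agrees with the word -/
theorem eq31 : ∀ q < 98280, f31 q = wordR W31 q :=
  fun q hq => Nat.eq_of_beq_eq_true (eq31_all q hq)

end Cfsg.Agent.Co1Out
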