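import Cfsg.Agent.Lib.Lead.Co1Out.D32

/-! # The outer automorphism group of Co₁: the check of the table number 32, slices (generated) -/

set_option autoImplicit false
set_option Elab.async false
set_option maxRecDepth 100000

namespace Cfsg.Agent.Co1Out

open Cfsg.Agent.PF Cfsg.Agent.Lib.Helper6 Cfsg.Agent.Lib.Helper6.TC Cfsg.Agent.Lib.Helper6.NatArr Cfsg.Agent.Co1P
open Cfsg.Agent.PL (Acts evalF)

theorem eq32_25 : allR 81900 3276 (fun q => (fun q => Nat.beq (f32 q) (wordR W32 q)) q) = true := by decide +kernel

theorem eq32_26 : allR 85176 3276 (fun q => (fun q => Nat.beq (f32 q) (wordR W32 q)) q) = true := by decide +kernel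

theorem eq32_27 : allR 88452 3276 (fun q => (fun q => Nat.beq (f32 q) (wordR W32 q)) q) = true := by decide +kernel

theorem eq32_28 : allR 91728 3276 (fun q => (fun q => Nat.beq (f32 q) (wordR W32 q)) q) = true := by decide +kernel

theorem eq32_29 : allR 95004 3276 (fun q => (fun q => Nat.beq (f32 q) (wordR W32 q)) q) = true := by decide +kernel


end Cfsg.Agent.Co1Out
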