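import Cfsg.Agent.Lib.Lead.Co1Out.C32_0
import Cfsg.Agent.Lib.Lead.Co1Out.C32_1

/-! # The outer automorphism group of Co₁: the check of the table number 32 (generated) -/

set_option autoImplicit false
set_option maxRecDepth 100000

namespace Cfsg.Agent.Co1Out

open Cfsg.Agent.PF Cfsg.Agent.Lib.Helper6 Cfsg.Agent.Lib.Helper6.TC Cfsg.Agent.Lib.Helper6.NatArr Cfsg.Agent.Co1P
open Cfsg.Agent.PL (Acts evalF)

theorem eq32_all : ∀ q < 98280, (fun q => Nat.beq (f32 q) (wordR W32 q)) q = true :=
  forall_lt_of_chunks (f := fun q => (fun q => Nat.beq (f32 q) (wordR W32 q)) q) [(0, 3276), (3276, 3276), (6552, 3276), (9828, 3276), (13104, 3276), (16380, 3276), (19656, 3276), (22932, 3276), (26208, 3276), (29484, 3276), (32760, 3276), (36036, 3276), (39312, 3276), (42588, 3276), (45864, 3276), (49140, 3276), (52416, 3276), (55692, 3276), (58968, 3276), (62244, 3276), (65520, 3276), (68796, 3276), (72072, 3276), (75348, 3276), (78624, 3276), (81900, 3276), (85176, 3276), (88452, 3276), (91728, 3276), (95004, 3276)]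 (by decide)
    (all_cons eq32_0 (all_cons eq32_1 (all_cons eq32_2 (all_cons eq32_3 (all_cons eq32_4 (all_cons eq32_5 (all_cons eq32_6 (all_cons eq32_7 (all_cons eq32_8 (all_cons eq32_9 (all_cons eq32_10 (all_cons eq32_11 (all_cons eq32_12 (all_cons eq32_13 (all_cons eq32_14 (all_cons eq32_15 (all_cons eq32_16 (all_cons eq32_17 (all_cons eq32_18 (all_cons eq32_19 (all_cons eq32_20 (all_cons eq32_21 (all_cons eq32_22 (all_cons eq32_23 (all_cons eq32_24 (all_cons eq32_25 (all_cons eq32_26 (all_cons eq32_27 (all_cons eq32_28 (all_cons eq32_29 all_nil))))))))))))))))))))))))))))))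

/-- the table agrees with the word -/
theorem eq32 : ∀ q < 98280, f32 q = wordR W32 q :=
  fun q hq => Nat.eq_of_beq_eq_true (eq32_all q hq)

end Cfsg.Agent.Co1Out
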