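import Cfsg.Agent.Lib.Lead.Co1Out.D32

/-! # The outer automorphism group of Co₁: the check of the table number 32, slices (generated) -/

set_option autoImplicit false
set_option Elab.async false
set_option maxRecDepth 100000

namespace Cfsg.Agent.Co1Out

open Cfsg.Agent.PF Cfsg.Agent.Lib.Helper6 Cfsg.Agent.Lib.Helper6.TC Cfsg.Agent.Lib.Helper6.NatArr Cfsg.Agent.Co1P
open Cfsg.Agent.PL (Acts evalF)

theorem eq32_0 : allR 0 3276 (fun q => (fun q => Nat.beq (f32 q) (wordR W32 q)) q) = true := by decide +kernel

theorem eq32_1 : allR 3276 3276 (fun q => (fun q => Nat.beq (f32 q) (wordR W32 q)) q) = true := by decide +kernel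

theorem eq32_2 : allR 6552 3276 (fun q => (fun q => Nat.beq (f32 q) (wordR W32 q)) q) = true := by decide +kernel

theorem eq32_3 : allR 9828 3276 (fun q => (fun q => Nat.beq (f32 q) (wordR W32 q)) q) = true := by decide +kernel

theorem eq32_4 : allR 13104 3276 (fun q => (fun q => Nat.beq (f32 q) (wordR W32 q)) q) = true := by decide +kernel

theorem eq32_5 : allR 16380 3276 (fun q => (fun q => Nat.beq (f32 q) (wordR W32 q)) q) = true := by decide +kernel

theorem eq32_6 : allR 19656 3276 (fun q => (fun q => Nat.beq (f32 q) (wordR W32 q)) q) = true := by decide +kernel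

theorem eq32_7 : allR 22932 3276 (fun q => (fun q => Nat.beq (f32 q) (wordR W32 q)) q) = true := by decide +kernel

theorem eq32_8 : allR 26208 3276 (fun q => (fun q => Nat.beq (f32 q) (wordR W32 q)) q) = true := by decide +kernel

theorem eq32_9 : allR 29484 3276 (fun q => (fun q => Nat.beq (f32 q) (wordR W32 q)) q) = true := by decide +kernel

theorem eq32_10 : allR 32760 3276 (fun q => (fun q => Nat.beq (f32 q) (wordR W32 q)) q) = true := by decide +kernel

theorem eq32_11 : allR 36036 3276 (fun q => (fun q => Nat.beq (f32 q) (wordR W32 q)) q) = true := by decide +kernel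

theorem eq32_12 : allR 39312 3276 (fun q => (fun q => Nat.beq (f32 q) (wordR W32 q)) q) = true := by decide +kernel

theorem eq32_13 : allR 42588 3276 (fun q => (fun q => Nat.beq (f32 q) (wordR W32 q)) q) = true := by decide +kernel

theorem eq32_14 : allR 45864 3276 (fun q => (fun q => Nat.beq (f32 q) (wordR W32 q)) q) = true := by decide +kernel

theorem eq32_15 : allR 49140 3276 (fun q => (fun q => Nat.beq (f32 q) (wordR W32 q)) q) = true := by decide +kernel

theorem eq32_16 : allR 52416 3276 (fun q => (fun q => Nat.beq (f32 q) (wordR W32 q)) q) = true := by decide +kernel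

theorem eq32_17 : allR 55692 3276 (fun q => (fun q => Nat.beq (f32 q) (wordR W32 q)) q) = true := by decide +kernel

theorem eq32_18 : allR 58968 3276 (fun q => (fun q => Nat.beq (f32 q) (wordR W32 q)) q) = true := by decide +kernel

theorem eq32_19 : allR 62244 3276 (fun q => (fun q => Nat.beq (f32 q) (wordR W32 q)) q) = true := by decide +kernel

theorem eq32_20 : allR 65520 3276 (fun q => (fun q => Nat.beq (f32 q) (wordR W32 q)) q) = true := by decide +kernel

theorem eq32_21 : allR 68796 3276 (fun q => (fun q => Nat.beq (f32 q) (wordR W32 q)) q) = true := by decide +kernel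

theorem eq32_22 : allR 72072 3276 (fun q => (fun q => Nat.beq (f32 q) (wordR W32 q)) q) = true := by decide +kernel

theorem eq32_23 : allR 75348 3276 (fun q => (fun q => Nat.beq (f32 q) (wordR W32 q)) q) = true := by decide +kernel

theorem eq32_24 : allR 78624 3276 (fun q => (fun q => Nat.beq (f32 q) (wordR W32 q)) q) = true := by decide +kernel


end Cfsg.Agent.Co1Out
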