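import Cfsg.Agent.Lib.Lead.Co1Out.C5_0

/-! # The outer automorphism group of Co₁: the check of the table number 5 (generated) -/

set_option autoImplicit false
set_option maxRecDepth 100000

namespace Cfsg.Agent.Co1Out

open Cfsg.Agent.PF Cfsg.Agent.Lib.Helper6 Cfsg.Agent.Lib.Helper6.TC Cfsg.Agent.Lib.Helper6.NatArr Cfsg.Agent.Co1P
open Cfsg.Agent.PL (Acts evalF)

theorem eq5_all : ∀ q < 98280, (fun q => Nat.beq (f5 q) (wordR W5 q)) q = true :=
  forall_lt_of_chunks (f := fun q => (fun q => Nat.beq (f5 q) (wordR W5 q)) q) [(0, 5460), (5460, 5460), (10920, 5460), (16380, 5460), (21840, 5460), (27300, 5460), (32760, 5460), (38220, 5460), (43680, 5460), (49140, 5460), (54600, 5460), (60060, 5460), (65520, 5460), (70980, 5460), (76440, 5460), (81900, 5460), (87360, 5460), (92820, 5460)] (by decide)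
    (all_cons eq5_0 (all_cons eq5_1 (all_cons eq5_2 (all_cons eq5_3 (all_cons eq5_4 (all_cons eq5_5 (all_cons eq5_6 (all_cons eq5_7 (all_cons eq5_8 (all_cons eq5_9 (all_cons eq5_10 (all_cons eq5_11 (all_cons eq5_12 (all_cons eq5_13 (all_cons eq5_14 (all_cons eq5_15 (all_cons eq5_16 (all_cons eq5_17 all_nil))))))))))))))))))

/-- the table agrees with the word -/
theorem eq5 : ∀ q < 98280, f5 q = wordR W5 q :=
  fun q hq => Nat.eq_of_beq_eq_true (eq5_all q hq)

end Cfsg.Agent.Co1Out
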