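import Cfsg.Agent.Lib.Lead.Co1Out.D5

/-! # The outer automorphism group of Co₁: the check of the table number 5, slices (generated) -/

set_option autoImplicit false
set_option Elab.async false
set_option maxRecDepth 100000

namespace Cfsg.Agent.Co1Out

open Cfsg.Agent.PF Cfsg.Agent.Lib.Helper6 Cfsg.Agent.Lib.Helper6.TC Cfsg.Agent.Lib.Helper6.NatArr Cfsg.Agent.Co1P
open Cfsg.Agent.PL (Acts evalF)

theorem eq5_0 : allR 0 5460 (fun q => (fun q => Nat.beq (f5 q) (wordR W5 q)) q) = true := by decide +kernel

theorem eq5_1 : allR 5460 5460 (fun q => (fun q => Nat.beq (f5 q) (wordR W5 q)) q) = true := by decide +kernel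

theorem eq5_2 : allR 10920 5460 (fun q => (fun q => Nat.beq (f5 q) (wordR W5 q)) q) = true := by decide +kernel

theorem eq5_3 : allR 16380 5460 (fun q => (fun q => Nat.beq (f5 q) (wordR W5 q)) q) = true := by decide +kernel

theorem eq5_4 : allR 21840 5460 (fun q => (fun q => Nat.beq (f5 q) (wordR W5 q)) q) = true := by decide +kernel

theorem eq5_5 : allR 27300 5460 (fun q => (fun q => Nat.beq (f5 q) (wordR W5 q)) q) = true := by decide +kernel

theorem eq5_6 : allR 32760 5460 (fun q => (fun q => Nat.beq (f5 q) (wordR W5 q)) q) = true := by decide +kernel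

theorem eq5_7 : allR 38220 5460 (fun q => (fun q => Nat.beq (f5 q) (wordR W5 q)) q) = true := by decide +kernel

theorem eq5_8 : allR 43680 5460 (fun q => (fun q => Nat.beq (f5 q) (wordR W5 q)) q) = true := by decide +kernel

theorem eq5_9 : allR 49140 5460 (fun q => (fun q => Nat.beq (f5 q) (wordR W5 q)) q) = true := by decide +kernel

theorem eq5_10 : allR 54600 5460 (fun q => (fun q => Nat.beq (f5 q) (wordR W5 q)) q) = true := by decide +kernel

theorem eq5_11 : allR 60060 5460 (fun q => (fun q => Nat.beq (f5 q) (wordR W5 q)) q) = true := by decide +kernel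

theorem eq5_12 : allR 65520 5460 (fun q => (fun q => Nat.beq (f5 q) (wordR W5 q)) q) = true := by decide +kernel

theorem eq5_13 : allR 70980 5460 (fun q => (fun q => Nat.beq (f5 q) (wordR W5 q)) q) = true := by decide +kernel

theorem eq5_14 : allR 76440 5460 (fun q => (fun q => Nat.beq (f5 q) (wordR W5 q)) q) = true := by decide +kernel

theorem eq5_15 : allR 81900 5460 (fun q => (fun q => Nat.beq (f5 q) (wordR W5 q)) q) = true := by decide +kernel

theorem eq5_16 : allR 87360 5460 (fun q => (fun q => Nat.beq (f5 q) (wordR W5 q)) q) = true := by decide +kernel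

theorem eq5_17 : allR 92820 5460 (fun q => (fun q => Nat.beq (f5 q) (wordR W5 q)) q) = true := by decide +kernel


end Cfsg.Agent.Co1Out
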