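import Cfsg.Agent.Lib.Lead.Co1Out.C6_0

/-! # The outer automorphism group of Co₁: the check of the table number 6 (generated) -/

set_option autoImplicit false
set_option maxRecDepth 100000

namespace Cfsg.Agent.Co1Out

open Cfsg.Agent.PF Cfsg.Agent.Lib.Helper6 Cfsg.Agent.Lib.Helper6.TC Cfsg.Agent.Lib.Helper6.NatArr Cfsg.Agent.Co1P
open Cfsg.Agent.PL (Acts evalF)

theorem eq6_all : ∀ q < 98280, (fun q => Nat.beq (f6 q) (wordR W6 q)) q = true :=
  forall_lt_of_chunks (f := fun q => (fun q => Nat.beq (f6 q) (wordR W6 q)) q) [(0, 6552), (6552, 6552), (13104, 6552), (19656, 6552), (26208, 6552), (32760, 6552), (39312, 6552), (45864, 6552), (52416, 6552), (58968, 6552), (65520, 6552), (72072, 6552), (78624, 6552), (85176, 6552), (91728, 6552)] (by decide)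
    (all_cons eq6_0 (all_cons eq6_1 (all_cons eq6_2 (all_cons eq6_3 (all_cons eq6_4 (all_cons eq6_5 (all_cons eq6_6 (all_cons eq6_7 (all_cons eq6_8 (all_cons eq6_9 (all_cons eq6_10 (all_cons eq6_11 (all_cons eq6_12 (all_cons eq6_13 (all_cons eq6_14 all_nil)))))))))))))))

/-- the table agrees with the word -/
theorem eq6 : ∀ q < 98280, f6 q = wordR W6 q :=
  fun q hq => Nat.eq_of_beq_eq_true (eq6_all q hq)

end Cfsg.Agent.Co1Out
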