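import Cfsg.Agent.Lib.Lead.Co1Out.D6

/-! # The outer automorphism group of Co₁: the check of the table number 6, slices (generated) -/

set_option autoImplicit false
set_option Elab.async false
set_option maxRecDepth 100000

namespace Cfsg.Agent.Co1Out

open Cfsg.Agent.PF Cfsg.Agent.Lib.Helper6 Cfsg.Agent.Lib.Helper6.TC Cfsg.Agent.Lib.Helper6.NatArr Cfsg.Agent.Co1P
open Cfsg.Agent.PL (Acts evalF)

theorem eq6_0 : allR 0 6552 (fun q => (fun q => Nat.beq (f6 q) (wordR W6 q)) q) = true := by decide +kernel

theorem eq6_1 : allR 6552 6552 (fun q => (fun q => Nat.beq (f6 q) (wordR W6 q)) q) = true := by decide +kernel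

theorem eq6_2 : allR 13104 6552 (fun q => (fun q => Nat.beq (f6 q) (wordR W6 q)) q) = true := by decide +kernel

theorem eq6_3 : allR 19656 6552 (fun q => (fun q => Nat.beq (f6 q) (wordR W6 q)) q) = true := by decide +kernel

theorem eq6_4 : allR 26208 6552 (fun q => (fun q => Nat.beq (f6 q) (wordR W6 q)) q) = true := by decide +kernel

theorem eq6_5 : allR 32760 6552 (fun q => (fun q => Nat.beq (f6 q) (wordR W6 q)) q) = true := by decide +kernel

theorem eq6_6 : allR 39312 6552 (fun q => (fun q => Nat.beq (f6 q) (wordR W6 q)) q) = true := by decide +kernel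

theorem eq6_7 : allR 45864 6552 (fun q => (fun q => Nat.beq (f6 q) (wordR W6 q)) q) = true := by decide +kernel

theorem eq6_8 : allR 52416 6552 (fun q => (fun q => Nat.beq (f6 q) (wordR W6 q)) q) = true := by decide +kernel

theorem eq6_9 : allR 58968 6552 (fun q => (fun q => Nat.beq (f6 q) (wordR W6 q)) q) = true := by decide +kernel

theorem eq6_10 : allR 65520 6552 (fun q => (fun q => Nat.beq (f6 q) (wordR W6 q)) q) = true := by decide +kernel

theorem eq6_11 : allR 72072 6552 (fun q => (fun q => Nat.beq (f6 q) (wordR W6 q)) q) = true := by decide +kernel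

theorem eq6_12 : allR 78624 6552 (fun q => (fun q => Nat.beq (f6 q) (wordR W6 q)) q) = true := by decide +kernel

theorem eq6_13 : allR 85176 6552 (fun q => (fun q => Nat.beq (f6 q) (wordR W6 q)) q) = true := by decide +kernel

theorem eq6_14 : allR 91728 6552 (fun q => (fun q => Nat.beq (f6 q) (wordR W6 q)) q) = true := by decide +kernel


end Cfsg.Agent.Co1Out
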