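import Cfsg.Agent.Lib.Lead.Co1Out.D9

/-! # The outer automorphism group of Co₁: the check of the table number 9, slices (generated) -/

set_option autoImplicit false
set_option Elab.async false
set_option maxRecDepth 100000

namespace Cfsg.Agent.Co1Out

open Cfsg.Agent.PF Cfsg.Agent.Lib.Helper6 Cfsg.Agent.Lib.Helper6.TC Cfsg.Agent.Lib.Helper6.NatArr Cfsg.Agent.Co1P
open Cfsg.Agent.PL (Acts evalF)

theorem eq9_25 : allR 68250 2730 (fun q => (fun q => Nat.beq (f9 q) (wordR W9 q)) q) = true := by decide +kernel

theorem eq9_26 : allR 70980 2730 (fun q => (fun q => Nat.beq (f9 q) (wordR W9 q)) q) = true := by decide +kernel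

theorem eq9_27 : allR 73710 2730 (fun q => (fun q => Nat.beq (f9 q) (wordR W9 q)) q) = true := by decide +kernel

theorem eq9_28 : allR 76440 2730 (fun q => (fun q => Nat.beq (f9 q) (wordR W9 q)) q) = true := by decide +kernel

theorem eq9_29 : allR 79170 2730 (fun q => (fun q => Nat.beq (f9 q) (wordR W9 q)) q) = true := by decide +kernel

theorem eq9_30 : allR 81900 2730 (fun q => (fun q => Nat.beq (f9 q) (wordR W9 q)) q) = true := by decide +kernel

theorem eq9_31 : allR 84630 2730 (fun q => (fun q => Nat.beq (f9 q) (wordR W9 q)) q) = true := by decide +kernel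

theorem eq9_32 : allR 87360 2730 (fun q => (fun q => Nat.beq (f9 q) (wordR W9 q)) q) = true := by decide +kernel

theorem eq9_33 : allR 90090 2730 (fun q => (fun q => Nat.beq (f9 q) (wordR W9 q)) q) = true := by decide +kernel

theorem eq9_34 : allR 92820 2730 (fun q => (fun q => Nat.beq (f9 q) (wordR W9 q)) q) = true := by decide +kernel

theorem eq9_35 : allR 95550 2730 (fun q => (fun q => Nat.beq (f9 q) (wordR W9 q)) q) = true := by decide +kernel


end Cfsg.Agent.Co1Out
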