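import Cfsg.Agent.Lib.Lead.Co1Out.C9_0
import Cfsg.Agent.Lib.Lead.Co1Out.C9_1

/-! # The outer automorphism group of Co₁: the check of the table number 9 (generated) -/

set_option autoImplicit false
set_option maxRecDepth 100000

namespace Cfsg.Agent.Co1Out

open Cfsg.Agent.PF Cfsg.Agent.Lib.Helper6 Cfsg.Agent.Lib.Helper6.TC Cfsg.Agent.Lib.Helper6.NatArr Cfsg.Agent.Co1P
open Cfsg.Agent.PL (Acts evalF)

theorem eq9_all : ∀ q < 98280, (fun q => Nat.beq (f9 q) (wordR W9 q)) q = true :=
  forall_lt_of_chunks (f := fun q => (fun q => Nat.beq (f9 q) (wordR W9 q)) q) [(0, 2730), (2730, 2730), (5460, 2730), (8190, 2730), (10920, 2730), (13650, 2730), (16380, 2730), (19110, 2730), (21840, 2730), (24570, 2730), (27300, 2730), (30030, 2730), (32760, 2730), (35490, 2730), (38220, 2730), (40950, 2730), (43680, 2730), (46410, 2730), (49140, 2730), (51870, 2730), (54600, 2730), (57330, 2730), (60060, 2730), (62790, 2730), (65520, 2730), (68250, 2730), (70980, 2730), (73710, 2730), (76440, 2730),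 (79170, 2730), (81900, 2730), (84630, 2730), (87360, 2730), (90090, 2730), (92820, 2730), (95550, 2730)] (by decide)
    (all_cons eq9_0 (all_cons eq9_1 (all_cons eq9_2 (all_cons eq9_3 (all_cons eq9_4 (all_cons eq9_5 (all_cons eq9_6 (all_cons eq9_7 (all_cons eq9_8 (all_cons eq9_9 (all_cons eq9_10 (all_cons eq9_11 (all_cons eq9_12 (all_cons eq9_13 (all_cons eq9_14 (all_cons eq9_15 (all_cons eq9_16 (all_cons eq9_17 (all_cons eq9_18 (all_cons eq9_19 (all_cons eq9_20 (all_cons eq9_21 (all_cons eq9_22 (all_cons eq9_23 (all_cons eq9_24 (all_cons eq9_25 (all_cons eq9_26 (all_cons eq9_27 (all_cons eq9_28 (all_cons eq9_29 (all_cons eq9_30 (all_cons eq9_31 (all_cons eq9_32 (all_cons eq9_33 (all_cons eq9_34 (all_cons eq9_35 all_nil))))))))))))))))))))))))))))))))))))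

/-- the table agrees with the word -/
theorem eq9 : ∀ q < 98280, f9 q = wordR W9 q :=
  fun q hq => Nat.eq_of_beq_eq_true (eq9_all q hq)

end Cfsg.Agent.Co1Out
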