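import Cfsg.Agent.Lib.Lead.Co1Out.D9

/-! # The outer automorphism group of Co₁: the check of the table number 9, slices (generated) -/

set_option autoImplicit false
set_option Elab.async false
set_option maxRecDepth 100000

namespace Cfsg.Agent.Co1Out

open Cfsg.Agent.PF Cfsg.Agent.Lib.Helper6 Cfsg.Agent.Lib.Helper6.TC Cfsg.Agent.Lib.Helper6.NatArr Cfsg.Agent.Co1P
open Cfsg.Agent.PL (Acts evalF)

theorem eq9_0 : allR 0 2730 (fun q => (fun q => Nat.beq (f9 q) (wordR W9 q)) q) = true := by decide +kernel

theorem eq9_1 : allR 2730 2730 (fun q => (fun q => Nat.beq (f9 q) (wordR W9 q)) q) = true := by decide +kernel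

theorem eq9_2 : allR 5460 2730 (fun q => (fun q => Nat.beq (f9 q) (wordR W9 q)) q) = true := by decide +kernel

theorem eq9_3 : allR 8190 2730 (fun q => (fun q => Nat.beq (f9 q) (wordR W9 q)) q) = true := by decide +kernel

theorem eq9_4 : allR 10920 2730 (fun q => (fun q => Nat.beq (f9 q) (wordR W9 q)) q) = true := by decide +kernel

theorem eq9_5 : allR 13650 2730 (fun q => (fun q => Nat.beq (f9 q) (wordR W9 q)) q) = true := by decide +kernel

theorem eq9_6 : allR 16380 2730 (fun q => (fun q => Nat.beq (f9 q) (wordR W9 q)) q) = true := by decide +kernel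

theorem eq9_7 : allR 19110 2730 (fun q => (fun q => Nat.beq (f9 q) (wordR W9 q)) q) = true := by decide +kernel

theorem eq9_8 : allR 21840 2730 (fun q => (fun q => Nat.beq (f9 q) (wordR W9 q)) q) = true := by decide +kernel

theorem eq9_9 : allR 24570 2730 (fun q => (fun q => Nat.beq (f9 q) (wordR W9 q)) q) = true := by decide +kernel

theorem eq9_10 : allR 27300 2730 (fun q => (fun q => Nat.beq (f9 q) (wordR W9 q)) q) = true := by decide +kernel

theorem eq9_11 : allR 30030 2730 (fun q => (fun q => Nat.beq (f9 q) (wordR W9 q)) q) = true := by decide +kernel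

theorem eq9_12 : allR 32760 2730 (fun q => (fun q => Nat.beq (f9 q) (wordR W9 q)) q) = true := by decide +kernel

theorem eq9_13 : allR 35490 2730 (fun q => (fun q => Nat.beq (f9 q) (wordR W9 q)) q) = true := by decide +kernel

theorem eq9_14 : allR 38220 2730 (fun q => (fun q => Nat.beq (f9 q) (wordR W9 q)) q) = true := by decide +kernel

theorem eq9_15 : allR 40950 2730 (fun q => (fun q => Nat.beq (f9 q) (wordR W9 q)) q) = true := by decide +kernel

theorem eq9_16 : allR 43680 2730 (fun q => (fun q => Nat.beq (f9 q) (wordR W9 q)) q) = true := by decide +kernel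

theorem eq9_17 : allR 46410 2730 (fun q => (fun q => Nat.beq (f9 q) (wordR W9 q)) q) = true := by decide +kernel

theorem eq9_18 : allR 49140 2730 (fun q => (fun q => Nat.beq (f9 q) (wordR W9 q)) q) = true := by decide +kernel

theorem eq9_19 : allR 51870 2730 (fun q => (fun q => Nat.beq (f9 q) (wordR W9 q)) q) = true := by decide +kernel

theorem eq9_20 : allR 54600 2730 (fun q => (fun q => Nat.beq (f9 q) (wordR W9 q)) q) = true := by decide +kernel

theorem eq9_21 : allR 57330 2730 (fun q => (fun q => Nat.beq (f9 q) (wordR W9 q)) q) = true := by decide +kernel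

theorem eq9_22 : allR 60060 2730 (fun q => (fun q => Nat.beq (f9 q) (wordR W9 q)) q) = true := by decide +kernel

theorem eq9_23 : allR 62790 2730 (fun q => (fun q => Nat.beq (f9 q) (wordR W9 q)) q) = true := by decide +kernel

theorem eq9_24 : allR 65520 2730 (fun q => (fun q => Nat.beq (f9 q) (wordR W9 q)) q) = true := by decide +kernel


end Cfsg.Agent.Co1Out
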