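import Cfsg.Agent.Lib.Lead.Co1Out.CXR_0

/-! # The outer automorphism group of Co₁: the check of the table of `x ^ 5` (generated) -/

set_option autoImplicit false
set_option maxRecDepth 100000

namespace Cfsg.Agent.Co1Out

open Cfsg.Agent.PF Cfsg.Agent.Lib.Helper6 Cfsg.Agent.Lib.Helper6.TC Cfsg.Agent.Lib.Helper6.NatArr Cfsg.Agent.Co1P
open Cfsg.Agent.PL (Acts evalF)

theorem chk_xr_all : ∀ q < 98280, (fun q => Nat.beq (fxr q) (f13^[5] q)) q = true :=
  forall_lt_of_chunks (f := fun q => (fun q => Nat.beq (fxr q) (f13^[5] q)) q) [(0, 16380), (16380, 16380), (32760, 16380), (49140, 16380), (65520, 16380), (81900, 16380)] (by decide)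
    (all_cons chk_xr_0 (all_cons chk_xr_1 (all_cons chk_xr_2 (all_cons chk_xr_3 (all_cons chk_xr_4 (all_cons chk_xr_5 all_nil))))))

/-- the table of `x ^ 5` -/
theorem chk_xr : ∀ q < 98280, fxr q = f13^[5] q :=
  fun q hq => Nat.eq_of_beq_eq_true (chk_xr_all q hq)

end Cfsg.Agent.Co1Out
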