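import Cfsg.Agent.Lib.Lead.Co1Out.LevAD

/-! # The outer automorphism group of Co₁: the centraliser of `x`, slices (generated) -/

set_option autoImplicit false
set_option Elab.async false
set_option maxRecDepth 100000

namespace Cfsg.Agent.Co1Out

open Cfsg.Agent.PF Cfsg.Agent.Lib.Helper6 Cfsg.Agent.Lib.Helper6.TC Cfsg.Agent.Lib.Helper6.NatArr Cfsg.Agent.Co1P
open Cfsg.Agent.PL (Acts evalF)

theorem chk_centX_25 : allR 16625 665 (fun q => centP 98280 10 f13 [0] 23 LA0 LsA q) = true := by decide +kernel

theorem chk_centX_26 : allR 17290 665 (fun q => centP 98280 10 f13 [0] 23 LA0 LsA q) = true := by decide +kernel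

theorem chk_centX_27 : allR 17955 665 (fun q => centP 98280 10 f13 [0] 23 LA0 LsA q) = true := by decide +kernel

theorem chk_centX_28 : allR 18620 665 (fun q => centP 98280 10 f13 [0] 23 LA0 LsA q) = true := by decide +kernel

theorem chk_centX_29 : allR 19285 665 (fun q => centP 98280 10 f13 [0] 23 LA0 LsA q) = true := by decide +kernel

theorem chk_centX_30 : allR 19950 665 (fun q => centP 98280 10 f13 [0] 23 LA0 LsA q) = true := by decide +kernel

theorem chk_centX_31 : allR 20615 665 (fun q => centP 98280 10 f13 [0] 23 LA0 LsA q) = true := by decide +kernel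

theorem chk_centX_32 : allR 21280 665 (fun q => centP 98280 10 f13 [0] 23 LA0 LsA q) = true := by decide +kernel

theorem chk_centX_33 : allR 21945 665 (fun q => centP 98280 10 f13 [0] 23 LA0 LsA q) = true := by decide +kernel

theorem chk_centX_34 : allR 22610 665 (fun q => centP 98280 10 f13 [0] 23 LA0 LsA q) = true := by decide +kernel

theorem chk_centX_35 : allR 23275 665 (fun q => centP 98280 10 f13 [0] 23 LA0 LsA q) = true := by decide +kernel

theorem chk_centX_36 : allR 23940 665 (fun q => centP 98280 10 f13 [0] 23 LA0 LsA q) = true := by decide +kernel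

theorem chk_centX_37 : allR 24605 665 (fun q => centP 98280 10 f13 [0] 23 LA0 LsA q) = true := by decide +kernel

theorem chk_centX_38 : allR 25270 665 (fun q => centP 98280 10 f13 [0] 23 LA0 LsA q) = true := by decide +kernel

theorem chk_centX_39 : allR 25935 665 (fun q => centP 98280 10 f13 [0] 23 LA0 LsA q) = true := by decide +kernel

theorem chk_centX_40 : allR 26600 665 (fun q => centP 98280 10 f13 [0] 23 LA0 LsA q) = true := by decide +kernel

theorem chk_centX_41 : allR 27265 665 (fun q => centP 98280 10 f13 [0] 23 LA0 LsA q) = true := by decide +kernel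

theorem chk_centX_42 : allR 27930 665 (fun q => centP 98280 10 f13 [0] 23 LA0 LsA q) = true := by decide +kernel

theorem chk_centX_43 : allR 28595 665 (fun q => centP 98280 10 f13 [0] 23 LA0 LsA q) = true := by decide +kernel

theorem chk_centX_44 : allR 29260 665 (fun q => centP 98280 10 f13 [0] 23 LA0 LsA q) = true := by decide +kernel

theorem chk_centX_45 : allR 29925 665 (fun q => centP 98280 10 f13 [0] 23 LA0 LsA q) = true := by decide +kernel

theorem chk_centX_46 : allR 30590 665 (fun q => centP 98280 10 f13 [0] 23 LA0 LsA q) = true := by decide +kernel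

theorem chk_centX_47 : allR 31255 665 (fun q => centP 98280 10 f13 [0] 23 LA0 LsA q) = true := by decide +kernel

theorem chk_centX_48 : allR 31920 665 (fun q => centP 98280 10 f13 [0] 23 LA0 LsA q) = true := by decide +kernel

theorem chk_centX_49 : allR 32585 665 (fun q => centP 98280 10 f13 [0] 23 LA0 LsA q) = true := by decide +kernel


end Cfsg.Agent.Co1Out
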