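import Cfsg.Agent.Lib.Lead.Co1Out.LevAD

/-! # The outer automorphism group of Co₁: the centraliser of `x`, slices (generated) -/

set_option autoImplicit false
set_option Elab.async false
set_option maxRecDepth 100000

namespace Cfsg.Agent.Co1Out

open Cfsg.Agent.PF Cfsg.Agent.Lib.Helper6 Cfsg.Agent.Lib.Helper6.TC Cfsg.Agent.Lib.Helper6.NatArr Cfsg.Agent.Co1P
open Cfsg.Agent.PL (Acts evalF)

theorem chk_centX_75 : allR 49875 665 (fun q => centP 98280 10 f13 [0] 23 LA0 LsA q) = true := by decide +kernel

theorem chk_centX_76 : allR 50540 665 (fun q => centP 98280 10 f13 [0] 23 LA0 LsA q) = true := by decide +kernel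

theorem chk_centX_77 : allR 51205 665 (fun q => centP 98280 10 f13 [0] 23 LA0 LsA q) = true := by decide +kernel

theorem chk_centX_78 : allR 51870 665 (fun q => centP 98280 10 f13 [0] 23 LA0 LsA q) = true := by decide +kernel

theorem chk_centX_79 : allR 52535 665 (fun q => centP 98280 10 f13 [0] 23 LA0 LsA q) = true := by decide +kernel

theorem chk_centX_80 : allR 53200 665 (fun q => centP 98280 10 f13 [0] 23 LA0 LsA q) = true := by decide +kernel

theorem chk_centX_81 : allR 53865 665 (fun q => centP 98280 10 f13 [0] 23 LA0 LsA q) = true := by decide +kernel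

theorem chk_centX_82 : allR 54530 665 (fun q => centP 98280 10 f13 [0] 23 LA0 LsA q) = true := by decide +kernel

theorem chk_centX_83 : allR 55195 665 (fun q => centP 98280 10 f13 [0] 23 LA0 LsA q) = true := by decide +kernel

theorem chk_centX_84 : allR 55860 665 (fun q => centP 98280 10 f13 [0] 23 LA0 LsA q) = true := by decide +kernel

theorem chk_centX_85 : allR 56525 665 (fun q => centP 98280 10 f13 [0] 23 LA0 LsA q) = true := by decide +kernel

theorem chk_centX_86 : allR 57190 665 (fun q => centP 98280 10 f13 [0] 23 LA0 LsA q) = true := by decide +kernel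

theorem chk_centX_87 : allR 57855 665 (fun q => centP 98280 10 f13 [0] 23 LA0 LsA q) = true := by decide +kernel

theorem chk_centX_88 : allR 58520 665 (fun q => centP 98280 10 f13 [0] 23 LA0 LsA q) = true := by decide +kernel

theorem chk_centX_89 : allR 59185 665 (fun q => centP 98280 10 f13 [0] 23 LA0 LsA q) = true := by decide +kernel

theorem chk_centX_90 : allR 59850 665 (fun q => centP 98280 10 f13 [0] 23 LA0 LsA q) = true := by decide +kernel

theorem chk_centX_91 : allR 60515 665 (fun q => centP 98280 10 f13 [0] 23 LA0 LsA q) = true := by decide +kernel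

theorem chk_centX_92 : allR 61180 665 (fun q => centP 98280 10 f13 [0] 23 LA0 LsA q) = true := by decide +kernel

theorem chk_centX_93 : allR 61845 665 (fun q => centP 98280 10 f13 [0] 23 LA0 LsA q) = true := by decide +kernel

theorem chk_centX_94 : allR 62510 665 (fun q => centP 98280 10 f13 [0] 23 LA0 LsA q) = true := by decide +kernel

theorem chk_centX_95 : allR 63175 665 (fun q => centP 98280 10 f13 [0] 23 LA0 LsA q) = true := by decide +kernel

theorem chk_centX_96 : allR 63840 665 (fun q => centP 98280 10 f13 [0] 23 LA0 LsA q) = true := by decide +kernel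

theorem chk_centX_97 : allR 64505 665 (fun q => centP 98280 10 f13 [0] 23 LA0 LsA q) = true := by decide +kernel

theorem chk_centX_98 : allR 65170 665 (fun q => centP 98280 10 f13 [0] 23 LA0 LsA q) = true := by decide +kernel

theorem chk_centX_99 : allR 65835 665 (fun q => centP 98280 10 f13 [0] 23 LA0 LsA q) = true := by decide +kernel


end Cfsg.Agent.Co1Out
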