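import Cfsg.Agent.Lib.Lead.Co1Out.Cent_0
import Cfsg.Agent.Lib.Lead.Co1Out.Cent_1
import Cfsg.Agent.Lib.Lead.Co1Out.Cent_2
import Cfsg.Agent.Lib.Lead.Co1Out.Cent_3
import Cfsg.Agent.Lib.Lead.Co1Out.Cent_4
import Cfsg.Agent.Lib.Lead.Co1Out.Cent_5

/-! # The outer automorphism group of Co₁: the centraliser of `x` (generated) -/

set_option autoImplicit false
set_option maxRecDepth 100000

namespace Cfsg.Agent.Co1Out

open Cfsg.Agent.PF Cfsg.Agent.Lib.Helper6 Cfsg.Agent.Lib.Helper6.TC Cfsg.Agent.Lib.Helper6.NatArr Cfsg.Agent.Co1P
open Cfsg.Agent.PL (Acts evalF)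

theorem chk_centX_all : ∀ q < 98280, centP 98280 10 f13 [0] 23 LA0 LsA q = true :=
  forall_lt_of_chunks (f := fun q => centP 98280 10 f13 [0] 23 LA0 LsA q) [(0, 665), (665, 665), (1330, 665), (1995, 665), (2660, 665), (3325, 665), (3990, 665), (4655, 665), (5320, 665), (5985, 665), (6650, 665), (7315, 665), (7980, 665), (8645, 665), (9310, 665), (9975, 665), (10640, 665), (11305, 665), (11970, 665), (12635, 665), (13300, 665), (13965, 665), (14630, 665), (15295, 665), (15960, 665), (16625, 665), (17290, 665), (17955, 665), (18620, 665), (19285, 665), (19950, 665), (20615, 665), (21280, 665), (21945, 665), (22610, 665), (23275, 665), (23940, 665), (24605, 665), (25270, 665), (25935, 665), (26600, 665), (27265, 665), (27930, 665), (28595, 665), (29260, 665), (29925, 665), (30590, 665), (31255, 665), (31920, 665), (32585, 665), (33250, 665), (33915, 665), (34580, 665), (35245, 665), (35910, 665), (36575, 665), (37240, 665), (37905, 665), (38570, 665), (39235, 665), (39900, 665), (40565, 665), (41230, 665), (41895, 665), (42560, 665), (43225, 665), (43890, 665), (44555, 665),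 (45220, 665), (45885, 665), (46550, 665), (47215, 665), (47880, 665), (48545, 665), (49210, 665), (49875, 665), (50540, 665), (51205, 665), (51870, 665), (52535, 665), (53200, 665), (53865, 665), (54530, 665), (55195, 665), (55860, 665), (56525, 665), (57190, 665), (57855, 665), (58520, 665), (59185, 665), (59850, 665), (60515, 665), (61180, 665), (61845, 665), (62510, 665), (63175, 665), (63840, 665), (64505, 665), (65170, 665), (65835, 665), (66500, 665), (67165, 665), (67830, 665), (68495, 665), (69160, 665), (69825, 665), (70490, 665), (71155, 665), (71820, 665), (72485, 665), (73150, 665), (73815, 665), (74480, 665), (75145, 665), (75810, 665), (76475, 665), (77140, 665), (77805, 665), (78470, 665), (79135, 665), (79800, 665), (80465, 665), (81130, 665), (81795, 665), (82460, 665), (83125, 665), (83790, 665), (84455, 665), (85120, 665), (85785, 665), (86450, 665), (87115, 665), (87780, 665), (88445, 665), (89110, 665), (89775, 665), (90440, 665), (91105, 665), (91770, 665), (92435, 665), (93100, 665), (93765, 665), (94430, 665), (95095, 665), (95760, 665), (96425, 665),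 (97090, 665), (97755, 525)] (by decide)
    (all_cons chk_centX_0 (all_cons chk_centX_1 (all_cons chk_centX_2 (all_cons chk_centX_3 (all_cons chk_centX_4 (all_cons chk_centX_5 (all_cons chk_centX_6 (all_cons chk_centX_7 (all_cons chk_centX_8 (all_cons chk_centX_9 (all_cons chk_centX_10 (all_cons chk_centX_11 (all_cons chk_centX_12 (all_cons chk_centX_13 (all_cons chk_centX_14 (all_cons chk_centX_15 (all_cons chk_centX_16 (all_cons chk_centX_17 (all_cons chk_centX_18 (all_cons chk_centX_19 (all_cons chk_centX_20 (all_cons chk_centX_21 (all_cons chk_centX_22 (all_cons chk_centX_23 (all_cons chk_centX_24 (all_cons chk_centX_25 (all_cons chk_centX_26 (all_cons chk_centX_27 (all_cons chk_centX_28 (all_cons chk_centX_29 (all_cons chk_centX_30 (all_cons chk_centX_31 (all_cons chk_centX_32 (all_cons chk_centX_33 (all_cons chk_centX_34 (all_cons chk_centX_35 (all_cons chk_centX_36 (all_cons chk_centX_37 (all_cons chk_centX_38 (all_cons chk_centX_39 (all_cons chk_centX_40 (all_cons chk_centX_41 (all_cons chk_centX_42 (all_cons chk_centX_43 (all_cons chk_centX_44 (all_cons chk_centX_45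 (all_cons chk_centX_46 (all_cons chk_centX_47 (all_cons chk_centX_48 (all_cons chk_centX_49 (all_cons chk_centX_50 (all_cons chk_centX_51 (all_cons chk_centX_52 (all_cons chk_centX_53 (all_cons chk_centX_54 (all_cons chk_centX_55 (all_cons chk_centX_56 (all_cons chk_centX_57 (all_cons chk_centX_58 (all_cons chk_centX_59 (all_cons chk_centX_60 (all_cons chk_centX_61 (all_cons chk_centX_62 (all_cons chk_centX_63 (all_cons chk_centX_64 (all_cons chk_centX_65 (all_cons chk_centX_66 (all_cons chk_centX_67 (all_cons chk_centX_68 (all_cons chk_centX_69 (all_cons chk_centX_70 (all_cons chk_centX_71 (all_cons chk_centX_72 (all_cons chk_centX_73 (all_cons chk_centX_74 (all_cons chk_centX_75 (all_cons chk_centX_76 (all_cons chk_centX_77 (all_cons chk_centX_78 (all_cons chk_centX_79 (all_cons chk_centX_80 (all_cons chk_centX_81 (all_cons chk_centX_82 (all_cons chk_centX_83 (all_cons chk_centX_84 (all_cons chk_centX_85 (all_cons chk_centX_86 (all_cons chk_centX_87 (all_cons chk_centX_88 (all_cons chk_centX_89 (all_cons chk_centX_90 (all_cons chk_centX_91 (all_cons chk_centX_92 (all_cons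 chk_centX_93 (all_cons chk_centX_94 (all_cons chk_centX_95 (all_cons chk_centX_96 (all_cons chk_centX_97 (all_cons chk_centX_98 (all_cons chk_centX_99 (all_cons chk_centX_100 (all_cons chk_centX_101 (all_cons chk_centX_102 (all_cons chk_centX_103 (all_cons chk_centX_104 (all_cons chk_centX_105 (all_cons chk_centX_106 (all_cons chk_centX_107 (all_cons chk_centX_108 (all_cons chk_centX_109 (all_cons chk_centX_110 (all_cons chk_centX_111 (all_cons chk_centX_112 (all_cons chk_centX_113 (all_cons chk_centX_114 (all_cons chk_centX_115 (all_cons chk_centX_116 (all_cons chk_centX_117 (all_cons chk_centX_118 (all_cons chk_centX_119 (all_cons chk_centX_120 (all_cons chk_centX_121 (all_cons chk_centX_122 (all_cons chk_centX_123 (all_cons chk_centX_124 (all_cons chk_centX_125 (all_cons chk_centX_126 (all_cons chk_centX_127 (all_cons chk_centX_128 (all_cons chk_centX_129 (all_cons chk_centX_130 (all_cons chk_centX_131 (all_cons chk_centX_132 (all_cons chk_centX_133 (all_cons chk_centX_134 (all_cons chk_centX_135 (all_cons chk_centX_136 (all_cons chk_centX_137 (all_cons chk_centX_138 (all_cons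 chk_centX_139 (all_cons chk_centX_140 (all_cons chk_centX_141 (all_cons chk_centX_142 (all_cons chk_centX_143 (all_cons chk_centX_144 (all_cons chk_centX_145 (all_cons chk_centX_146 (all_cons chk_centX_147 all_nil))))))))))))))))))))))))))))))))))))))))))))))))))))))))))))))))))))))))))))))))))))))))))))))))))))))))))))))))))))))))))))))))))))))))))))))))))))

/-- every element of the centraliser of `x` is a power of `x` -/
theorem chk_centX : ∀ q < 98280, centP 98280 10 f13 [0] 23 LA0 LsA q = true :=
  chk_centX_all

end Cfsg.Agent.Co1Out
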