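import Cfsg.Agent.Lib.Lead.Co1Out.D24
import Cfsg.Agent.Lib.Lead.Co1Out.D14

/-! # The outer automorphism group of Co₁: the action of `w` on `y`, slices (generated) -/

set_option autoImplicit false
set_option Elab.async false
set_option maxRecDepth 100000

namespace Cfsg.Agent.Co1Out

open Cfsg.Agent.PF Cfsg.Agent.Lib.Helper6 Cfsg.Agent.Lib.Helper6.TC Cfsg.Agent.Lib.Helper6.NatArr Cfsg.Agent.Co1P
open Cfsg.Agent.PL (Acts evalF)

theorem chk_wy_0 : allR 0 24570 (fun q => (fun q => Nat.beq ((fun q => f24 (f14 q)) q) ((fun q => f14^[1] (f24 q)) q)) q) = true := by decide +kernel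

theorem chk_wy_1 : allR 24570 24570 (fun q => (fun q => Nat.beq ((fun q => f24 (f14 q)) q) ((fun q => f14^[1] (f24 q)) q)) q) = true := by decide +kernel

theorem chk_wy_2 : allR 49140 24570 (fun q => (fun q => Nat.beq ((fun q => f24 (f14 q)) q) ((fun q => f14^[1] (f24 q)) q)) q) = true := by decide +kernel

theorem chk_wy_3 : allR 73710 24570 (fun q => (fun q => Nat.beq ((fun q => f24 (f14 q)) q) ((fun q => f14^[1] (f24 q)) q)) q) = true := by decide +kernel


end Cfsg.Agent.Co1Out
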