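import Cfsg.Agent.Lib.Lead.Co1Out.ChkYX_0

/-! # The outer automorphism group of Co₁: the action of `y` on `x` (generated) -/

set_option autoImplicit false
set_option maxRecDepth 100000

namespace Cfsg.Agent.Co1Out

open Cfsg.Agent.PF Cfsg.Agent.Lib.Helper6 Cfsg.Agent.Lib.Helper6.TC Cfsg.Agent.Lib.Helper6.NatArr Cfsg.Agent.Co1P
open Cfsg.Agent.PL (Acts evalF)

theorem chk_yx_all : ∀ q < 98280, (fun q => Nat.beq ((fun q => f14 (f13 q)) q) ((fun q => f13^[2] (f14 q)) q)) q = true :=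
  forall_lt_of_chunks (f := fun q => (fun q => Nat.beq ((fun q => f14 (f13 q)) q) ((fun q => f13^[2] (f14 q)) q)) q) [(0, 19656), (19656, 19656), (39312, 19656), (58968, 19656), (78624, 19656)] (by decide)
    (all_cons chk_yx_0 (all_cons chk_yx_1 (all_cons chk_yx_2 (all_cons chk_yx_3 (all_cons chk_yx_4 all_nil)))))

/-- `y x = x ^ 2 y` -/
theorem chk_yx : ∀ q < 98280, (fun q => f14 (f13 q)) q = (fun q => f13^[2] (f14 q)) q :=
  fun q hq => Nat.eq_of_beq_eq_true (chk_yx_all q hq)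

end Cfsg.Agent.Co1Out
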