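import Cfsg.Agent.Lib.Lead.Co1Out.D13
import Cfsg.Agent.Lib.Lead.Co1Out.D14

/-! # The outer automorphism group of Co₁: the action of `y` on `x`, slices (generated) -/

set_option autoImplicit false
set_option Elab.async false
set_option maxRecDepth 100000

namespace Cfsg.Agent.Co1Out

open Cfsg.Agent.PF Cfsg.Agent.Lib.Helper6 Cfsg.Agent.Lib.Helper6.TC Cfsg.Agent.Lib.Helper6.NatArr Cfsg.Agent.Co1P
open Cfsg.Agent.PL (Acts evalF)

theorem chk_yx_0 : allR 0 19656 (fun q => (fun q => Nat.beq ((fun q => f14 (f13 q)) q) ((fun q => f13^[2] (f14 q)) q)) q) = true := by decide +kernel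

theorem chk_yx_1 : allR 19656 19656 (fun q => (fun q => Nat.beq ((fun q => f14 (f13 q)) q) ((fun q => f13^[2] (f14 q)) q)) q) = true := by decide +kernel

theorem chk_yx_2 : allR 39312 19656 (fun q => (fun q => Nat.beq ((fun q => f14 (f13 q)) q) ((fun q => f13^[2] (f14 q)) q)) q) = true := by decide +kernel

theorem chk_yx_3 : allR 58968 19656 (fun q => (fun q => Nat.beq ((fun q => f14 (f13 q)) q) ((fun q => f13^[2] (f14 q)) q)) q) = true := by decide +kernel

theorem chk_yx_4 : allR 78624 19656 (fun q => (fun q => Nat.beq ((fun q => f14 (f13 q)) q) ((fun q => f13^[2] (f14 q)) q)) q) = true := by decide +kernel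


end Cfsg.Agent.Co1Out
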