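import Cfsg.Agent.Lib.Lead.Co1Out.CntA2_0

/-! # The outer automorphism group of Co₁: the number of points of the tree number 2 of the chain `A` (generated) -/

set_option autoImplicit false
set_option maxRecDepth 100000

namespace Cfsg.Agent.Co1Out

open Cfsg.Agent.PF Cfsg.Agent.Lib.Helper6 Cfsg.Agent.Lib.Helper6.TC Cfsg.Agent.Lib.Helper6.NatArr Cfsg.Agent.Co1P
open Cfsg.Agent.PL (Acts evalF)

/-- the number of points of the tree number 2 of the chain `A` -/
theorem lenA2 : (orbitL 98280 LA2.2.1 LA2.2.2 LA2.1 10).length = 22528 := by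
  rw [length_orbitL]
  exact (countR_append cntA2_0 (countR_append cntA2_1 (countR_append cntA2_2 (countR_append cntA2_3 (countR_append cntA2_4 (countR_append cntA2_5 (countR_append cntA2_6 (countR_append cntA2_7 (countR_append cntA2_8 (countR_append cntA2_9 (countR_append cntA2_10 (countR_append cntA2_11 (countR_append cntA2_12 (countR_append cntA2_13 (countR_append cntA2_14 (countR_append cntA2_15 (countR_append cntA2_16 (countR_append cntA2_17 (countR_append cntA2_18 (countR_append cntA2_19 (countR_append cntA2_20 (countR_append cntA2_21 (countR_append cntA2_22 (cntA2_23))))))))))))))))))))))) :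
    countR 0 (4095 + (4095 + (4095 + (4095 + (4095 + (4095 + (4095 + (4095 + (4095 + (4095 + (4095 + (4095 + (4095 + (4095 + (4095 + (4095 + (4095 + (4095 + (4095 + (4095 + (4095 + (4095 + (4095 + (4095)))))))))))))))))))))))) (traceTo LA2.2.1 LA2.2.2 LA2.1 10) = 901 + (936 + (977 + (1056 + (991 + (869 + (851 + (834 + (861 + (924 + (967 + (948 + (969 + (948 + (967 + (916 + (972 + (926 + (958 + (809 + (1020 + (993 + (1015 + (920))))))))))))))))))))))))

end Cfsg.Agent.Co1Out
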