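import Cfsg.Agent.Lib.Lead.Co1Out.CntA3_0
import Cfsg.Agent.Lib.Lead.Co1Out.CntA3_1

/-! # The outer automorphism group of Co₁: the number of points of the tree number 3 of the chain `A` (generated) -/

set_option autoImplicit false
set_option maxRecDepth 100000

namespace Cfsg.Agent.Co1Out

open Cfsg.Agent.PF Cfsg.Agent.Lib.Helper6 Cfsg.Agent.Lib.Helper6.TC Cfsg.Agent.Lib.Helper6.NatArr Cfsg.Agent.Co1P
open Cfsg.Agent.PL (Acts evalF)

/-- the number of points of the tree number 3 of the chain `A` -/
theorem lenA3 : (orbitL 98280 LA3.2.1 LA3.2.2 LA3.1 10).length = 6720 := by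
  rw [length_orbitL]
  exact (countR_append cntA3_0 (countR_append cntA3_1 (countR_append cntA3_2 (countR_append cntA3_3 (countR_append cntA3_4 (countR_append cntA3_5 (countR_append cntA3_6 (countR_append cntA3_7 (countR_append cntA3_8 (countR_append cntA3_9 (countR_append cntA3_10 (countR_append cntA3_11 (countR_append cntA3_12 (countR_append cntA3_13 (countR_append cntA3_14 (countR_append cntA3_15 (countR_append cntA3_16 (countR_append cntA3_17 (countR_append cntA3_18 (countR_append cntA3_19 (countR_append cntA3_20 (countR_append cntA3_21 (countR_append cntA3_22 (countR_append cntA3_23 (countR_append cntA3_24 (countR_append cntA3_25 (countR_append cntA3_26 (countR_append cntA3_27 (countR_append cntA3_28 (cntA3_29))))))))))))))))))))))))))))) :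
    countR 0 (3276 + (3276 + (3276 + (3276 + (3276 + (3276 + (3276 + (3276 + (3276 + (3276 + (3276 + (3276 + (3276 + (3276 + (3276 + (3276 + (3276 + (3276 + (3276 + (3276 + (3276 + (3276 + (3276 + (3276 + (3276 + (3276 + (3276 + (3276 + (3276 + (3276)))))))))))))))))))))))))))))) (traceTo LA3.2.1 LA3.2.2 LA3.1 10) = 231 + (226 + (257 + (225 + (149 + (223 + (216 + (236 + (276 + (233 + (238 + (253 + (232 + (173 + (249 + (230 + (210 + (208 + (257 + (226 + (184 + (244 + (249 + (199 + (264 + (200 + (264 + (168 + (215 + (185))))))))))))))))))))))))))))))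

end Cfsg.Agent.Co1Out
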