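import Cfsg.Agent.Lib.Lead.Co1Out.CntA4_0

/-! # The outer automorphism group of Co₁: the number of points of the tree number 4 of the chain `A` (generated) -/

set_option autoImplicit false
set_option maxRecDepth 100000

namespace Cfsg.Agent.Co1Out

open Cfsg.Agent.PF Cfsg.Agent.Lib.Helper6 Cfsg.Agent.Lib.Helper6.TC Cfsg.Agent.Lib.Helper6.NatArr Cfsg.Agent.Co1P
open Cfsg.Agent.PL (Acts evalF)

/-- the number of points of the tree number 4 of the chain `A` -/
theorem lenA4 : (orbitL 98280 LA4.2.1 LA4.2.2 LA4.1 10).length = 6 := by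
  rw [length_orbitL]
  exact (countR_append cntA4_0 (countR_append cntA4_1 (countR_append cntA4_2 (countR_append cntA4_3 (countR_append cntA4_4 (cntA4_5))))) :
    countR 0 (16380 + (16380 + (16380 + (16380 + (16380 + (16380)))))) (traceTo LA4.2.1 LA4.2.2 LA4.1 10) = 2 + (0 + (0 + (3 + (1 + (0))))))

end Cfsg.Agent.Co1Out
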