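import Cfsg.Agent.Lib.Lead.Co1Out.CntA0_0

/-! # The outer automorphism group of Co₁: the number of points of the tree number 0 of the chain `A` (generated) -/

set_option autoImplicit false
set_option maxRecDepth 100000

namespace Cfsg.Agent.Co1Out

open Cfsg.Agent.PF Cfsg.Agent.Lib.Helper6 Cfsg.Agent.Lib.Helper6.TC Cfsg.Agent.Lib.Helper6.NatArr Cfsg.Agent.Co1P
open Cfsg.Agent.PL (Acts evalF)

/-- the number of points of the tree number 0 of the chain `A` -/
theorem lenA0 : (orbitL 98280 LA0.2.1 LA0.2.2 LA0.1 10).length = 98280 := by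
  rw [length_orbitL]
  exact (countR_append cntA0_0 (countR_append cntA0_1 (countR_append cntA0_2 (countR_append cntA0_3 (countR_append cntA0_4 (countR_append cntA0_5 (countR_append cntA0_6 (countR_append cntA0_7 (countR_append cntA0_8 (countR_append cntA0_9 (countR_append cntA0_10 (countR_append cntA0_11 (countR_append cntA0_12 (countR_append cntA0_13 (countR_append cntA0_14 (countR_append cntA0_15 (countR_append cntA0_16 (cntA0_17))))))))))))))))) :
    countR 0 (5460 + (5460 + (5460 + (5460 + (5460 + (5460 + (5460 + (5460 + (5460 + (5460 + (5460 + (5460 + (5460 + (5460 + (5460 + (5460 + (5460 + (5460)))))))))))))))))) (traceTo LA0.2.1 LA0.2.2 LA0.1 10) = 5460 + (5460 + (5460 + (5460 + (5460 + (5460 + (5460 + (5460 + (5460 + (5460 + (5460 + (5460 + (5460 + (5460 + (5460 + (5460 + (5460 + (5460))))))))))))))))))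

end Cfsg.Agent.Co1Out
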