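import Cfsg.Agent.Lib.Lead.Co1Out.LevAD

/-! # The outer automorphism group of Co₁: the number of points of the tree number 0 of the chain `A`, slices (generated) -/

set_option autoImplicit false
set_option Elab.async false
set_option maxRecDepth 100000

namespace Cfsg.Agent.Co1Out

open Cfsg.Agent.PF Cfsg.Agent.Lib.Helper6 Cfsg.Agent.Lib.Helper6.TC Cfsg.Agent.Lib.Helper6.NatArr Cfsg.Agent.Co1P
open Cfsg.Agent.PL (Acts evalF)

theorem cntA0_0 : countR 0 5460 (traceTo LA0.2.1 LA0.2.2 LA0.1 10) = 5460 := by decide +kernel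

theorem cntA0_1 : countR 5460 5460 (traceTo LA0.2.1 LA0.2.2 LA0.1 10) = 5460 := by decide +kernel

theorem cntA0_2 : countR 10920 5460 (traceTo LA0.2.1 LA0.2.2 LA0.1 10) = 5460 := by decide +kernel

theorem cntA0_3 : countR 16380 5460 (traceTo LA0.2.1 LA0.2.2 LA0.1 10) = 5460 := by decide +kernel

theorem cntA0_4 : countR 21840 5460 (traceTo LA0.2.1 LA0.2.2 LA0.1 10) = 5460 := by decide +kernel

theorem cntA0_5 : countR 27300 5460 (traceTo LA0.2.1 LA0.2.2 LA0.1 10) = 5460 := by decide +kernel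

theorem cntA0_6 : countR 32760 5460 (traceTo LA0.2.1 LA0.2.2 LA0.1 10) = 5460 := by decide +kernel

theorem cntA0_7 : countR 38220 5460 (traceTo LA0.2.1 LA0.2.2 LA0.1 10) = 5460 := by decide +kernel

theorem cntA0_8 : countR 43680 5460 (traceTo LA0.2.1 LA0.2.2 LA0.1 10) = 5460 := by decide +kernel

theorem cntA0_9 : countR 49140 5460 (traceTo LA0.2.1 LA0.2.2 LA0.1 10) = 5460 := by decide +kernel

theorem cntA0_10 : countR 54600 5460 (traceTo LA0.2.1 LA0.2.2 LA0.1 10) = 5460 := by decide +kernel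

theorem cntA0_11 : countR 60060 5460 (traceTo LA0.2.1 LA0.2.2 LA0.1 10) = 5460 := by decide +kernel

theorem cntA0_12 : countR 65520 5460 (traceTo LA0.2.1 LA0.2.2 LA0.1 10) = 5460 := by decide +kernel

theorem cntA0_13 : countR 70980 5460 (traceTo LA0.2.1 LA0.2.2 LA0.1 10) = 5460 := by decide +kernel

theorem cntA0_14 : countR 76440 5460 (traceTo LA0.2.1 LA0.2.2 LA0.1 10) = 5460 := by decide +kernel

theorem cntA0_15 : countR 81900 5460 (traceTo LA0.2.1 LA0.2.2 LA0.1 10) = 5460 := by decide +kernel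

theorem cntA0_16 : countR 87360 5460 (traceTo LA0.2.1 LA0.2.2 LA0.1 10) = 5460 := by decide +kernel

theorem cntA0_17 : countR 92820 5460 (traceTo LA0.2.1 LA0.2.2 LA0.1 10) = 5460 := by decide +kernel


end Cfsg.Agent.Co1Out
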