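import Cfsg.Agent.Lib.Lead.Co1Out.LevAD

/-! # The outer automorphism group of Co₁: the number of points of the tree number 1 of the chain `A`, slices (generated) -/

set_option autoImplicit false
set_option Elab.async false
set_option maxRecDepth 100000

namespace Cfsg.Agent.Co1Out

open Cfsg.Agent.PF Cfsg.Agent.Lib.Helper6 Cfsg.Agent.Lib.Helper6.TC Cfsg.Agent.Lib.Helper6.NatArr Cfsg.Agent.Co1P
open Cfsg.Agent.PL (Acts evalF)

theorem cntA1_0 : countR 0 4095 (traceTo LA1.2.1 LA1.2.2 LA1.1 10) = 1701 := by decide +kernel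

theorem cntA1_1 : countR 4095 4095 (traceTo LA1.2.1 LA1.2.2 LA1.1 10) = 1846 := by decide +kernel

theorem cntA1_2 : countR 8190 4095 (traceTo LA1.2.1 LA1.2.2 LA1.1 10) = 1846 := by decide +kernel

theorem cntA1_3 : countR 12285 4095 (traceTo LA1.2.1 LA1.2.2 LA1.1 10) = 1962 := by decide +kernel

theorem cntA1_4 : countR 16380 4095 (traceTo LA1.2.1 LA1.2.2 LA1.1 10) = 1847 := by decide +kernel

theorem cntA1_5 : countR 20475 4095 (traceTo LA1.2.1 LA1.2.2 LA1.1 10) = 2082 := by decide +kernel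

theorem cntA1_6 : countR 24570 4095 (traceTo LA1.2.1 LA1.2.2 LA1.1 10) = 1841 := by decide +kernel

theorem cntA1_7 : countR 28665 4095 (traceTo LA1.2.1 LA1.2.2 LA1.1 10) = 2037 := by decide +kernel

theorem cntA1_8 : countR 32760 4095 (traceTo LA1.2.1 LA1.2.2 LA1.1 10) = 2049 := by decide +kernel

theorem cntA1_9 : countR 36855 4095 (traceTo LA1.2.1 LA1.2.2 LA1.1 10) = 1907 := by decide +kernel

theorem cntA1_10 : countR 40950 4095 (traceTo LA1.2.1 LA1.2.2 LA1.1 10) = 1859 := by decide +kernel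

theorem cntA1_11 : countR 45045 4095 (traceTo LA1.2.1 LA1.2.2 LA1.1 10) = 1901 := by decide +kernel

theorem cntA1_12 : countR 49140 4095 (traceTo LA1.2.1 LA1.2.2 LA1.1 10) = 1906 := by decide +kernel

theorem cntA1_13 : countR 53235 4095 (traceTo LA1.2.1 LA1.2.2 LA1.1 10) = 2027 := by decide +kernel

theorem cntA1_14 : countR 57330 4095 (traceTo LA1.2.1 LA1.2.2 LA1.1 10) = 1830 := by decide +kernel

theorem cntA1_15 : countR 61425 4095 (traceTo LA1.2.1 LA1.2.2 LA1.1 10) = 1902 := by decide +kernel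

theorem cntA1_16 : countR 65520 4095 (traceTo LA1.2.1 LA1.2.2 LA1.1 10) = 1955 := by decide +kernel

theorem cntA1_17 : countR 69615 4095 (traceTo LA1.2.1 LA1.2.2 LA1.1 10) = 1908 := by decide +kernel

theorem cntA1_18 : countR 73710 4095 (traceTo LA1.2.1 LA1.2.2 LA1.1 10) = 1821 := by decide +kernel

theorem cntA1_19 : countR 77805 4095 (traceTo LA1.2.1 LA1.2.2 LA1.1 10) = 2171 := by decide +kernel

theorem cntA1_20 : countR 81900 4095 (traceTo LA1.2.1 LA1.2.2 LA1.1 10) = 2081 := by decide +kernel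

theorem cntA1_21 : countR 85995 4095 (traceTo LA1.2.1 LA1.2.2 LA1.1 10) = 1828 := by decide +kernel

theorem cntA1_22 : countR 90090 4095 (traceTo LA1.2.1 LA1.2.2 LA1.1 10) = 2082 := by decide +kernel

theorem cntA1_23 : countR 94185 4095 (traceTo LA1.2.1 LA1.2.2 LA1.1 10) = 2186 := by decide +kernel


end Cfsg.Agent.Co1Out
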