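import Cfsg.Agent.Lib.Lead.Co1Out.LevAD

/-! # The outer automorphism group of Co₁: the number of points of the tree number 3 of the chain `A`, slices (generated) -/

set_option autoImplicit false
set_option Elab.async false
set_option maxRecDepth 100000

namespace Cfsg.Agent.Co1Out

open Cfsg.Agent.PF Cfsg.Agent.Lib.Helper6 Cfsg.Agent.Lib.Helper6.TC Cfsg.Agent.Lib.Helper6.NatArr Cfsg.Agent.Co1P
open Cfsg.Agent.PL (Acts evalF)

theorem cntA3_0 : countR 0 3276 (traceTo LA3.2.1 LA3.2.2 LA3.1 10) = 231 := by decide +kernel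

theorem cntA3_1 : countR 3276 3276 (traceTo LA3.2.1 LA3.2.2 LA3.1 10) = 226 := by decide +kernel

theorem cntA3_2 : countR 6552 3276 (traceTo LA3.2.1 LA3.2.2 LA3.1 10) = 257 := by decide +kernel

theorem cntA3_3 : countR 9828 3276 (traceTo LA3.2.1 LA3.2.2 LA3.1 10) = 225 := by decide +kernel

theorem cntA3_4 : countR 13104 3276 (traceTo LA3.2.1 LA3.2.2 LA3.1 10) = 149 := by decide +kernel

theorem cntA3_5 : countR 16380 3276 (traceTo LA3.2.1 LA3.2.2 LA3.1 10) = 223 := by decide +kernel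

theorem cntA3_6 : countR 19656 3276 (traceTo LA3.2.1 LA3.2.2 LA3.1 10) = 216 := by decide +kernel

theorem cntA3_7 : countR 22932 3276 (traceTo LA3.2.1 LA3.2.2 LA3.1 10) = 236 := by decide +kernel

theorem cntA3_8 : countR 26208 3276 (traceTo LA3.2.1 LA3.2.2 LA3.1 10) = 276 := by decide +kernel

theorem cntA3_9 : countR 29484 3276 (traceTo LA3.2.1 LA3.2.2 LA3.1 10) = 233 := by decide +kernel

theorem cntA3_10 : countR 32760 3276 (traceTo LA3.2.1 LA3.2.2 LA3.1 10) = 238 := by decide +kernel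

theorem cntA3_11 : countR 36036 3276 (traceTo LA3.2.1 LA3.2.2 LA3.1 10) = 253 := by decide +kernel

theorem cntA3_12 : countR 39312 3276 (traceTo LA3.2.1 LA3.2.2 LA3.1 10) = 232 := by decide +kernel

theorem cntA3_13 : countR 42588 3276 (traceTo LA3.2.1 LA3.2.2 LA3.1 10) = 173 := by decide +kernel

theorem cntA3_14 : countR 45864 3276 (traceTo LA3.2.1 LA3.2.2 LA3.1 10) = 249 := by decide +kernel

theorem cntA3_15 : countR 49140 3276 (traceTo LA3.2.1 LA3.2.2 LA3.1 10) = 230 := by decide +kernel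

theorem cntA3_16 : countR 52416 3276 (traceTo LA3.2.1 LA3.2.2 LA3.1 10) = 210 := by decide +kernel

theorem cntA3_17 : countR 55692 3276 (traceTo LA3.2.1 LA3.2.2 LA3.1 10) = 208 := by decide +kernel

theorem cntA3_18 : countR 58968 3276 (traceTo LA3.2.1 LA3.2.2 LA3.1 10) = 257 := by decide +kernel

theorem cntA3_19 : countR 62244 3276 (traceTo LA3.2.1 LA3.2.2 LA3.1 10) = 226 := by decide +kernel

theorem cntA3_20 : countR 65520 3276 (traceTo LA3.2.1 LA3.2.2 LA3.1 10) = 184 := by decide +kernel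

theorem cntA3_21 : countR 68796 3276 (traceTo LA3.2.1 LA3.2.2 LA3.1 10) = 244 := by decide +kernel

theorem cntA3_22 : countR 72072 3276 (traceTo LA3.2.1 LA3.2.2 LA3.1 10) = 249 := by decide +kernel

theorem cntA3_23 : countR 75348 3276 (traceTo LA3.2.1 LA3.2.2 LA3.1 10) = 199 := by decide +kernel

theorem cntA3_24 : countR 78624 3276 (traceTo LA3.2.1 LA3.2.2 LA3.1 10) = 264 := by decide +kernel


end Cfsg.Agent.Co1Out
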