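import Cfsg.Agent.Lib.Lead.Co1Out.CntB1_0

/-! # The outer automorphism group of Co₁: the number of points of the tree number 1 of the chain `B` (generated) -/

set_option autoImplicit false
set_option maxRecDepth 100000

namespace Cfsg.Agent.Co1Out

open Cfsg.Agent.PF Cfsg.Agent.Lib.Helper6 Cfsg.Agent.Lib.Helper6.TC Cfsg.Agent.Lib.Helper6.NatArr Cfsg.Agent.Co1P
open Cfsg.Agent.PL (Acts evalF)

/-- the number of points of the tree number 1 of the chain `B` -/
theorem lenB1 : (orbitL 98280 LB1.2.1 LB1.2.2 LB1.1 10).length = 47104 := by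
  rw [length_orbitL]
  exact (countR_append cntB1_0 (countR_append cntB1_1 (countR_append cntB1_2 (countR_append cntB1_3 (countR_append cntB1_4 (countR_append cntB1_5 (countR_append cntB1_6 (countR_append cntB1_7 (countR_append cntB1_8 (countR_append cntB1_9 (countR_append cntB1_10 (countR_append cntB1_11 (countR_append cntB1_12 (countR_append cntB1_13 (countR_append cntB1_14 (countR_append cntB1_15 (countR_append cntB1_16 (countR_append cntB1_17 (countR_append cntB1_18 (countR_append cntB1_19 (cntB1_20)))))))))))))))))))) :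
    countR 0 (4680 + (4680 + (4680 + (4680 + (4680 + (4680 + (4680 + (4680 + (4680 + (4680 + (4680 + (4680 + (4680 + (4680 + (4680 + (4680 + (4680 + (4680 + (4680 + (4680 + (4680))))))))))))))))))))) (traceTo LB1.2.1 LB1.2.2 LB1.1 10) = 2316 + (2225 + (2270 + (2210 + (2218 + (2216 + (2303 + (2377 + (2282 + (2212 + (2241 + (2214 + (2246 + (2211 + (2221 + (2208 + (2235 + (2334 + (2298 + (2131 + (2136)))))))))))))))))))))

end Cfsg.Agent.Co1Out
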