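import Cfsg.Agent.Lib.Lead.Co1Out.CntB2_0

/-! # The outer automorphism group of Co₁: the number of points of the tree number 2 of the chain `B` (generated) -/

set_option autoImplicit false
set_option maxRecDepth 100000

namespace Cfsg.Agent.Co1Out

open Cfsg.Agent.PF Cfsg.Agent.Lib.Helper6 Cfsg.Agent.Lib.Helper6.TC Cfsg.Agent.Lib.Helper6.NatArr Cfsg.Agent.Co1P
open Cfsg.Agent.PL (Acts evalF)

/-- the number of points of the tree number 2 of the chain `B` -/
theorem lenB2 : (orbitL 98280 LB2.2.1 LB2.2.2 LB2.1 10).length = 22275 := by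
  rw [length_orbitL]
  exact (countR_append cntB2_0 (countR_append cntB2_1 (countR_append cntB2_2 (countR_append cntB2_3 (countR_append cntB2_4 (countR_append cntB2_5 (countR_append cntB2_6 (countR_append cntB2_7 (countR_append cntB2_8 (countR_append cntB2_9 (countR_append cntB2_10 (countR_append cntB2_11 (countR_append cntB2_12 (countR_append cntB2_13 (countR_append cntB2_14 (countR_append cntB2_15 (countR_append cntB2_16 (countR_append cntB2_17 (countR_append cntB2_18 (countR_append cntB2_19 (countR_append cntB2_20 (countR_append cntB2_21 (countR_append cntB2_22 (cntB2_23))))))))))))))))))))))) :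
    countR 0 (4095 + (4095 + (4095 + (4095 + (4095 + (4095 + (4095 + (4095 + (4095 + (4095 + (4095 + (4095 + (4095 + (4095 + (4095 + (4095 + (4095 + (4095 + (4095 + (4095 + (4095 + (4095 + (4095 + (4095)))))))))))))))))))))))) (traceTo LB2.2.1 LB2.2.2 LB2.1 10) = 896 + (939 + (928 + (1006 + (926 + (987 + (924 + (852 + (762 + (864 + (927 + (933 + (984 + (965 + (921 + (963 + (995 + (954 + (914 + (863 + (851 + (939 + (1037 + (945))))))))))))))))))))))))

end Cfsg.Agent.Co1Out
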