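import Cfsg.Agent.Lib.Lead.Co1Out.CntB3_0

/-! # The outer automorphism group of Co₁: the number of points of the tree number 3 of the chain `B` (generated) -/

set_option autoImplicit false
set_option maxRecDepth 100000

namespace Cfsg.Agent.Co1Out

open Cfsg.Agent.PF Cfsg.Agent.Lib.Helper6 Cfsg.Agent.Lib.Helper6.TC Cfsg.Agent.Lib.Helper6.NatArr Cfsg.Agent.Co1P
open Cfsg.Agent.PL (Acts evalF)

/-- the number of points of the tree number 3 of the chain `B` -/
theorem lenB3 : (orbitL 98280 LB3.2.1 LB3.2.2 LB3.1 10).length = 6720 := by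
  rw [length_orbitL]
  exact (countR_append cntB3_0 (countR_append cntB3_1 (countR_append cntB3_2 (countR_append cntB3_3 (countR_append cntB3_4 (countR_append cntB3_5 (countR_append cntB3_6 (countR_append cntB3_7 (countR_append cntB3_8 (countR_append cntB3_9 (countR_append cntB3_10 (countR_append cntB3_11 (countR_append cntB3_12 (countR_append cntB3_13 (countR_append cntB3_14 (countR_append cntB3_15 (countR_append cntB3_16 (countR_append cntB3_17 (countR_append cntB3_18 (countR_append cntB3_19 (countR_append cntB3_20 (countR_append cntB3_21 (countR_append cntB3_22 (cntB3_23))))))))))))))))))))))) :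
    countR 0 (4095 + (4095 + (4095 + (4095 + (4095 + (4095 + (4095 + (4095 + (4095 + (4095 + (4095 + (4095 + (4095 + (4095 + (4095 + (4095 + (4095 + (4095 + (4095 + (4095 + (4095 + (4095 + (4095 + (4095)))))))))))))))))))))))) (traceTo LB3.2.1 LB3.2.2 LB3.1 10) = 243 + (253 + (308 + (322 + (230 + (299 + (255 + (243 + (221 + (238 + (281 + (280 + (285 + (299 + (283 + (294 + (284 + (264 + (258 + (272 + (274 + (305 + (360 + (369))))))))))))))))))))))))

end Cfsg.Agent.Co1Out
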