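import Cfsg.Agent.Lib.Lead.Co1Out.LevBD

/-! # The outer automorphism group of Co₁: the number of points of the tree number 0 of the chain `B`, slices (generated) -/

set_option autoImplicit false
set_option Elab.async false
set_option maxRecDepth 100000

namespace Cfsg.Agent.Co1Out

open Cfsg.Agent.PF Cfsg.Agent.Lib.Helper6 Cfsg.Agent.Lib.Helper6.TC Cfsg.Agent.Lib.Helper6.NatArr Cfsg.Agent.Co1P
open Cfsg.Agent.PL (Acts evalF)

theorem cntB0_0 : countR 0 6552 (traceTo LB0.2.1 LB0.2.2 LB0.1 10) = 6552 := by decide +kernel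

theorem cntB0_1 : countR 6552 6552 (traceTo LB0.2.1 LB0.2.2 LB0.1 10) = 6552 := by decide +kernel

theorem cntB0_2 : countR 13104 6552 (traceTo LB0.2.1 LB0.2.2 LB0.1 10) = 6552 := by decide +kernel

theorem cntB0_3 : countR 19656 6552 (traceTo LB0.2.1 LB0.2.2 LB0.1 10) = 6552 := by decide +kernel

theorem cntB0_4 : countR 26208 6552 (traceTo LB0.2.1 LB0.2.2 LB0.1 10) = 6552 := by decide +kernel

theorem cntB0_5 : countR 32760 6552 (traceTo LB0.2.1 LB0.2.2 LB0.1 10) = 6552 := by decide +kernel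

theorem cntB0_6 : countR 39312 6552 (traceTo LB0.2.1 LB0.2.2 LB0.1 10) = 6552 := by decide +kernel

theorem cntB0_7 : countR 45864 6552 (traceTo LB0.2.1 LB0.2.2 LB0.1 10) = 6552 := by decide +kernel

theorem cntB0_8 : countR 52416 6552 (traceTo LB0.2.1 LB0.2.2 LB0.1 10) = 6552 := by decide +kernel

theorem cntB0_9 : countR 58968 6552 (traceTo LB0.2.1 LB0.2.2 LB0.1 10) = 6552 := by decide +kernel

theorem cntB0_10 : countR 65520 6552 (traceTo LB0.2.1 LB0.2.2 LB0.1 10) = 6552 := by decide +kernel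

theorem cntB0_11 : countR 72072 6552 (traceTo LB0.2.1 LB0.2.2 LB0.1 10) = 6552 := by decide +kernel

theorem cntB0_12 : countR 78624 6552 (traceTo LB0.2.1 LB0.2.2 LB0.1 10) = 6552 := by decide +kernel

theorem cntB0_13 : countR 85176 6552 (traceTo LB0.2.1 LB0.2.2 LB0.1 10) = 6552 := by decide +kernel

theorem cntB0_14 : countR 91728 6552 (traceTo LB0.2.1 LB0.2.2 LB0.1 10) = 6552 := by decide +kernel


end Cfsg.Agent.Co1Out
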