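import Cfsg.Agent.Lib.Lead.Co1Out.LevBD

/-! # The outer automorphism group of Co₁: the number of points of the tree number 1 of the chain `B`, slices (generated) -/

set_option autoImplicit false
set_option Elab.async false
set_option maxRecDepth 100000

namespace Cfsg.Agent.Co1Out

open Cfsg.Agent.PF Cfsg.Agent.Lib.Helper6 Cfsg.Agent.Lib.Helper6.TC Cfsg.Agent.Lib.Helper6.NatArr Cfsg.Agent.Co1P
open Cfsg.Agent.PL (Acts evalF)

theorem cntB1_0 : countR 0 4680 (traceTo LB1.2.1 LB1.2.2 LB1.1 10) = 2316 := by decide +kernel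

theorem cntB1_1 : countR 4680 4680 (traceTo LB1.2.1 LB1.2.2 LB1.1 10) = 2225 := by decide +kernel

theorem cntB1_2 : countR 9360 4680 (traceTo LB1.2.1 LB1.2.2 LB1.1 10) = 2270 := by decide +kernel

theorem cntB1_3 : countR 14040 4680 (traceTo LB1.2.1 LB1.2.2 LB1.1 10) = 2210 := by decide +kernel

theorem cntB1_4 : countR 18720 4680 (traceTo LB1.2.1 LB1.2.2 LB1.1 10) = 2218 := by decide +kernel

theorem cntB1_5 : countR 23400 4680 (traceTo LB1.2.1 LB1.2.2 LB1.1 10) = 2216 := by decide +kernel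

theorem cntB1_6 : countR 28080 4680 (traceTo LB1.2.1 LB1.2.2 LB1.1 10) = 2303 := by decide +kernel

theorem cntB1_7 : countR 32760 4680 (traceTo LB1.2.1 LB1.2.2 LB1.1 10) = 2377 := by decide +kernel

theorem cntB1_8 : countR 37440 4680 (traceTo LB1.2.1 LB1.2.2 LB1.1 10) = 2282 := by decide +kernel

theorem cntB1_9 : countR 42120 4680 (traceTo LB1.2.1 LB1.2.2 LB1.1 10) = 2212 := by decide +kernel

theorem cntB1_10 : countR 46800 4680 (traceTo LB1.2.1 LB1.2.2 LB1.1 10) = 2241 := by decide +kernel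

theorem cntB1_11 : countR 51480 4680 (traceTo LB1.2.1 LB1.2.2 LB1.1 10) = 2214 := by decide +kernel

theorem cntB1_12 : countR 56160 4680 (traceTo LB1.2.1 LB1.2.2 LB1.1 10) = 2246 := by decide +kernel

theorem cntB1_13 : countR 60840 4680 (traceTo LB1.2.1 LB1.2.2 LB1.1 10) = 2211 := by decide +kernel

theorem cntB1_14 : countR 65520 4680 (traceTo LB1.2.1 LB1.2.2 LB1.1 10) = 2221 := by decide +kernel

theorem cntB1_15 : countR 70200 4680 (traceTo LB1.2.1 LB1.2.2 LB1.1 10) = 2208 := by decide +kernel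

theorem cntB1_16 : countR 74880 4680 (traceTo LB1.2.1 LB1.2.2 LB1.1 10) = 2235 := by decide +kernel

theorem cntB1_17 : countR 79560 4680 (traceTo LB1.2.1 LB1.2.2 LB1.1 10) = 2334 := by decide +kernel

theorem cntB1_18 : countR 84240 4680 (traceTo LB1.2.1 LB1.2.2 LB1.1 10) = 2298 := by decide +kernel

theorem cntB1_19 : countR 88920 4680 (traceTo LB1.2.1 LB1.2.2 LB1.1 10) = 2131 := by decide +kernel

theorem cntB1_20 : countR 93600 4680 (traceTo LB1.2.1 LB1.2.2 LB1.1 10) = 2136 := by decide +kernel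


end Cfsg.Agent.Co1Out
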