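import Cfsg.Agent.Lib.Lead.Co1Out.LevBD

/-! # The outer automorphism group of Co₁: the number of points of the tree number 3 of the chain `B`, slices (generated) -/

set_option autoImplicit false
set_option Elab.async false
set_option maxRecDepth 100000

namespace Cfsg.Agent.Co1Out

open Cfsg.Agent.PF Cfsg.Agent.Lib.Helper6 Cfsg.Agent.Lib.Helper6.TC Cfsg.Agent.Lib.Helper6.NatArr Cfsg.Agent.Co1P
open Cfsg.Agent.PL (Acts evalF)

theorem cntB3_0 : countR 0 4095 (traceTo LB3.2.1 LB3.2.2 LB3.1 10) = 243 := by decide +kernel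

theorem cntB3_1 : countR 4095 4095 (traceTo LB3.2.1 LB3.2.2 LB3.1 10) = 253 := by decide +kernel

theorem cntB3_2 : countR 8190 4095 (traceTo LB3.2.1 LB3.2.2 LB3.1 10) = 308 := by decide +kernel

theorem cntB3_3 : countR 12285 4095 (traceTo LB3.2.1 LB3.2.2 LB3.1 10) = 322 := by decide +kernel

theorem cntB3_4 : countR 16380 4095 (traceTo LB3.2.1 LB3.2.2 LB3.1 10) = 230 := by decide +kernel

theorem cntB3_5 : countR 20475 4095 (traceTo LB3.2.1 LB3.2.2 LB3.1 10) = 299 := by decide +kernel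

theorem cntB3_6 : countR 24570 4095 (traceTo LB3.2.1 LB3.2.2 LB3.1 10) = 255 := by decide +kernel

theorem cntB3_7 : countR 28665 4095 (traceTo LB3.2.1 LB3.2.2 LB3.1 10) = 243 := by decide +kernel

theorem cntB3_8 : countR 32760 4095 (traceTo LB3.2.1 LB3.2.2 LB3.1 10) = 221 := by decide +kernel

theorem cntB3_9 : countR 36855 4095 (traceTo LB3.2.1 LB3.2.2 LB3.1 10) = 238 := by decide +kernel

theorem cntB3_10 : countR 40950 4095 (traceTo LB3.2.1 LB3.2.2 LB3.1 10) = 281 := by decide +kernel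

theorem cntB3_11 : countR 45045 4095 (traceTo LB3.2.1 LB3.2.2 LB3.1 10) = 280 := by decide +kernel

theorem cntB3_12 : countR 49140 4095 (traceTo LB3.2.1 LB3.2.2 LB3.1 10) = 285 := by decide +kernel

theorem cntB3_13 : countR 53235 4095 (traceTo LB3.2.1 LB3.2.2 LB3.1 10) = 299 := by decide +kernel

theorem cntB3_14 : countR 57330 4095 (traceTo LB3.2.1 LB3.2.2 LB3.1 10) = 283 := by decide +kernel

theorem cntB3_15 : countR 61425 4095 (traceTo LB3.2.1 LB3.2.2 LB3.1 10) = 294 := by decide +kernel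

theorem cntB3_16 : countR 65520 4095 (traceTo LB3.2.1 LB3.2.2 LB3.1 10) = 284 := by decide +kernel

theorem cntB3_17 : countR 69615 4095 (traceTo LB3.2.1 LB3.2.2 LB3.1 10) = 264 := by decide +kernel

theorem cntB3_18 : countR 73710 4095 (traceTo LB3.2.1 LB3.2.2 LB3.1 10) = 258 := by decide +kernel

theorem cntB3_19 : countR 77805 4095 (traceTo LB3.2.1 LB3.2.2 LB3.1 10) = 272 := by decide +kernel

theorem cntB3_20 : countR 81900 4095 (traceTo LB3.2.1 LB3.2.2 LB3.1 10) = 274 := by decide +kernel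

theorem cntB3_21 : countR 85995 4095 (traceTo LB3.2.1 LB3.2.2 LB3.1 10) = 305 := by decide +kernel

theorem cntB3_22 : countR 90090 4095 (traceTo LB3.2.1 LB3.2.2 LB3.1 10) = 360 := by decide +kernel

theorem cntB3_23 : countR 94185 4095 (traceTo LB3.2.1 LB3.2.2 LB3.1 10) = 369 := by decide +kernel


end Cfsg.Agent.Co1Out
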