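import Cfsg.Agent.Lib.Lead.Co1Out.LevBD

/-! # The outer automorphism group of Co₁: the number of points of the tree number 4 of the chain `B`, slices (generated) -/

set_option autoImplicit false
set_option Elab.async false
set_option maxRecDepth 100000

namespace Cfsg.Agent.Co1Out

open Cfsg.Agent.PF Cfsg.Agent.Lib.Helper6 Cfsg.Agent.Lib.Helper6.TC Cfsg.Agent.Lib.Helper6.NatArr Cfsg.Agent.Co1P
open Cfsg.Agent.PL (Acts evalF)

theorem cntB4_0 : countR 0 16380 (traceTo LB4.2.1 LB4.2.2 LB4.1 10) = 1 := by decide +kernel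

theorem cntB4_1 : countR 16380 16380 (traceTo LB4.2.1 LB4.2.2 LB4.1 10) = 0 := by decide +kernel

theorem cntB4_2 : countR 32760 16380 (traceTo LB4.2.1 LB4.2.2 LB4.1 10) = 1 := by decide +kernel

theorem cntB4_3 : countR 49140 16380 (traceTo LB4.2.1 LB4.2.2 LB4.1 10) = 4 := by decide +kernel

theorem cntB4_4 : countR 65520 16380 (traceTo LB4.2.1 LB4.2.2 LB4.1 10) = 0 := by decide +kernel

theorem cntB4_5 : countR 81900 16380 (traceTo LB4.2.1 LB4.2.2 LB4.1 10) = 0 := by decide +kernel


end Cfsg.Agent.Co1Out
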