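import Cfsg.Agent.Lib.Lead.Co1Out.CntG1_0

/-! # The outer automorphism group of Co₁: the number of points of the tree number 1 of the chain `G` (generated) -/

set_option autoImplicit false
set_option maxRecDepth 100000

namespace Cfsg.Agent.Co1Out

open Cfsg.Agent.PF Cfsg.Agent.Lib.Helper6 Cfsg.Agent.Lib.Helper6.TC Cfsg.Agent.Lib.Helper6.NatArr Cfsg.Agent.Co1P
open Cfsg.Agent.PL (Acts evalF)

/-- the number of points of the tree number 1 of the chain `G` -/
theorem lenG1 : (orbitL 98280 LG1.2.1 LG1.2.2 LG1.1 10).length = 46575 := by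
  rw [length_orbitL]
  exact (countR_append cntG1_0 (countR_append cntG1_1 (countR_append cntG1_2 (countR_append cntG1_3 (countR_append cntG1_4 (countR_append cntG1_5 (countR_append cntG1_6 (countR_append cntG1_7 (countR_append cntG1_8 (countR_append cntG1_9 (countR_append cntG1_10 (countR_append cntG1_11 (countR_append cntG1_12 (countR_append cntG1_13 (countR_append cntG1_14 (countR_append cntG1_15 (countR_append cntG1_16 (countR_append cntG1_17 (countR_append cntG1_18 (countR_append cntG1_19 (countR_append cntG1_20 (countR_append cntG1_21 (countR_append cntG1_22 (cntG1_23))))))))))))))))))))))) :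
    countR 0 (4095 + (4095 + (4095 + (4095 + (4095 + (4095 + (4095 + (4095 + (4095 + (4095 + (4095 + (4095 + (4095 + (4095 + (4095 + (4095 + (4095 + (4095 + (4095 + (4095 + (4095 + (4095 + (4095 + (4095)))))))))))))))))))))))) (traceTo LG1.2.1 LG1.2.2 LG1.1 10) = 1701 + (1846 + (1846 + (1962 + (1847 + (2082 + (1841 + (2037 + (2049 + (1907 + (1859 + (1901 + (1906 + (2027 + (1830 + (1902 + (1955 + (1908 + (1821 + (2171 + (2081 + (1828 + (2082 + (2186))))))))))))))))))))))))

end Cfsg.Agent.Co1Out
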