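import Cfsg.Agent.Lib.Lead.Co1Out.CntG3_0
import Cfsg.Agent.Lib.Lead.Co1Out.CntG3_1

/-! # The outer automorphism group of Co₁: the number of points of the tree number 3 of the chain `G` (generated) -/

set_option autoImplicit false
set_option maxRecDepth 100000

namespace Cfsg.Agent.Co1Out

open Cfsg.Agent.PF Cfsg.Agent.Lib.Helper6 Cfsg.Agent.Lib.Helper6.TC Cfsg.Agent.Lib.Helper6.NatArr Cfsg.Agent.Co1P
open Cfsg.Agent.PL (Acts evalF)

/-- the number of points of the tree number 3 of the chain `G` -/
theorem lenG3 : (orbitL 98280 LG3.2.1 LG3.2.2 LG3.1 10).length = 6720 := by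
  rw [length_orbitL]
  exact (countR_append cntG3_0 (countR_append cntG3_1 (countR_append cntG3_2 (countR_append cntG3_3 (countR_append cntG3_4 (countR_append cntG3_5 (countR_append cntG3_6 (countR_append cntG3_7 (countR_append cntG3_8 (countR_append cntG3_9 (countR_append cntG3_10 (countR_append cntG3_11 (countR_append cntG3_12 (countR_append cntG3_13 (countR_append cntG3_14 (countR_append cntG3_15 (countR_append cntG3_16 (countR_append cntG3_17 (countR_append cntG3_18 (countR_append cntG3_19 (countR_append cntG3_20 (countR_append cntG3_21 (countR_append cntG3_22 (countR_append cntG3_23 (countR_append cntG3_24 (countR_append cntG3_25 (cntG3_26)))))))))))))))))))))))))) :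
    countR 0 (3640 + (3640 + (3640 + (3640 + (3640 + (3640 + (3640 + (3640 + (3640 + (3640 + (3640 + (3640 + (3640 + (3640 + (3640 + (3640 + (3640 + (3640 + (3640 + (3640 + (3640 + (3640 + (3640 + (3640 + (3640 + (3640 + (3640))))))))))))))))))))))))))) (traceTo LG3.2.1 LG3.2.2 LG3.1 10) = 248 + (263 + (281 + (193 + (224 + (239 + (256 + (302 + (266 + (257 + (283 + (262 + (201 + (276 + (250 + (203 + (287 + (257 + (204 + (275 + (272 + (244 + (263 + (267 + (218 + (227 + (202)))))))))))))))))))))))))))

end Cfsg.Agent.Co1Out
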