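import Cfsg.Agent.Lib.Lead.Co1Out.CntG0
import Cfsg.Agent.Lib.Lead.Co1Out.CntG1
import Cfsg.Agent.Lib.Lead.Co1Out.CntG2
import Cfsg.Agent.Lib.Lead.Co1Out.CntG3
import Cfsg.Agent.Lib.Lead.Co1Out.CntG4

/-! # The outer automorphism group of Co₁: the numbers of points of the trees of the chain `G` (generated) -/

set_option autoImplicit false
set_option maxRecDepth 100000

namespace Cfsg.Agent.Co1Out

open Cfsg.Agent.PF Cfsg.Agent.Lib.Helper6 Cfsg.Agent.Lib.Helper6.TC Cfsg.Agent.Lib.Helper6.NatArr Cfsg.Agent.Co1P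
open Cfsg.Agent.PL (Acts evalF)

theorem chk_countsG : (treeCounts 98280 10 (LG0 :: LsG)).prod = 4157776806543360000 := by
  have h : treeCounts 98280 10 (LG0 :: LsG) = [98280, 46575, 22528, 6720, 6] := by
    show [(orbitL 98280 LG0.2.1 LG0.2.2 LG0.1 10).length, (orbitL 98280 LG1.2.1 LG1.2.2 LG1.1 10).length, (orbitL 98280 LG2.2.1 LG2.2.2 LG2.1 10).length, (orbitL 98280 LG3.2.1 LG3.2.2 LG3.1 10).length, (orbitL 98280 LG4.2.1 LG4.2.2 LG4.1 10).length] = _
    rw [lenG0, lenG1, lenG2, lenG3, lenG4]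
  rw [h]
  rfl

end Cfsg.Agent.Co1Out
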