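import Cfsg.Agent.Lib.Lead.Co1Out.CntG0_0

/-! # The outer automorphism group of Co₁: the number of points of the tree number 0 of the chain `G` (generated) -/

set_option autoImplicit false
set_option maxRecDepth 100000

namespace Cfsg.Agent.Co1Out

open Cfsg.Agent.PF Cfsg.Agent.Lib.Helper6 Cfsg.Agent.Lib.Helper6.TC Cfsg.Agent.Lib.Helper6.NatArr Cfsg.Agent.Co1P
open Cfsg.Agent.PL (Acts evalF)

/-- the number of points of the tree number 0 of the chain `G` -/
theorem lenG0 : (orbitL 98280 LG0.2.1 LG0.2.2 LG0.1 10).length = 98280 := by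
  rw [length_orbitL]
  exact (countR_append cntG0_0 (countR_append cntG0_1 (countR_append cntG0_2 (countR_append cntG0_3 (countR_append cntG0_4 (countR_append cntG0_5 (countR_append cntG0_6 (countR_append cntG0_7 (countR_append cntG0_8 (countR_append cntG0_9 (countR_append cntG0_10 (countR_append cntG0_11 (countR_append cntG0_12 (countR_append cntG0_13 (countR_append cntG0_14 (countR_append cntG0_15 (countR_append cntG0_16 (countR_append cntG0_17 (countR_append cntG0_18 (countR_append cntG0_19 (cntG0_20)))))))))))))))))))) :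
    countR 0 (4680 + (4680 + (4680 + (4680 + (4680 + (4680 + (4680 + (4680 + (4680 + (4680 + (4680 + (4680 + (4680 + (4680 + (4680 + (4680 + (4680 + (4680 + (4680 + (4680 + (4680))))))))))))))))))))) (traceTo LG0.2.1 LG0.2.2 LG0.1 10) = 4680 + (4680 + (4680 + (4680 + (4680 + (4680 + (4680 + (4680 + (4680 + (4680 + (4680 + (4680 + (4680 + (4680 + (4680 + (4680 + (4680 + (4680 + (4680 + (4680 + (4680)))))))))))))))))))))

end Cfsg.Agent.Co1Out
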