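import Cfsg.Agent.Lib.Lead.Co1Out.LevGD

/-! # The outer automorphism group of Co₁: the number of points of the tree number 2 of the chain `G`, slices (generated) -/

set_option autoImplicit false
set_option Elab.async false
set_option maxRecDepth 100000

namespace Cfsg.Agent.Co1Out

open Cfsg.Agent.PF Cfsg.Agent.Lib.Helper6 Cfsg.Agent.Lib.Helper6.TC Cfsg.Agent.Lib.Helper6.NatArr Cfsg.Agent.Co1P
open Cfsg.Agent.PL (Acts evalF)

theorem cntG2_0 : countR 0 4095 (traceTo LG2.2.1 LG2.2.2 LG2.1 10) = 901 := by decide +kernel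

theorem cntG2_1 : countR 4095 4095 (traceTo LG2.2.1 LG2.2.2 LG2.1 10) = 936 := by decide +kernel

theorem cntG2_2 : countR 8190 4095 (traceTo LG2.2.1 LG2.2.2 LG2.1 10) = 977 := by decide +kernel

theorem cntG2_3 : countR 12285 4095 (traceTo LG2.2.1 LG2.2.2 LG2.1 10) = 1056 := by decide +kernel

theorem cntG2_4 : countR 16380 4095 (traceTo LG2.2.1 LG2.2.2 LG2.1 10) = 991 := by decide +kernel

theorem cntG2_5 : countR 20475 4095 (traceTo LG2.2.1 LG2.2.2 LG2.1 10) = 869 := by decide +kernel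

theorem cntG2_6 : countR 24570 4095 (traceTo LG2.2.1 LG2.2.2 LG2.1 10) = 851 := by decide +kernel

theorem cntG2_7 : countR 28665 4095 (traceTo LG2.2.1 LG2.2.2 LG2.1 10) = 834 := by decide +kernel

theorem cntG2_8 : countR 32760 4095 (traceTo LG2.2.1 LG2.2.2 LG2.1 10) = 861 := by decide +kernel

theorem cntG2_9 : countR 36855 4095 (traceTo LG2.2.1 LG2.2.2 LG2.1 10) = 924 := by decide +kernel

theorem cntG2_10 : countR 40950 4095 (traceTo LG2.2.1 LG2.2.2 LG2.1 10) = 967 := by decide +kernel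

theorem cntG2_11 : countR 45045 4095 (traceTo LG2.2.1 LG2.2.2 LG2.1 10) = 948 := by decide +kernel

theorem cntG2_12 : countR 49140 4095 (traceTo LG2.2.1 LG2.2.2 LG2.1 10) = 969 := by decide +kernel

theorem cntG2_13 : countR 53235 4095 (traceTo LG2.2.1 LG2.2.2 LG2.1 10) = 948 := by decide +kernel

theorem cntG2_14 : countR 57330 4095 (traceTo LG2.2.1 LG2.2.2 LG2.1 10) = 967 := by decide +kernel

theorem cntG2_15 : countR 61425 4095 (traceTo LG2.2.1 LG2.2.2 LG2.1 10) = 916 := by decide +kernel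

theorem cntG2_16 : countR 65520 4095 (traceTo LG2.2.1 LG2.2.2 LG2.1 10) = 972 := by decide +kernel

theorem cntG2_17 : countR 69615 4095 (traceTo LG2.2.1 LG2.2.2 LG2.1 10) = 926 := by decide +kernel

theorem cntG2_18 : countR 73710 4095 (traceTo LG2.2.1 LG2.2.2 LG2.1 10) = 958 := by decide +kernel

theorem cntG2_19 : countR 77805 4095 (traceTo LG2.2.1 LG2.2.2 LG2.1 10) = 809 := by decide +kernel

theorem cntG2_20 : countR 81900 4095 (traceTo LG2.2.1 LG2.2.2 LG2.1 10) = 1020 := by decide +kernel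

theorem cntG2_21 : countR 85995 4095 (traceTo LG2.2.1 LG2.2.2 LG2.1 10) = 993 := by decide +kernel

theorem cntG2_22 : countR 90090 4095 (traceTo LG2.2.1 LG2.2.2 LG2.1 10) = 1015 := by decide +kernel

theorem cntG2_23 : countR 94185 4095 (traceTo LG2.2.1 LG2.2.2 LG2.1 10) = 920 := by decide +kernel


end Cfsg.Agent.Co1Out
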