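import Cfsg.Agent.Lib.Lead.Co1Out.LevGD

/-! # The outer automorphism group of Co₁: the number of points of the tree number 3 of the chain `G`, slices (generated) -/

set_option autoImplicit false
set_option Elab.async false
set_option maxRecDepth 100000

namespace Cfsg.Agent.Co1Out

open Cfsg.Agent.PF Cfsg.Agent.Lib.Helper6 Cfsg.Agent.Lib.Helper6.TC Cfsg.Agent.Lib.Helper6.NatArr Cfsg.Agent.Co1P
open Cfsg.Agent.PL (Acts evalF)

theorem cntG3_0 : countR 0 3640 (traceTo LG3.2.1 LG3.2.2 LG3.1 10) = 248 := by decide +kernel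

theorem cntG3_1 : countR 3640 3640 (traceTo LG3.2.1 LG3.2.2 LG3.1 10) = 263 := by decide +kernel

theorem cntG3_2 : countR 7280 3640 (traceTo LG3.2.1 LG3.2.2 LG3.1 10) = 281 := by decide +kernel

theorem cntG3_3 : countR 10920 3640 (traceTo LG3.2.1 LG3.2.2 LG3.1 10) = 193 := by decide +kernel

theorem cntG3_4 : countR 14560 3640 (traceTo LG3.2.1 LG3.2.2 LG3.1 10) = 224 := by decide +kernel

theorem cntG3_5 : countR 18200 3640 (traceTo LG3.2.1 LG3.2.2 LG3.1 10) = 239 := by decide +kernel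

theorem cntG3_6 : countR 21840 3640 (traceTo LG3.2.1 LG3.2.2 LG3.1 10) = 256 := by decide +kernel

theorem cntG3_7 : countR 25480 3640 (traceTo LG3.2.1 LG3.2.2 LG3.1 10) = 302 := by decide +kernel

theorem cntG3_8 : countR 29120 3640 (traceTo LG3.2.1 LG3.2.2 LG3.1 10) = 266 := by decide +kernel

theorem cntG3_9 : countR 32760 3640 (traceTo LG3.2.1 LG3.2.2 LG3.1 10) = 257 := by decide +kernel

theorem cntG3_10 : countR 36400 3640 (traceTo LG3.2.1 LG3.2.2 LG3.1 10) = 283 := by decide +kernel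

theorem cntG3_11 : countR 40040 3640 (traceTo LG3.2.1 LG3.2.2 LG3.1 10) = 262 := by decide +kernel

theorem cntG3_12 : countR 43680 3640 (traceTo LG3.2.1 LG3.2.2 LG3.1 10) = 201 := by decide +kernel

theorem cntG3_13 : countR 47320 3640 (traceTo LG3.2.1 LG3.2.2 LG3.1 10) = 276 := by decide +kernel

theorem cntG3_14 : countR 50960 3640 (traceTo LG3.2.1 LG3.2.2 LG3.1 10) = 250 := by decide +kernel

theorem cntG3_15 : countR 54600 3640 (traceTo LG3.2.1 LG3.2.2 LG3.1 10) = 203 := by decide +kernel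

theorem cntG3_16 : countR 58240 3640 (traceTo LG3.2.1 LG3.2.2 LG3.1 10) = 287 := by decide +kernel

theorem cntG3_17 : countR 61880 3640 (traceTo LG3.2.1 LG3.2.2 LG3.1 10) = 257 := by decide +kernel

theorem cntG3_18 : countR 65520 3640 (traceTo LG3.2.1 LG3.2.2 LG3.1 10) = 204 := by decide +kernel

theorem cntG3_19 : countR 69160 3640 (traceTo LG3.2.1 LG3.2.2 LG3.1 10) = 275 := by decide +kernel

theorem cntG3_20 : countR 72800 3640 (traceTo LG3.2.1 LG3.2.2 LG3.1 10) = 272 := by decide +kernel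

theorem cntG3_21 : countR 76440 3640 (traceTo LG3.2.1 LG3.2.2 LG3.1 10) = 244 := by decide +kernel

theorem cntG3_22 : countR 80080 3640 (traceTo LG3.2.1 LG3.2.2 LG3.1 10) = 263 := by decide +kernel

theorem cntG3_23 : countR 83720 3640 (traceTo LG3.2.1 LG3.2.2 LG3.1 10) = 267 := by decide +kernel

theorem cntG3_24 : countR 87360 3640 (traceTo LG3.2.1 LG3.2.2 LG3.1 10) = 218 := by decide +kernel


end Cfsg.Agent.Co1Out
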