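import Cfsg.Agent.Lib.Lead.Co1Out.LevBD
import Cfsg.Agent.Lib.Lead.Co1Out.DV
import Cfsg.Agent.Lib.Lead.Co1Out.Kills

/-! # The outer automorphism group of Co₁: the candidates for the images of `w`, slices (generated) -/

set_option autoImplicit false
set_option Elab.async false
set_option maxRecDepth 100000

namespace Cfsg.Agent.Co1Out

open Cfsg.Agent.PF Cfsg.Agent.Lib.Helper6 Cfsg.Agent.Lib.Helper6.TC Cfsg.Agent.Lib.Helper6.NatArr Cfsg.Agent.Co1P
open Cfsg.Agent.PL (Acts evalF)

theorem chk_kill_50 : allR 33250 665 (fun q => killF 98280 10 f13 f14 fv [] LB0 LsB kills 36367 q) = true := by decide +kernel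

theorem chk_kill_51 : allR 33915 665 (fun q => killF 98280 10 f13 f14 fv [] LB0 LsB kills 36367 q) = true := by decide +kernel

theorem chk_kill_52 : allR 34580 665 (fun q => killF 98280 10 f13 f14 fv [] LB0 LsB kills 36367 q) = true := by decide +kernel

theorem chk_kill_53 : allR 35245 665 (fun q => killF 98280 10 f13 f14 fv [] LB0 LsB kills 36367 q) = true := by decide +kernel

theorem chk_kill_54 : allR 35910 665 (fun q => killF 98280 10 f13 f14 fv [] LB0 LsB kills 36367 q) = true := by decide +kernel

theorem chk_kill_55 : allR 36575 665 (fun q => killF 98280 10 f13 f14 fv [] LB0 LsB kills 36367 q) = true := by decide +kernel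

theorem chk_kill_56 : allR 37240 665 (fun q => killF 98280 10 f13 f14 fv [] LB0 LsB kills 36367 q) = true := by decide +kernel

theorem chk_kill_57 : allR 37905 665 (fun q => killF 98280 10 f13 f14 fv [] LB0 LsB kills 36367 q) = true := by decide +kernel

theorem chk_kill_58 : allR 38570 665 (fun q => killF 98280 10 f13 f14 fv [] LB0 LsB kills 36367 q) = true := by decide +kernel

theorem chk_kill_59 : allR 39235 665 (fun q => killF 98280 10 f13 f14 fv [] LB0 LsB kills 36367 q) = true := by decide +kernel

theorem chk_kill_60 : allR 39900 665 (fun q => killF 98280 10 f13 f14 fv [] LB0 LsB kills 36367 q) = true := by decide +kernel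

theorem chk_kill_61 : allR 40565 665 (fun q => killF 98280 10 f13 f14 fv [] LB0 LsB kills 36367 q) = true := by decide +kernel

theorem chk_kill_62 : allR 41230 665 (fun q => killF 98280 10 f13 f14 fv [] LB0 LsB kills 36367 q) = true := by decide +kernel

theorem chk_kill_63 : allR 41895 665 (fun q => killF 98280 10 f13 f14 fv [] LB0 LsB kills 36367 q) = true := by decide +kernel

theorem chk_kill_64 : allR 42560 665 (fun q => killF 98280 10 f13 f14 fv [] LB0 LsB kills 36367 q) = true := by decide +kernel

theorem chk_kill_65 : allR 43225 665 (fun q => killF 98280 10 f13 f14 fv [] LB0 LsB kills 36367 q) = true := by decide +kernel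

theorem chk_kill_66 : allR 43890 665 (fun q => killF 98280 10 f13 f14 fv [] LB0 LsB kills 36367 q) = true := by decide +kernel

theorem chk_kill_67 : allR 44555 665 (fun q => killF 98280 10 f13 f14 fv [] LB0 LsB kills 36367 q) = true := by decide +kernel

theorem chk_kill_68 : allR 45220 665 (fun q => killF 98280 10 f13 f14 fv [] LB0 LsB kills 36367 q) = true := by decide +kernel

theorem chk_kill_69 : allR 45885 665 (fun q => killF 98280 10 f13 f14 fv [] LB0 LsB kills 36367 q) = true := by decide +kernel

theorem chk_kill_70 : allR 46550 665 (fun q => killF 98280 10 f13 f14 fv [] LB0 LsB kills 36367 q) = true := by decide +kernel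

theorem chk_kill_71 : allR 47215 665 (fun q => killF 98280 10 f13 f14 fv [] LB0 LsB kills 36367 q) = true := by decide +kernel

theorem chk_kill_72 : allR 47880 665 (fun q => killF 98280 10 f13 f14 fv [] LB0 LsB kills 36367 q) = true := by decide +kernel

theorem chk_kill_73 : allR 48545 665 (fun q => killF 98280 10 f13 f14 fv [] LB0 LsB kills 36367 q) = true := by decide +kernel

theorem chk_kill_74 : allR 49210 665 (fun q => killF 98280 10 f13 f14 fv [] LB0 LsB kills 36367 q) = true := by decide +kernel


end Cfsg.Agent.Co1Out
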