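import Cfsg.Agent.Lib.Lead.Co1Out.LevBD
import Cfsg.Agent.Lib.Lead.Co1Out.DV
import Cfsg.Agent.Lib.Lead.Co1Out.Kills

/-! # The outer automorphism group of Co₁: the candidates for the images of `w`, slices (generated) -/

set_option autoImplicit false
set_option Elab.async false
set_option maxRecDepth 100000

namespace Cfsg.Agent.Co1Out

open Cfsg.Agent.PF Cfsg.Agent.Lib.Helper6 Cfsg.Agent.Lib.Helper6.TC Cfsg.Agent.Lib.Helper6.NatArr Cfsg.Agent.Co1P
open Cfsg.Agent.PL (Acts evalF)

theorem chk_kill_100 : allR 66500 665 (fun q => killF 98280 10 f13 f14 fv [] LB0 LsB kills 36367 q) = true := by decide +kernel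

theorem chk_kill_101 : allR 67165 665 (fun q => killF 98280 10 f13 f14 fv [] LB0 LsB kills 36367 q) = true := by decide +kernel

theorem chk_kill_102 : allR 67830 665 (fun q => killF 98280 10 f13 f14 fv [] LB0 LsB kills 36367 q) = true := by decide +kernel

theorem chk_kill_103 : allR 68495 665 (fun q => killF 98280 10 f13 f14 fv [] LB0 LsB kills 36367 q) = true := by decide +kernel

theorem chk_kill_104 : allR 69160 665 (fun q => killF 98280 10 f13 f14 fv [] LB0 LsB kills 36367 q) = true := by decide +kernel

theorem chk_kill_105 : allR 69825 665 (fun q => killF 98280 10 f13 f14 fv [] LB0 LsB kills 36367 q) = true := by decide +kernel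

theorem chk_kill_106 : allR 70490 665 (fun q => killF 98280 10 f13 f14 fv [] LB0 LsB kills 36367 q) = true := by decide +kernel

theorem chk_kill_107 : allR 71155 665 (fun q => killF 98280 10 f13 f14 fv [] LB0 LsB kills 36367 q) = true := by decide +kernel

theorem chk_kill_108 : allR 71820 665 (fun q => killF 98280 10 f13 f14 fv [] LB0 LsB kills 36367 q) = true := by decide +kernel

theorem chk_kill_109 : allR 72485 665 (fun q => killF 98280 10 f13 f14 fv [] LB0 LsB kills 36367 q) = true := by decide +kernel

theorem chk_kill_110 : allR 73150 665 (fun q => killF 98280 10 f13 f14 fv [] LB0 LsB kills 36367 q) = true := by decide +kernel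

theorem chk_kill_111 : allR 73815 665 (fun q => killF 98280 10 f13 f14 fv [] LB0 LsB kills 36367 q) = true := by decide +kernel

theorem chk_kill_112 : allR 74480 665 (fun q => killF 98280 10 f13 f14 fv [] LB0 LsB kills 36367 q) = true := by decide +kernel

theorem chk_kill_113 : allR 75145 665 (fun q => killF 98280 10 f13 f14 fv [] LB0 LsB kills 36367 q) = true := by decide +kernel

theorem chk_kill_114 : allR 75810 665 (fun q => killF 98280 10 f13 f14 fv [] LB0 LsB kills 36367 q) = true := by decide +kernel

theorem chk_kill_115 : allR 76475 665 (fun q => killF 98280 10 f13 f14 fv [] LB0 LsB kills 36367 q) = true := by decide +kernel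

theorem chk_kill_116 : allR 77140 665 (fun q => killF 98280 10 f13 f14 fv [] LB0 LsB kills 36367 q) = true := by decide +kernel

theorem chk_kill_117 : allR 77805 665 (fun q => killF 98280 10 f13 f14 fv [] LB0 LsB kills 36367 q) = true := by decide +kernel

theorem chk_kill_118 : allR 78470 665 (fun q => killF 98280 10 f13 f14 fv [] LB0 LsB kills 36367 q) = true := by decide +kernel

theorem chk_kill_119 : allR 79135 665 (fun q => killF 98280 10 f13 f14 fv [] LB0 LsB kills 36367 q) = true := by decide +kernel

theorem chk_kill_120 : allR 79800 665 (fun q => killF 98280 10 f13 f14 fv [] LB0 LsB kills 36367 q) = true := by decide +kernel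

theorem chk_kill_121 : allR 80465 665 (fun q => killF 98280 10 f13 f14 fv [] LB0 LsB kills 36367 q) = true := by decide +kernel

theorem chk_kill_122 : allR 81130 665 (fun q => killF 98280 10 f13 f14 fv [] LB0 LsB kills 36367 q) = true := by decide +kernel

theorem chk_kill_123 : allR 81795 665 (fun q => killF 98280 10 f13 f14 fv [] LB0 LsB kills 36367 q) = true := by decide +kernel

theorem chk_kill_124 : allR 82460 665 (fun q => killF 98280 10 f13 f14 fv [] LB0 LsB kills 36367 q) = true := by decide +kernel


end Cfsg.Agent.Co1Out
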