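import Cfsg.Agent.Lib.Lead.Co1Out.LevBD
import Cfsg.Agent.Lib.Lead.Co1Out.DV
import Cfsg.Agent.Lib.Lead.Co1Out.DXR
import Cfsg.Agent.Lib.Lead.Co1Out.Kills
import Cfsg.Agent.Lib.Lead.PF.Out1

/-! # The outer automorphism group of Co₁: the candidates for the images of `w` when `x` is mapped to `x ^ 5`, slices (generated) -/

set_option autoImplicit false
set_option Elab.async false
set_option maxRecDepth 100000

namespace Cfsg.Agent.Co1Out

open Cfsg.Agent.PF Cfsg.Agent.Lib.Helper6 Cfsg.Agent.Lib.Helper6.TC Cfsg.Agent.Lib.Helper6.NatArr Cfsg.Agent.Co1P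
open Cfsg.Agent.PL (Acts evalF)

theorem chk_r_25 : allR 16625 665 (fun q => killR 98280 10 fxr f14 fv [] LB0 LsB kills q) = true := by decide +kernel

theorem chk_r_26 : allR 17290 665 (fun q => killR 98280 10 fxr f14 fv [] LB0 LsB kills q) = true := by decide +kernel

theorem chk_r_27 : allR 17955 665 (fun q => killR 98280 10 fxr f14 fv [] LB0 LsB kills q) = true := by decide +kernel

theorem chk_r_28 : allR 18620 665 (fun q => killR 98280 10 fxr f14 fv [] LB0 LsB kills q) = true := by decide +kernel

theorem chk_r_29 : allR 19285 665 (fun q => killR 98280 10 fxr f14 fv [] LB0 LsB kills q) = true := by decide +kernel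

theorem chk_r_30 : allR 19950 665 (fun q => killR 98280 10 fxr f14 fv [] LB0 LsB kills q) = true := by decide +kernel

theorem chk_r_31 : allR 20615 665 (fun q => killR 98280 10 fxr f14 fv [] LB0 LsB kills q) = true := by decide +kernel

theorem chk_r_32 : allR 21280 665 (fun q => killR 98280 10 fxr f14 fv [] LB0 LsB kills q) = true := by decide +kernel

theorem chk_r_33 : allR 21945 665 (fun q => killR 98280 10 fxr f14 fv [] LB0 LsB kills q) = true := by decide +kernel

theorem chk_r_34 : allR 22610 665 (fun q => killR 98280 10 fxr f14 fv [] LB0 LsB kills q) = true := by decide +kernel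

theorem chk_r_35 : allR 23275 665 (fun q => killR 98280 10 fxr f14 fv [] LB0 LsB kills q) = true := by decide +kernel

theorem chk_r_36 : allR 23940 665 (fun q => killR 98280 10 fxr f14 fv [] LB0 LsB kills q) = true := by decide +kernel

theorem chk_r_37 : allR 24605 665 (fun q => killR 98280 10 fxr f14 fv [] LB0 LsB kills q) = true := by decide +kernel

theorem chk_r_38 : allR 25270 665 (fun q => killR 98280 10 fxr f14 fv [] LB0 LsB kills q) = true := by decide +kernel

theorem chk_r_39 : allR 25935 665 (fun q => killR 98280 10 fxr f14 fv [] LB0 LsB kills q) = true := by decide +kernel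

theorem chk_r_40 : allR 26600 665 (fun q => killR 98280 10 fxr f14 fv [] LB0 LsB kills q) = true := by decide +kernel

theorem chk_r_41 : allR 27265 665 (fun q => killR 98280 10 fxr f14 fv [] LB0 LsB kills q) = true := by decide +kernel

theorem chk_r_42 : allR 27930 665 (fun q => killR 98280 10 fxr f14 fv [] LB0 LsB kills q) = true := by decide +kernel

theorem chk_r_43 : allR 28595 665 (fun q => killR 98280 10 fxr f14 fv [] LB0 LsB kills q) = true := by decide +kernel

theorem chk_r_44 : allR 29260 665 (fun q => killR 98280 10 fxr f14 fv [] LB0 LsB kills q) = true := by decide +kernel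

theorem chk_r_45 : allR 29925 665 (fun q => killR 98280 10 fxr f14 fv [] LB0 LsB kills q) = true := by decide +kernel

theorem chk_r_46 : allR 30590 665 (fun q => killR 98280 10 fxr f14 fv [] LB0 LsB kills q) = true := by decide +kernel

theorem chk_r_47 : allR 31255 665 (fun q => killR 98280 10 fxr f14 fv [] LB0 LsB kills q) = true := by decide +kernel

theorem chk_r_48 : allR 31920 665 (fun q => killR 98280 10 fxr f14 fv [] LB0 LsB kills q) = true := by decide +kernel

theorem chk_r_49 : allR 32585 665 (fun q => killR 98280 10 fxr f14 fv [] LB0 LsB kills q) = true := by decide +kernel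


end Cfsg.Agent.Co1Out
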