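import Cfsg.Agent.Lib.Lead.Co1Out.LevBD
import Cfsg.Agent.Lib.Lead.Co1Out.DV
import Cfsg.Agent.Lib.Lead.Co1Out.DXR
import Cfsg.Agent.Lib.Lead.Co1Out.Kills
import Cfsg.Agent.Lib.Lead.PF.Out1

/-! # The outer automorphism group of Co₁: the candidates for the images of `w` when `x` is mapped to `x ^ 5`, slices (generated) -/

set_option autoImplicit false
set_option Elab.async false
set_option maxRecDepth 100000

namespace Cfsg.Agent.Co1Out

open Cfsg.Agent.PF Cfsg.Agent.Lib.Helper6 Cfsg.Agent.Lib.Helper6.TC Cfsg.Agent.Lib.Helper6.NatArr Cfsg.Agent.Co1P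
open Cfsg.Agent.PL (Acts evalF)

theorem chk_r_50 : allR 33250 665 (fun q => killR 98280 10 fxr f14 fv [] LB0 LsB kills q) = true := by decide +kernel

theorem chk_r_51 : allR 33915 665 (fun q => killR 98280 10 fxr f14 fv [] LB0 LsB kills q) = true := by decide +kernel

theorem chk_r_52 : allR 34580 665 (fun q => killR 98280 10 fxr f14 fv [] LB0 LsB kills q) = true := by decide +kernel

theorem chk_r_53 : allR 35245 665 (fun q => killR 98280 10 fxr f14 fv [] LB0 LsB kills q) = true := by decide +kernel

theorem chk_r_54 : allR 35910 665 (fun q => killR 98280 10 fxr f14 fv [] LB0 LsB kills q) = true := by decide +kernel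

theorem chk_r_55 : allR 36575 665 (fun q => killR 98280 10 fxr f14 fv [] LB0 LsB kills q) = true := by decide +kernel

theorem chk_r_56 : allR 37240 665 (fun q => killR 98280 10 fxr f14 fv [] LB0 LsB kills q) = true := by decide +kernel

theorem chk_r_57 : allR 37905 665 (fun q => killR 98280 10 fxr f14 fv [] LB0 LsB kills q) = true := by decide +kernel

theorem chk_r_58 : allR 38570 665 (fun q => killR 98280 10 fxr f14 fv [] LB0 LsB kills q) = true := by decide +kernel

theorem chk_r_59 : allR 39235 665 (fun q => killR 98280 10 fxr f14 fv [] LB0 LsB kills q) = true := by decide +kernel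

theorem chk_r_60 : allR 39900 665 (fun q => killR 98280 10 fxr f14 fv [] LB0 LsB kills q) = true := by decide +kernel

theorem chk_r_61 : allR 40565 665 (fun q => killR 98280 10 fxr f14 fv [] LB0 LsB kills q) = true := by decide +kernel

theorem chk_r_62 : allR 41230 665 (fun q => killR 98280 10 fxr f14 fv [] LB0 LsB kills q) = true := by decide +kernel

theorem chk_r_63 : allR 41895 665 (fun q => killR 98280 10 fxr f14 fv [] LB0 LsB kills q) = true := by decide +kernel

theorem chk_r_64 : allR 42560 665 (fun q => killR 98280 10 fxr f14 fv [] LB0 LsB kills q) = true := by decide +kernel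

theorem chk_r_65 : allR 43225 665 (fun q => killR 98280 10 fxr f14 fv [] LB0 LsB kills q) = true := by decide +kernel

theorem chk_r_66 : allR 43890 665 (fun q => killR 98280 10 fxr f14 fv [] LB0 LsB kills q) = true := by decide +kernel

theorem chk_r_67 : allR 44555 665 (fun q => killR 98280 10 fxr f14 fv [] LB0 LsB kills q) = true := by decide +kernel

theorem chk_r_68 : allR 45220 665 (fun q => killR 98280 10 fxr f14 fv [] LB0 LsB kills q) = true := by decide +kernel

theorem chk_r_69 : allR 45885 665 (fun q => killR 98280 10 fxr f14 fv [] LB0 LsB kills q) = true := by decide +kernel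

theorem chk_r_70 : allR 46550 665 (fun q => killR 98280 10 fxr f14 fv [] LB0 LsB kills q) = true := by decide +kernel

theorem chk_r_71 : allR 47215 665 (fun q => killR 98280 10 fxr f14 fv [] LB0 LsB kills q) = true := by decide +kernel

theorem chk_r_72 : allR 47880 665 (fun q => killR 98280 10 fxr f14 fv [] LB0 LsB kills q) = true := by decide +kernel

theorem chk_r_73 : allR 48545 665 (fun q => killR 98280 10 fxr f14 fv [] LB0 LsB kills q) = true := by decide +kernel

theorem chk_r_74 : allR 49210 665 (fun q => killR 98280 10 fxr f14 fv [] LB0 LsB kills q) = true := by decide +kernel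


end Cfsg.Agent.Co1Out
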