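import Cfsg.Agent.Lib.Lead.Co1Out.LevBD
import Cfsg.Agent.Lib.Lead.Co1Out.DV
import Cfsg.Agent.Lib.Lead.Co1Out.DXR
import Cfsg.Agent.Lib.Lead.Co1Out.Kills
import Cfsg.Agent.Lib.Lead.PF.Out1

/-! # The outer automorphism group of Co₁: the candidates for the images of `w` when `x` is mapped to `x ^ 5`, slices (generated) -/

set_option autoImplicit false
set_option Elab.async false
set_option maxRecDepth 100000

namespace Cfsg.Agent.Co1Out

open Cfsg.Agent.PF Cfsg.Agent.Lib.Helper6 Cfsg.Agent.Lib.Helper6.TC Cfsg.Agent.Lib.Helper6.NatArr Cfsg.Agent.Co1P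
open Cfsg.Agent.PL (Acts evalF)

theorem chk_r_75 : allR 49875 665 (fun q => killR 98280 10 fxr f14 fv [] LB0 LsB kills q) = true := by decide +kernel

theorem chk_r_76 : allR 50540 665 (fun q => killR 98280 10 fxr f14 fv [] LB0 LsB kills q) = true := by decide +kernel

theorem chk_r_77 : allR 51205 665 (fun q => killR 98280 10 fxr f14 fv [] LB0 LsB kills q) = true := by decide +kernel

theorem chk_r_78 : allR 51870 665 (fun q => killR 98280 10 fxr f14 fv [] LB0 LsB kills q) = true := by decide +kernel

theorem chk_r_79 : allR 52535 665 (fun q => killR 98280 10 fxr f14 fv [] LB0 LsB kills q) = true := by decide +kernel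

theorem chk_r_80 : allR 53200 665 (fun q => killR 98280 10 fxr f14 fv [] LB0 LsB kills q) = true := by decide +kernel

theorem chk_r_81 : allR 53865 665 (fun q => killR 98280 10 fxr f14 fv [] LB0 LsB kills q) = true := by decide +kernel

theorem chk_r_82 : allR 54530 665 (fun q => killR 98280 10 fxr f14 fv [] LB0 LsB kills q) = true := by decide +kernel

theorem chk_r_83 : allR 55195 665 (fun q => killR 98280 10 fxr f14 fv [] LB0 LsB kills q) = true := by decide +kernel

theorem chk_r_84 : allR 55860 665 (fun q => killR 98280 10 fxr f14 fv [] LB0 LsB kills q) = true := by decide +kernel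

theorem chk_r_85 : allR 56525 665 (fun q => killR 98280 10 fxr f14 fv [] LB0 LsB kills q) = true := by decide +kernel

theorem chk_r_86 : allR 57190 665 (fun q => killR 98280 10 fxr f14 fv [] LB0 LsB kills q) = true := by decide +kernel

theorem chk_r_87 : allR 57855 665 (fun q => killR 98280 10 fxr f14 fv [] LB0 LsB kills q) = true := by decide +kernel

theorem chk_r_88 : allR 58520 665 (fun q => killR 98280 10 fxr f14 fv [] LB0 LsB kills q) = true := by decide +kernel

theorem chk_r_89 : allR 59185 665 (fun q => killR 98280 10 fxr f14 fv [] LB0 LsB kills q) = true := by decide +kernel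

theorem chk_r_90 : allR 59850 665 (fun q => killR 98280 10 fxr f14 fv [] LB0 LsB kills q) = true := by decide +kernel

theorem chk_r_91 : allR 60515 665 (fun q => killR 98280 10 fxr f14 fv [] LB0 LsB kills q) = true := by decide +kernel

theorem chk_r_92 : allR 61180 665 (fun q => killR 98280 10 fxr f14 fv [] LB0 LsB kills q) = true := by decide +kernel

theorem chk_r_93 : allR 61845 665 (fun q => killR 98280 10 fxr f14 fv [] LB0 LsB kills q) = true := by decide +kernel

theorem chk_r_94 : allR 62510 665 (fun q => killR 98280 10 fxr f14 fv [] LB0 LsB kills q) = true := by decide +kernel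

theorem chk_r_95 : allR 63175 665 (fun q => killR 98280 10 fxr f14 fv [] LB0 LsB kills q) = true := by decide +kernel

theorem chk_r_96 : allR 63840 665 (fun q => killR 98280 10 fxr f14 fv [] LB0 LsB kills q) = true := by decide +kernel

theorem chk_r_97 : allR 64505 665 (fun q => killR 98280 10 fxr f14 fv [] LB0 LsB kills q) = true := by decide +kernel

theorem chk_r_98 : allR 65170 665 (fun q => killR 98280 10 fxr f14 fv [] LB0 LsB kills q) = true := by decide +kernel

theorem chk_r_99 : allR 65835 665 (fun q => killR 98280 10 fxr f14 fv [] LB0 LsB kills q) = true := by decide +kernel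


end Cfsg.Agent.Co1Out
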