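import Cfsg.Agent.Lib.Lead.Co1Out.LevBD
import Cfsg.Agent.Lib.Lead.Co1Out.DV
import Cfsg.Agent.Lib.Lead.Co1Out.DXR
import Cfsg.Agent.Lib.Lead.Co1Out.Kills
import Cfsg.Agent.Lib.Lead.PF.Out1

/-! # The outer automorphism group of Co₁: the candidates for the images of `w` when `x` is mapped to `x ^ 5`, slices (generated) -/

set_option autoImplicit false
set_option Elab.async false
set_option maxRecDepth 100000

namespace Cfsg.Agent.Co1Out

open Cfsg.Agent.PF Cfsg.Agent.Lib.Helper6 Cfsg.Agent.Lib.Helper6.TC Cfsg.Agent.Lib.Helper6.NatArr Cfsg.Agent.Co1P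
open Cfsg.Agent.PL (Acts evalF)

theorem chk_r_0 : allR 0 665 (fun q => killR 98280 10 fxr f14 fv [] LB0 LsB kills q) = true := by decide +kernel

theorem chk_r_1 : allR 665 665 (fun q => killR 98280 10 fxr f14 fv [] LB0 LsB kills q) = true := by decide +kernel

theorem chk_r_2 : allR 1330 665 (fun q => killR 98280 10 fxr f14 fv [] LB0 LsB kills q) = true := by decide +kernel

theorem chk_r_3 : allR 1995 665 (fun q => killR 98280 10 fxr f14 fv [] LB0 LsB kills q) = true := by decide +kernel

theorem chk_r_4 : allR 2660 665 (fun q => killR 98280 10 fxr f14 fv [] LB0 LsB kills q) = true := by decide +kernel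

theorem chk_r_5 : allR 3325 665 (fun q => killR 98280 10 fxr f14 fv [] LB0 LsB kills q) = true := by decide +kernel

theorem chk_r_6 : allR 3990 665 (fun q => killR 98280 10 fxr f14 fv [] LB0 LsB kills q) = true := by decide +kernel

theorem chk_r_7 : allR 4655 665 (fun q => killR 98280 10 fxr f14 fv [] LB0 LsB kills q) = true := by decide +kernel

theorem chk_r_8 : allR 5320 665 (fun q => killR 98280 10 fxr f14 fv [] LB0 LsB kills q) = true := by decide +kernel

theorem chk_r_9 : allR 5985 665 (fun q => killR 98280 10 fxr f14 fv [] LB0 LsB kills q) = true := by decide +kernel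

theorem chk_r_10 : allR 6650 665 (fun q => killR 98280 10 fxr f14 fv [] LB0 LsB kills q) = true := by decide +kernel

theorem chk_r_11 : allR 7315 665 (fun q => killR 98280 10 fxr f14 fv [] LB0 LsB kills q) = true := by decide +kernel

theorem chk_r_12 : allR 7980 665 (fun q => killR 98280 10 fxr f14 fv [] LB0 LsB kills q) = true := by decide +kernel

theorem chk_r_13 : allR 8645 665 (fun q => killR 98280 10 fxr f14 fv [] LB0 LsB kills q) = true := by decide +kernel

theorem chk_r_14 : allR 9310 665 (fun q => killR 98280 10 fxr f14 fv [] LB0 LsB kills q) = true := by decide +kernel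

theorem chk_r_15 : allR 9975 665 (fun q => killR 98280 10 fxr f14 fv [] LB0 LsB kills q) = true := by decide +kernel

theorem chk_r_16 : allR 10640 665 (fun q => killR 98280 10 fxr f14 fv [] LB0 LsB kills q) = true := by decide +kernel

theorem chk_r_17 : allR 11305 665 (fun q => killR 98280 10 fxr f14 fv [] LB0 LsB kills q) = true := by decide +kernel

theorem chk_r_18 : allR 11970 665 (fun q => killR 98280 10 fxr f14 fv [] LB0 LsB kills q) = true := by decide +kernel

theorem chk_r_19 : allR 12635 665 (fun q => killR 98280 10 fxr f14 fv [] LB0 LsB kills q) = true := by decide +kernel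

theorem chk_r_20 : allR 13300 665 (fun q => killR 98280 10 fxr f14 fv [] LB0 LsB kills q) = true := by decide +kernel

theorem chk_r_21 : allR 13965 665 (fun q => killR 98280 10 fxr f14 fv [] LB0 LsB kills q) = true := by decide +kernel

theorem chk_r_22 : allR 14630 665 (fun q => killR 98280 10 fxr f14 fv [] LB0 LsB kills q) = true := by decide +kernel

theorem chk_r_23 : allR 15295 665 (fun q => killR 98280 10 fxr f14 fv [] LB0 LsB kills q) = true := by decide +kernel

theorem chk_r_24 : allR 15960 665 (fun q => killR 98280 10 fxr f14 fv [] LB0 LsB kills q) = true := by decide +kernel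


end Cfsg.Agent.Co1Out
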