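import Cfsg.Agent.Lib.Lead.Co1Out.LevBD
import Cfsg.Agent.Lib.Lead.Co1Out.DV
import Cfsg.Agent.Lib.Lead.Co1Out.Kills

/-! # The outer automorphism group of Co₁: the candidates for the images of `w`, slices (generated) -/

set_option autoImplicit false
set_option Elab.async false
set_option maxRecDepth 100000

namespace Cfsg.Agent.Co1Out

open Cfsg.Agent.PF Cfsg.Agent.Lib.Helper6 Cfsg.Agent.Lib.Helper6.TC Cfsg.Agent.Lib.Helper6.NatArr Cfsg.Agent.Co1P
open Cfsg.Agent.PL (Acts evalF)

theorem chk_kill_0 : allR 0 665 (fun q => killF 98280 10 f13 f14 fv [] LB0 LsB kills 36367 q) = true := by decide +kernel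

theorem chk_kill_1 : allR 665 665 (fun q => killF 98280 10 f13 f14 fv [] LB0 LsB kills 36367 q) = true := by decide +kernel

theorem chk_kill_2 : allR 1330 665 (fun q => killF 98280 10 f13 f14 fv [] LB0 LsB kills 36367 q) = true := by decide +kernel

theorem chk_kill_3 : allR 1995 665 (fun q => killF 98280 10 f13 f14 fv [] LB0 LsB kills 36367 q) = true := by decide +kernel

theorem chk_kill_4 : allR 2660 665 (fun q => killF 98280 10 f13 f14 fv [] LB0 LsB kills 36367 q) = true := by decide +kernel

theorem chk_kill_5 : allR 3325 665 (fun q => killF 98280 10 f13 f14 fv [] LB0 LsB kills 36367 q) = true := by decide +kernel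

theorem chk_kill_6 : allR 3990 665 (fun q => killF 98280 10 f13 f14 fv [] LB0 LsB kills 36367 q) = true := by decide +kernel

theorem chk_kill_7 : allR 4655 665 (fun q => killF 98280 10 f13 f14 fv [] LB0 LsB kills 36367 q) = true := by decide +kernel

theorem chk_kill_8 : allR 5320 665 (fun q => killF 98280 10 f13 f14 fv [] LB0 LsB kills 36367 q) = true := by decide +kernel

theorem chk_kill_9 : allR 5985 665 (fun q => killF 98280 10 f13 f14 fv [] LB0 LsB kills 36367 q) = true := by decide +kernel

theorem chk_kill_10 : allR 6650 665 (fun q => killF 98280 10 f13 f14 fv [] LB0 LsB kills 36367 q) = true := by decide +kernel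

theorem chk_kill_11 : allR 7315 665 (fun q => killF 98280 10 f13 f14 fv [] LB0 LsB kills 36367 q) = true := by decide +kernel

theorem chk_kill_12 : allR 7980 665 (fun q => killF 98280 10 f13 f14 fv [] LB0 LsB kills 36367 q) = true := by decide +kernel

theorem chk_kill_13 : allR 8645 665 (fun q => killF 98280 10 f13 f14 fv [] LB0 LsB kills 36367 q) = true := by decide +kernel

theorem chk_kill_14 : allR 9310 665 (fun q => killF 98280 10 f13 f14 fv [] LB0 LsB kills 36367 q) = true := by decide +kernel

theorem chk_kill_15 : allR 9975 665 (fun q => killF 98280 10 f13 f14 fv [] LB0 LsB kills 36367 q) = true := by decide +kernel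

theorem chk_kill_16 : allR 10640 665 (fun q => killF 98280 10 f13 f14 fv [] LB0 LsB kills 36367 q) = true := by decide +kernel

theorem chk_kill_17 : allR 11305 665 (fun q => killF 98280 10 f13 f14 fv [] LB0 LsB kills 36367 q) = true := by decide +kernel

theorem chk_kill_18 : allR 11970 665 (fun q => killF 98280 10 f13 f14 fv [] LB0 LsB kills 36367 q) = true := by decide +kernel

theorem chk_kill_19 : allR 12635 665 (fun q => killF 98280 10 f13 f14 fv [] LB0 LsB kills 36367 q) = true := by decide +kernel

theorem chk_kill_20 : allR 13300 665 (fun q => killF 98280 10 f13 f14 fv [] LB0 LsB kills 36367 q) = true := by decide +kernel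

theorem chk_kill_21 : allR 13965 665 (fun q => killF 98280 10 f13 f14 fv [] LB0 LsB kills 36367 q) = true := by decide +kernel

theorem chk_kill_22 : allR 14630 665 (fun q => killF 98280 10 f13 f14 fv [] LB0 LsB kills 36367 q) = true := by decide +kernel

theorem chk_kill_23 : allR 15295 665 (fun q => killF 98280 10 f13 f14 fv [] LB0 LsB kills 36367 q) = true := by decide +kernel

theorem chk_kill_24 : allR 15960 665 (fun q => killF 98280 10 f13 f14 fv [] LB0 LsB kills 36367 q) = true := by decide +kernel


end Cfsg.Agent.Co1Out
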