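import Cfsg.Agent.Lib.Lead.Co1Out.LevAD
import Cfsg.Agent.Lib.Lead.Co1Out.T0
import Cfsg.Agent.Lib.Lead.Co1Out.T1
import Cfsg.Agent.Lib.Lead.Co1Out.T2
import Cfsg.Agent.Lib.Lead.Co1Out.T3
import Cfsg.Agent.Lib.Lead.Co1Out.T4
import Cfsg.Agent.Lib.Lead.Co1Out.T5
import Cfsg.Agent.Lib.Lead.Co1Out.T6
import Cfsg.Agent.Lib.Lead.Co1Out.T7
import Cfsg.Agent.Lib.Lead.Co1Out.T8
import Cfsg.Agent.Lib.Lead.Co1Out.T9
import Cfsg.Agent.Lib.Lead.Co1Out.T10
import Cfsg.Agent.Lib.Lead.Co1Out.T11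
import Cfsg.Agent.Lib.Lead.Co1Out.T12

/-! # The outer automorphism group of Co₁: the generators of the trees of the chain `A` are elements of the group (generated) -/

set_option autoImplicit false
set_option maxRecDepth 100000

namespace Cfsg.Agent.Co1Out

open Cfsg.Agent.PF Cfsg.Agent.Lib.Helper6 Cfsg.Agent.Lib.Helper6.TC Cfsg.Agent.Lib.Helper6.NatArr Cfsg.Agent.Co1P
open Cfsg.Agent.PL (Acts evalF)

theorem repsA0 : Reps P LA0.2.1 :=
  (Reps.cons rep0 (Reps.cons rep1 (Reps.cons rep2 (Reps.cons rep3 (Reps.cons rep4 (Reps.cons rep5 (Reps.cons rep6 (Reps.cons rep7 (Reps.cons rep8 (Reps.cons rep9 (Reps.cons rep10 (Reps.cons rep11 (Reps.cons rep12 (Reps.nil P))))))))))))))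

theorem repsA1 : Reps P LA1.2.1 :=
  (Reps.cons rep5 (Reps.cons rep6 (Reps.cons rep7 (Reps.cons rep8 (Reps.cons rep9 (Reps.cons rep10 (Reps.cons rep11 (Reps.cons rep12 (Reps.nil P)))))))))

theorem repsA2 : Reps P LA2.2.1 :=
  (Reps.cons rep7 (Reps.cons rep8 (Reps.cons rep9 (Reps.cons rep10 (Reps.cons rep11 (Reps.cons rep12 (Reps.nil P)))))))

theorem repsA3 : Reps P LA3.2.1 :=
  (Reps.cons rep9 (Reps.cons rep10 (Reps.cons rep11 (Reps.cons rep12 (Reps.nil P)))))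

theorem repsA4 : Reps P LA4.2.1 :=
  (Reps.cons rep11 (Reps.cons rep12 (Reps.nil P)))

theorem hA : ∀ L ∈ LA0 :: LsA, ∀ c ∈ L.2.1, Rep P c := by
  intro L hL
  simp only [LsA, List.mem_cons, List.not_mem_nil, or_false] at hL
  rcases hL with rfl | rfl | rfl | rfl | rfl
  · exact repsA0
  · exact repsA1
  · exact repsA2
  · exact repsA3
  · exact repsA4

end Cfsg.Agent.Co1Out
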