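import Cfsg.Agent.Lib.Lead.Co1Out.C13
import Cfsg.Agent.Lib.Lead.Co1Out.T0

/-! # The outer automorphism group of Co₁: the element number 13 (generated) -/

set_option autoImplicit false
set_option maxRecDepth 100000

namespace Cfsg.Agent.Co1Out

open Cfsg.Agent.PF Cfsg.Agent.Lib.Helper6 Cfsg.Agent.Lib.Helper6.TC Cfsg.Agent.Lib.Helper6.NatArr Cfsg.Agent.Co1P
open Cfsg.Agent.PL (Acts evalF)

theorem rep13 : Rep P f13 :=
  (rep_wordR (l := W13) (Reps.cons rep0 (Reps.nil P))).congr eq13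

end Cfsg.Agent.Co1Out
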