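import Cfsg.Agent.Lib.Lead.Co1Out.C16
import Cfsg.Agent.Lib.Lead.Co1Out.T1
import Cfsg.Agent.Lib.Lead.Co1Out.T5
import Cfsg.Agent.Lib.Lead.Co1Out.T6
import Cfsg.Agent.Lib.Lead.Co1Out.T8
import Cfsg.Agent.Lib.Lead.Co1Out.T9
import Cfsg.Agent.Lib.Lead.Co1Out.T12
import Cfsg.Agent.Lib.Lead.Co1Out.T13

/-! # The outer automorphism group of Co₁: the element number 16 (generated) -/

set_option autoImplicit false
set_option maxRecDepth 100000

namespace Cfsg.Agent.Co1Out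

open Cfsg.Agent.PF Cfsg.Agent.Lib.Helper6 Cfsg.Agent.Lib.Helper6.TC Cfsg.Agent.Lib.Helper6.NatArr Cfsg.Agent.Co1P
open Cfsg.Agent.PL (Acts evalF)

theorem rep16 : Rep P f16 :=
  (rep_wordR (l := W16) (Reps.cons rep9 (Reps.cons rep5 (Reps.cons rep5 (Reps.cons rep1 (Reps.cons rep8 (Reps.cons rep6 (Reps.cons rep1 (Reps.cons rep5 (Reps.cons rep13 (Reps.cons rep12 (Reps.nil P)))))))))))).congr eq16

end Cfsg.Agent.Co1Out
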