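import Cfsg.Agent.Lib.Lead.Co1Out.C17
import Cfsg.Agent.Lib.Lead.Co1Out.T1
import Cfsg.Agent.Lib.Lead.Co1Out.T2
import Cfsg.Agent.Lib.Lead.Co1Out.T5
import Cfsg.Agent.Lib.Lead.Co1Out.T8
import Cfsg.Agent.Lib.Lead.Co1Out.T11
import Cfsg.Agent.Lib.Lead.Co1Out.T14
import Cfsg.Agent.Lib.Lead.Co1Out.T15
import Cfsg.Agent.Lib.Lead.Co1Out.T16

/-! # The outer automorphism group of Co₁: the element number 17 (generated) -/

set_option autoImplicit false
set_option maxRecDepth 100000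

namespace Cfsg.Agent.Co1Out

open Cfsg.Agent.PF Cfsg.Agent.Lib.Helper6 Cfsg.Agent.Lib.Helper6.TC Cfsg.Agent.Lib.Helper6.NatArr Cfsg.Agent.Co1P
open Cfsg.Agent.PL (Acts evalF)

theorem rep17 : Rep P f17 :=
  (rep_wordR (l := W17) (Reps.cons rep15 (Reps.cons rep15 (Reps.cons rep16 (Reps.cons rep15 (Reps.cons rep16 (Reps.cons rep15 (Reps.cons rep16 (Reps.cons rep16 (Reps.cons rep15 (Reps.cons rep16 (Reps.cons rep15 (Reps.cons rep16 (Reps.cons rep16 (Reps.cons rep15 (Reps.cons rep15 (Reps.cons rep1 (Reps.cons rep5 (Reps.cons rep11 (Reps.cons rep14 (Reps.cons rep2 (Reps.cons rep16 (Reps.cons rep11 (Reps.cons rep14 (Reps.cons rep16 (Reps.cons rep8 (Reps.cons rep1 (Reps.nil P)))))))))))))))))))))))))))).congr eq17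

end Cfsg.Agent.Co1Out
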