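import Cfsg.Agent.Lib.Lead.Co1Out.C18
import Cfsg.Agent.Lib.Lead.Co1Out.T1
import Cfsg.Agent.Lib.Lead.Co1Out.T5
import Cfsg.Agent.Lib.Lead.Co1Out.T6
import Cfsg.Agent.Lib.Lead.Co1Out.T7
import Cfsg.Agent.Lib.Lead.Co1Out.T10
import Cfsg.Agent.Lib.Lead.Co1Out.T11
import Cfsg.Agent.Lib.Lead.Co1Out.T12
import Cfsg.Agent.Lib.Lead.Co1Out.T13
import Cfsg.Agent.Lib.Lead.Co1Out.T14
import Cfsg.Agent.Lib.Lead.Co1Out.T15
import Cfsg.Agent.Lib.Lead.Co1Out.T16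
import Cfsg.Agent.Lib.Lead.Co1Out.T17

/-! # The outer automorphism group of Co₁: the element number 18 (generated) -/

set_option autoImplicit false
set_option maxRecDepth 100000

namespace Cfsg.Agent.Co1Out

open Cfsg.Agent.PF Cfsg.Agent.Lib.Helper6 Cfsg.Agent.Lib.Helper6.TC Cfsg.Agent.Lib.Helper6.NatArr Cfsg.Agent.Co1P
open Cfsg.Agent.PL (Acts evalF)

theorem rep18 : Rep P f18 :=
  (rep_wordR (l := W18) (Reps.cons rep16 (Reps.cons rep15 (Reps.cons rep15 (Reps.cons rep17 (Reps.cons rep17 (Reps.cons rep17 (Reps.cons rep15 (Reps.cons rep16 (Reps.cons rep15 (Reps.cons rep16 (Reps.cons rep15 (Reps.cons rep7 (Reps.cons rep1 (Reps.cons rep6 (Reps.cons rep5 (Reps.cons rep11 (Reps.cons rep14 (Reps.cons rep10 (Reps.cons rep12 (Reps.cons rep13 (Reps.cons rep16 (Reps.nil P))))))))))))))))))))))).congr eq18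

end Cfsg.Agent.Co1Out
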