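import Cfsg.Agent.Lib.Lead.Co1Out.C19
import Cfsg.Agent.Lib.Lead.Co1Out.T0
import Cfsg.Agent.Lib.Lead.Co1Out.T1
import Cfsg.Agent.Lib.Lead.Co1Out.T5
import Cfsg.Agent.Lib.Lead.Co1Out.T7
import Cfsg.Agent.Lib.Lead.Co1Out.T9
import Cfsg.Agent.Lib.Lead.Co1Out.T10
import Cfsg.Agent.Lib.Lead.Co1Out.T14
import Cfsg.Agent.Lib.Lead.Co1Out.T15
import Cfsg.Agent.Lib.Lead.Co1Out.T16
import Cfsg.Agent.Lib.Lead.Co1Out.T17
import Cfsg.Agent.Lib.Lead.Co1Out.T18

/-! # The outer automorphism group of Co₁: the element number 19 (generated) -/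

set_option autoImplicit false
set_option maxRecDepth 100000

namespace Cfsg.Agent.Co1Out

open Cfsg.Agent.PF Cfsg.Agent.Lib.Helper6 Cfsg.Agent.Lib.Helper6.TC Cfsg.Agent.Lib.Helper6.NatArr Cfsg.Agent.Co1P
open Cfsg.Agent.PL (Acts evalF)

theorem rep19 : Rep P f19 :=
  (rep_wordR (l := W19) (Reps.cons rep18 (Reps.cons rep18 (Reps.cons rep18 (Reps.cons rep18 (Reps.cons rep18 (Reps.cons rep17 (Reps.cons rep17 (Reps.cons rep17 (Reps.cons rep17 (Reps.cons rep18 (Reps.cons rep18 (Reps.cons rep17 (Reps.cons rep17 (Reps.cons rep17 (Reps.cons rep15 (Reps.cons rep15 (Reps.cons rep17 (Reps.cons rep16 (Reps.cons rep15 (Reps.cons rep15 (Reps.cons rep17 (Reps.cons rep15 (Reps.cons rep16 (Reps.cons rep17 (Reps.cons rep1 (Reps.cons rep9 (Reps.cons rep14 (Reps.cons rep15 (Reps.cons rep15 (Reps.cons rep7 (Reps.cons rep7 (Reps.cons rep0 (Reps.cons rep5 (Reps.cons rep10 (Reps.cons rep5 (Reps.nil P))))))))))))))))))))))))))))))))))))).congr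 eq19

end Cfsg.Agent.Co1Out
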