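import Cfsg.Agent.Lib.Lead.Co1Out.C20
import Cfsg.Agent.Lib.Lead.Co1Out.T17
import Cfsg.Agent.Lib.Lead.Co1Out.T18
import Cfsg.Agent.Lib.Lead.Co1Out.T19

/-! # The outer automorphism group of Co₁: the element number 20 (generated) -/

set_option autoImplicit false
set_option maxRecDepth 100000

namespace Cfsg.Agent.Co1Out

open Cfsg.Agent.PF Cfsg.Agent.Lib.Helper6 Cfsg.Agent.Lib.Helper6.TC Cfsg.Agent.Lib.Helper6.NatArr Cfsg.Agent.Co1P
open Cfsg.Agent.PL (Acts evalF)

theorem rep20 : Rep P f20 :=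
  (rep_wordR (l := W20) (Reps.cons rep18 (Reps.cons rep18 (Reps.cons rep19 (Reps.cons rep19 (Reps.cons rep18 (Reps.cons rep17 (Reps.cons rep19 (Reps.cons rep17 (Reps.cons rep18 (Reps.cons rep19 (Reps.cons rep19 (Reps.cons rep19 (Reps.cons rep17 (Reps.cons rep18 (Reps.nil P)))))))))))))))).congr eq20

end Cfsg.Agent.Co1Out
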