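import Cfsg.Agent.Lib.Lead.Co1Out.C21
import Cfsg.Agent.Lib.Lead.Co1Out.T1
import Cfsg.Agent.Lib.Lead.Co1Out.T9
import Cfsg.Agent.Lib.Lead.Co1Out.T11
import Cfsg.Agent.Lib.Lead.Co1Out.T14
import Cfsg.Agent.Lib.Lead.Co1Out.T15
import Cfsg.Agent.Lib.Lead.Co1Out.T16
import Cfsg.Agent.Lib.Lead.Co1Out.T17
import Cfsg.Agent.Lib.Lead.Co1Out.T18
import Cfsg.Agent.Lib.Lead.Co1Out.T19
import Cfsg.Agent.Lib.Lead.Co1Out.T20

/-! # The outer automorphism group of Co₁: the element number 21 (generated) -/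

set_option autoImplicit false
set_option maxRecDepth 100000

namespace Cfsg.Agent.Co1Out

open Cfsg.Agent.PF Cfsg.Agent.Lib.Helper6 Cfsg.Agent.Lib.Helper6.TC Cfsg.Agent.Lib.Helper6.NatArr Cfsg.Agent.Co1P
open Cfsg.Agent.PL (Acts evalF)

theorem rep21 : Rep P f21 :=
  (rep_wordR (l := W21) (Reps.cons rep17 (Reps.cons rep17 (Reps.cons rep17 (Reps.cons rep19 (Reps.cons rep19 (Reps.cons rep20 (Reps.cons rep18 (Reps.cons rep17 (Reps.cons rep16 (Reps.cons rep17 (Reps.cons rep15 (Reps.cons rep16 (Reps.cons rep16 (Reps.cons rep20 (Reps.cons rep17 (Reps.cons rep9 (Reps.cons rep20 (Reps.cons rep1 (Reps.cons rep16 (Reps.cons rep11 (Reps.cons rep18 (Reps.cons rep11 (Reps.cons rep11 (Reps.cons rep14 (Reps.nil P)))))))))))))))))))))))))).congr eq21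

end Cfsg.Agent.Co1Out
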