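import Cfsg.Agent.Lib.Lead.Co1Out.C22
import Cfsg.Agent.Lib.Lead.Co1Out.T19
import Cfsg.Agent.Lib.Lead.Co1Out.T20
import Cfsg.Agent.Lib.Lead.Co1Out.T21

/-! # The outer automorphism group of Co₁: the element number 22 (generated) -/

set_option autoImplicit false
set_option maxRecDepth 100000

namespace Cfsg.Agent.Co1Out

open Cfsg.Agent.PF Cfsg.Agent.Lib.Helper6 Cfsg.Agent.Lib.Helper6.TC Cfsg.Agent.Lib.Helper6.NatArr Cfsg.Agent.Co1P
open Cfsg.Agent.PL (Acts evalF)

theorem rep22 : Rep P f22 :=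
  (rep_wordR (l := W22) (Reps.cons rep19 (Reps.cons rep19 (Reps.cons rep21 (Reps.cons rep19 (Reps.cons rep21 (Reps.cons rep20 (Reps.cons rep21 (Reps.cons rep21 (Reps.cons rep21 (Reps.cons rep21 (Reps.cons rep21 (Reps.cons rep20 (Reps.cons rep21 (Reps.cons rep21 (Reps.cons rep19 (Reps.nil P))))))))))))))))).congr eq22

end Cfsg.Agent.Co1Out
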