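import Cfsg.Agent.Lib.Lead.Co1Out.LevBD
import Cfsg.Agent.Lib.Lead.Co1Out.T0
import Cfsg.Agent.Lib.Lead.Co1Out.T1
import Cfsg.Agent.Lib.Lead.Co1Out.T2
import Cfsg.Agent.Lib.Lead.Co1Out.T3
import Cfsg.Agent.Lib.Lead.Co1Out.T4
import Cfsg.Agent.Lib.Lead.Co1Out.T5
import Cfsg.Agent.Lib.Lead.Co1Out.T6
import Cfsg.Agent.Lib.Lead.Co1Out.T7
import Cfsg.Agent.Lib.Lead.Co1Out.T8
import Cfsg.Agent.Lib.Lead.Co1Out.T9
import Cfsg.Agent.Lib.Lead.Co1Out.T10
import Cfsg.Agent.Lib.Lead.Co1Out.T11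
import Cfsg.Agent.Lib.Lead.Co1Out.T12
import Cfsg.Agent.Lib.Lead.Co1Out.T13
import Cfsg.Agent.Lib.Lead.Co1Out.T14
import Cfsg.Agent.Lib.Lead.Co1Out.T15
import Cfsg.Agent.Lib.Lead.Co1Out.T16
import Cfsg.Agent.Lib.Lead.Co1Out.T17
import Cfsg.Agent.Lib.Lead.Co1Out.T18
import Cfsg.Agent.Lib.Lead.Co1Out.T19
import Cfsg.Agent.Lib.Lead.Co1Out.T20
import Cfsg.Agent.Lib.Lead.Co1Out.T21
import Cfsg.Agent.Lib.Lead.Co1Out.T22
import Cfsg.Agent.Lib.Lead.Co1Out.T23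

/-! # The outer automorphism group of Co₁: the generators of the trees of the chain `B` are elements of the group (generated) -/

set_option autoImplicit false
set_option maxRecDepth 100000

namespace Cfsg.Agent.Co1Out

open Cfsg.Agent.PF Cfsg.Agent.Lib.Helper6 Cfsg.Agent.Lib.Helper6.TC Cfsg.Agent.Lib.Helper6.NatArr Cfsg.Agent.Co1P
open Cfsg.Agent.PL (Acts evalF)

theorem repsB0 : Reps P LB0.2.1 :=
  (Reps.cons rep0 (Reps.cons rep1 (Reps.cons rep2 (Reps.cons rep3 (Reps.cons rep4 (Reps.cons rep5 (Reps.cons rep6 (Reps.cons rep7 (Reps.cons rep8 (Reps.cons rep9 (Reps.cons rep10 (Reps.cons rep11 (Reps.cons rep12 (Reps.cons rep13 (Reps.cons rep14 (Reps.cons rep15 (Reps.cons rep16 (Reps.cons rep17 (Reps.cons rep18 (Reps.cons rep19 (Reps.cons rep20 (Reps.cons rep21 (Reps.cons rep22 (Reps.cons rep23 (Reps.nil P)))))))))))))))))))))))))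

theorem repsB1 : Reps P LB1.2.1 :=
  (Reps.cons rep15 (Reps.cons rep16 (Reps.cons rep17 (Reps.cons rep18 (Reps.cons rep19 (Reps.cons rep20 (Reps.cons rep21 (Reps.cons rep22 (Reps.cons rep23 (Reps.nil P))))))))))

theorem repsB2 : Reps P LB2.2.1 :=
  (Reps.cons rep17 (Reps.cons rep18 (Reps.cons rep19 (Reps.cons rep20 (Reps.cons rep21 (Reps.cons rep22 (Reps.cons rep23 (Reps.nil P))))))))

theorem repsB3 : Reps P LB3.2.1 :=
  (Reps.cons rep19 (Reps.cons rep20 (Reps.cons rep21 (Reps.cons rep22 (Reps.cons rep23 (Reps.nil P))))))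

theorem repsB4 : Reps P LB4.2.1 :=
  (Reps.cons rep22 (Reps.cons rep23 (Reps.nil P)))

theorem hB : ∀ L ∈ LB0 :: LsB, ∀ c ∈ L.2.1, Rep P c := by
  intro L hL
  simp only [LsB, List.mem_cons, List.not_mem_nil, or_false] at hL
  rcases hL with rfl | rfl | rfl | rfl | rfl
  · exact repsB0
  · exact repsB1
  · exact repsB2
  · exact repsB3
  · exact repsB4

end Cfsg.Agent.Co1Out
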