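import Cfsg.Agent.Lib.Lead.Co1Out.D13
import Cfsg.Agent.Lib.Lead.Co1Out.D14
import Cfsg.Agent.Lib.Lead.Co1Out.DV
import Cfsg.Agent.Lib.Lead.Co1Out.Kills

/-! # The outer automorphism group of Co₁: the relation number 1, slices (generated) -/

set_option autoImplicit false
set_option Elab.async false
set_option maxRecDepth 100000

namespace Cfsg.Agent.Co1Out

open Cfsg.Agent.PF Cfsg.Agent.Lib.Helper6 Cfsg.Agent.Lib.Helper6.TC Cfsg.Agent.Lib.Helper6.NatArr Cfsg.Agent.Co1P
open Cfsg.Agent.PL (Acts evalF)

theorem rel1_25 : allR 27000 1080 (fun q => (fun q => Nat.beq ((evalF f13 f14 fv [0, 1, 2])^[15] q) ((fun q => q) q)) q) = true := by decide +kernel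

theorem rel1_26 : allR 28080 1080 (fun q => (fun q => Nat.beq ((evalF f13 f14 fv [0, 1, 2])^[15] q) ((fun q => q) q)) q) = true := by decide +kernel

theorem rel1_27 : allR 29160 1080 (fun q => (fun q => Nat.beq ((evalF f13 f14 fv [0, 1, 2])^[15] q) ((fun q => q) q)) q) = true := by decide +kernel

theorem rel1_28 : allR 30240 1080 (fun q => (fun q => Nat.beq ((evalF f13 f14 fv [0, 1, 2])^[15] q) ((fun q => q) q)) q) = true := by decide +kernel

theorem rel1_29 : allR 31320 1080 (fun q => (fun q => Nat.beq ((evalF f13 f14 fv [0, 1, 2])^[15] q) ((fun q => q) q)) q) = true := by decide +kernel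

theorem rel1_30 : allR 32400 1080 (fun q => (fun q => Nat.beq ((evalF f13 f14 fv [0, 1, 2])^[15] q) ((fun q => q) q)) q) = true := by decide +kernel

theorem rel1_31 : allR 33480 1080 (fun q => (fun q => Nat.beq ((evalF f13 f14 fv [0, 1, 2])^[15] q) ((fun q => q) q)) q) = true := by decide +kernel

theorem rel1_32 : allR 34560 1080 (fun q => (fun q => Nat.beq ((evalF f13 f14 fv [0, 1, 2])^[15] q) ((fun q => q) q)) q) = true := by decide +kernel

theorem rel1_33 : allR 35640 1080 (fun q => (fun q => Nat.beq ((evalF f13 f14 fv [0, 1, 2])^[15] q) ((fun q => q) q)) q) = true := by decide +kernel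

theorem rel1_34 : allR 36720 1080 (fun q => (fun q => Nat.beq ((evalF f13 f14 fv [0, 1, 2])^[15] q) ((fun q => q) q)) q) = true := by decide +kernel

theorem rel1_35 : allR 37800 1080 (fun q => (fun q => Nat.beq ((evalF f13 f14 fv [0, 1, 2])^[15] q) ((fun q => q) q)) q) = true := by decide +kernel

theorem rel1_36 : allR 38880 1080 (fun q => (fun q => Nat.beq ((evalF f13 f14 fv [0, 1, 2])^[15] q) ((fun q => q) q)) q) = true := by decide +kernel

theorem rel1_37 : allR 39960 1080 (fun q => (fun q => Nat.beq ((evalF f13 f14 fv [0, 1, 2])^[15] q) ((fun q => q) q)) q) = true := by decide +kernel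

theorem rel1_38 : allR 41040 1080 (fun q => (fun q => Nat.beq ((evalF f13 f14 fv [0, 1, 2])^[15] q) ((fun q => q) q)) q) = true := by decide +kernel

theorem rel1_39 : allR 42120 1080 (fun q => (fun q => Nat.beq ((evalF f13 f14 fv [0, 1, 2])^[15] q) ((fun q => q) q)) q) = true := by decide +kernel

theorem rel1_40 : allR 43200 1080 (fun q => (fun q => Nat.beq ((evalF f13 f14 fv [0, 1, 2])^[15] q) ((fun q => q) q)) q) = true := by decide +kernel

theorem rel1_41 : allR 44280 1080 (fun q => (fun q => Nat.beq ((evalF f13 f14 fv [0, 1, 2])^[15] q) ((fun q => q) q)) q) = true := by decide +kernel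

theorem rel1_42 : allR 45360 1080 (fun q => (fun q => Nat.beq ((evalF f13 f14 fv [0, 1, 2])^[15] q) ((fun q => q) q)) q) = true := by decide +kernel

theorem rel1_43 : allR 46440 1080 (fun q => (fun q => Nat.beq ((evalF f13 f14 fv [0, 1, 2])^[15] q) ((fun q => q) q)) q) = true := by decide +kernel

theorem rel1_44 : allR 47520 1080 (fun q => (fun q => Nat.beq ((evalF f13 f14 fv [0, 1, 2])^[15] q) ((fun q => q) q)) q) = true := by decide +kernel

theorem rel1_45 : allR 48600 1080 (fun q => (fun q => Nat.beq ((evalF f13 f14 fv [0, 1, 2])^[15] q) ((fun q => q) q)) q) = true := by decide +kernel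

theorem rel1_46 : allR 49680 1080 (fun q => (fun q => Nat.beq ((evalF f13 f14 fv [0, 1, 2])^[15] q) ((fun q => q) q)) q) = true := by decide +kernel

theorem rel1_47 : allR 50760 1080 (fun q => (fun q => Nat.beq ((evalF f13 f14 fv [0, 1, 2])^[15] q) ((fun q => q) q)) q) = true := by decide +kernel

theorem rel1_48 : allR 51840 1080 (fun q => (fun q => Nat.beq ((evalF f13 f14 fv [0, 1, 2])^[15] q) ((fun q => q) q)) q) = true := by decide +kernel

theorem rel1_49 : allR 52920 1080 (fun q => (fun q => Nat.beq ((evalF f13 f14 fv [0, 1, 2])^[15] q) ((fun q => q) q)) q) = true := by decide +kernel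


end Cfsg.Agent.Co1Out
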