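import Cfsg.Agent.Lib.Lead.Co1Out.D13
import Cfsg.Agent.Lib.Lead.Co1Out.D14
import Cfsg.Agent.Lib.Lead.Co1Out.DV
import Cfsg.Agent.Lib.Lead.Co1Out.Kills

/-! # The outer automorphism group of Co₁: the relation number 1, slices (generated) -/

set_option autoImplicit false
set_option Elab.async false
set_option maxRecDepth 100000

namespace Cfsg.Agent.Co1Out

open Cfsg.Agent.PF Cfsg.Agent.Lib.Helper6 Cfsg.Agent.Lib.Helper6.TC Cfsg.Agent.Lib.Helper6.NatArr Cfsg.Agent.Co1P
open Cfsg.Agent.PL (Acts evalF)

theorem rel1_50 : allR 54000 1080 (fun q => (fun q => Nat.beq ((evalF f13 f14 fv [0, 1, 2])^[15] q) ((fun q => q) q)) q) = true := by decide +kernel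

theorem rel1_51 : allR 55080 1080 (fun q => (fun q => Nat.beq ((evalF f13 f14 fv [0, 1, 2])^[15] q) ((fun q => q) q)) q) = true := by decide +kernel

theorem rel1_52 : allR 56160 1080 (fun q => (fun q => Nat.beq ((evalF f13 f14 fv [0, 1, 2])^[15] q) ((fun q => q) q)) q) = true := by decide +kernel

theorem rel1_53 : allR 57240 1080 (fun q => (fun q => Nat.beq ((evalF f13 f14 fv [0, 1, 2])^[15] q) ((fun q => q) q)) q) = true := by decide +kernel

theorem rel1_54 : allR 58320 1080 (fun q => (fun q => Nat.beq ((evalF f13 f14 fv [0, 1, 2])^[15] q) ((fun q => q) q)) q) = true := by decide +kernel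

theorem rel1_55 : allR 59400 1080 (fun q => (fun q => Nat.beq ((evalF f13 f14 fv [0, 1, 2])^[15] q) ((fun q => q) q)) q) = true := by decide +kernel

theorem rel1_56 : allR 60480 1080 (fun q => (fun q => Nat.beq ((evalF f13 f14 fv [0, 1, 2])^[15] q) ((fun q => q) q)) q) = true := by decide +kernel

theorem rel1_57 : allR 61560 1080 (fun q => (fun q => Nat.beq ((evalF f13 f14 fv [0, 1, 2])^[15] q) ((fun q => q) q)) q) = true := by decide +kernel

theorem rel1_58 : allR 62640 1080 (fun q => (fun q => Nat.beq ((evalF f13 f14 fv [0, 1, 2])^[15] q) ((fun q => q) q)) q) = true := by decide +kernel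

theorem rel1_59 : allR 63720 1080 (fun q => (fun q => Nat.beq ((evalF f13 f14 fv [0, 1, 2])^[15] q) ((fun q => q) q)) q) = true := by decide +kernel

theorem rel1_60 : allR 64800 1080 (fun q => (fun q => Nat.beq ((evalF f13 f14 fv [0, 1, 2])^[15] q) ((fun q => q) q)) q) = true := by decide +kernel

theorem rel1_61 : allR 65880 1080 (fun q => (fun q => Nat.beq ((evalF f13 f14 fv [0, 1, 2])^[15] q) ((fun q => q) q)) q) = true := by decide +kernel

theorem rel1_62 : allR 66960 1080 (fun q => (fun q => Nat.beq ((evalF f13 f14 fv [0, 1, 2])^[15] q) ((fun q => q) q)) q) = true := by decide +kernel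

theorem rel1_63 : allR 68040 1080 (fun q => (fun q => Nat.beq ((evalF f13 f14 fv [0, 1, 2])^[15] q) ((fun q => q) q)) q) = true := by decide +kernel

theorem rel1_64 : allR 69120 1080 (fun q => (fun q => Nat.beq ((evalF f13 f14 fv [0, 1, 2])^[15] q) ((fun q => q) q)) q) = true := by decide +kernel

theorem rel1_65 : allR 70200 1080 (fun q => (fun q => Nat.beq ((evalF f13 f14 fv [0, 1, 2])^[15] q) ((fun q => q) q)) q) = true := by decide +kernel

theorem rel1_66 : allR 71280 1080 (fun q => (fun q => Nat.beq ((evalF f13 f14 fv [0, 1, 2])^[15] q) ((fun q => q) q)) q) = true := by decide +kernel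

theorem rel1_67 : allR 72360 1080 (fun q => (fun q => Nat.beq ((evalF f13 f14 fv [0, 1, 2])^[15] q) ((fun q => q) q)) q) = true := by decide +kernel

theorem rel1_68 : allR 73440 1080 (fun q => (fun q => Nat.beq ((evalF f13 f14 fv [0, 1, 2])^[15] q) ((fun q => q) q)) q) = true := by decide +kernel

theorem rel1_69 : allR 74520 1080 (fun q => (fun q => Nat.beq ((evalF f13 f14 fv [0, 1, 2])^[15] q) ((fun q => q) q)) q) = true := by decide +kernel

theorem rel1_70 : allR 75600 1080 (fun q => (fun q => Nat.beq ((evalF f13 f14 fv [0, 1, 2])^[15] q) ((fun q => q) q)) q) = true := by decide +kernel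

theorem rel1_71 : allR 76680 1080 (fun q => (fun q => Nat.beq ((evalF f13 f14 fv [0, 1, 2])^[15] q) ((fun q => q) q)) q) = true := by decide +kernel

theorem rel1_72 : allR 77760 1080 (fun q => (fun q => Nat.beq ((evalF f13 f14 fv [0, 1, 2])^[15] q) ((fun q => q) q)) q) = true := by decide +kernel

theorem rel1_73 : allR 78840 1080 (fun q => (fun q => Nat.beq ((evalF f13 f14 fv [0, 1, 2])^[15] q) ((fun q => q) q)) q) = true := by decide +kernel

theorem rel1_74 : allR 79920 1080 (fun q => (fun q => Nat.beq ((evalF f13 f14 fv [0, 1, 2])^[15] q) ((fun q => q) q)) q) = true := by decide +kernel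


end Cfsg.Agent.Co1Out
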