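import Cfsg.Agent.Lib.Lead.Co1Out.D13
import Cfsg.Agent.Lib.Lead.Co1Out.D14
import Cfsg.Agent.Lib.Lead.Co1Out.DV
import Cfsg.Agent.Lib.Lead.Co1Out.Kills

/-! # The outer automorphism group of Co₁: the relation number 1, slices (generated) -/

set_option autoImplicit false
set_option Elab.async false
set_option maxRecDepth 100000

namespace Cfsg.Agent.Co1Out

open Cfsg.Agent.PF Cfsg.Agent.Lib.Helper6 Cfsg.Agent.Lib.Helper6.TC Cfsg.Agent.Lib.Helper6.NatArr Cfsg.Agent.Co1P
open Cfsg.Agent.PL (Acts evalF)

theorem rel1_75 : allR 81000 1080 (fun q => (fun q => Nat.beq ((evalF f13 f14 fv [0, 1, 2])^[15] q) ((fun q => q) q)) q) = true := by decide +kernel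

theorem rel1_76 : allR 82080 1080 (fun q => (fun q => Nat.beq ((evalF f13 f14 fv [0, 1, 2])^[15] q) ((fun q => q) q)) q) = true := by decide +kernel

theorem rel1_77 : allR 83160 1080 (fun q => (fun q => Nat.beq ((evalF f13 f14 fv [0, 1, 2])^[15] q) ((fun q => q) q)) q) = true := by decide +kernel

theorem rel1_78 : allR 84240 1080 (fun q => (fun q => Nat.beq ((evalF f13 f14 fv [0, 1, 2])^[15] q) ((fun q => q) q)) q) = true := by decide +kernel

theorem rel1_79 : allR 85320 1080 (fun q => (fun q => Nat.beq ((evalF f13 f14 fv [0, 1, 2])^[15] q) ((fun q => q) q)) q) = true := by decide +kernel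

theorem rel1_80 : allR 86400 1080 (fun q => (fun q => Nat.beq ((evalF f13 f14 fv [0, 1, 2])^[15] q) ((fun q => q) q)) q) = true := by decide +kernel

theorem rel1_81 : allR 87480 1080 (fun q => (fun q => Nat.beq ((evalF f13 f14 fv [0, 1, 2])^[15] q) ((fun q => q) q)) q) = true := by decide +kernel

theorem rel1_82 : allR 88560 1080 (fun q => (fun q => Nat.beq ((evalF f13 f14 fv [0, 1, 2])^[15] q) ((fun q => q) q)) q) = true := by decide +kernel

theorem rel1_83 : allR 89640 1080 (fun q => (fun q => Nat.beq ((evalF f13 f14 fv [0, 1, 2])^[15] q) ((fun q => q) q)) q) = true := by decide +kernel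

theorem rel1_84 : allR 90720 1080 (fun q => (fun q => Nat.beq ((evalF f13 f14 fv [0, 1, 2])^[15] q) ((fun q => q) q)) q) = true := by decide +kernel

theorem rel1_85 : allR 91800 1080 (fun q => (fun q => Nat.beq ((evalF f13 f14 fv [0, 1, 2])^[15] q) ((fun q => q) q)) q) = true := by decide +kernel

theorem rel1_86 : allR 92880 1080 (fun q => (fun q => Nat.beq ((evalF f13 f14 fv [0, 1, 2])^[15] q) ((fun q => q) q)) q) = true := by decide +kernel

theorem rel1_87 : allR 93960 1080 (fun q => (fun q => Nat.beq ((evalF f13 f14 fv [0, 1, 2])^[15] q) ((fun q => q) q)) q) = true := by decide +kernel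

theorem rel1_88 : allR 95040 1080 (fun q => (fun q => Nat.beq ((evalF f13 f14 fv [0, 1, 2])^[15] q) ((fun q => q) q)) q) = true := by decide +kernel

theorem rel1_89 : allR 96120 1080 (fun q => (fun q => Nat.beq ((evalF f13 f14 fv [0, 1, 2])^[15] q) ((fun q => q) q)) q) = true := by decide +kernel

theorem rel1_90 : allR 97200 1080 (fun q => (fun q => Nat.beq ((evalF f13 f14 fv [0, 1, 2])^[15] q) ((fun q => q) q)) q) = true := by decide +kernel


end Cfsg.Agent.Co1Out
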