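import Cfsg.Agent.Lib.Lead.Co1Out.Rel1_0
import Cfsg.Agent.Lib.Lead.Co1Out.Rel1_1
import Cfsg.Agent.Lib.Lead.Co1Out.Rel1_2
import Cfsg.Agent.Lib.Lead.Co1Out.Rel1_3

/-! # The outer automorphism group of Co₁: the relation number 1 (generated) -/

set_option autoImplicit false
set_option maxRecDepth 100000

namespace Cfsg.Agent.Co1Out

open Cfsg.Agent.PF Cfsg.Agent.Lib.Helper6 Cfsg.Agent.Lib.Helper6.TC Cfsg.Agent.Lib.Helper6.NatArr Cfsg.Agent.Co1P
open Cfsg.Agent.PL (Acts evalF)

theorem rel1_all : ∀ q < 98280, (fun q => Nat.beq ((evalF f13 f14 fv [0, 1, 2])^[15] q) ((fun q => q) q)) q = true :=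
  forall_lt_of_chunks (f := fun q => (fun q => Nat.beq ((evalF f13 f14 fv [0, 1, 2])^[15] q) ((fun q => q) q)) q) [(0, 1080), (1080, 1080), (2160, 1080), (3240, 1080), (4320, 1080), (5400, 1080), (6480, 1080), (7560, 1080), (8640, 1080), (9720, 1080), (10800, 1080), (11880, 1080), (12960, 1080), (14040, 1080), (15120, 1080), (16200, 1080), (17280, 1080), (18360, 1080), (19440, 1080), (20520, 1080), (21600, 1080), (22680, 1080), (23760, 1080), (24840, 1080), (25920, 1080), (27000, 1080), (28080, 1080), (29160, 1080), (30240, 1080), (31320, 1080), (32400, 1080), (33480, 1080), (34560, 1080), (35640, 1080), (36720, 1080), (37800, 1080), (38880, 1080), (39960, 1080), (41040, 1080), (42120, 1080), (43200, 1080), (44280, 1080), (45360, 1080), (46440, 1080), (47520, 1080), (48600, 1080), (49680, 1080), (50760, 1080), (51840, 1080), (52920, 1080), (54000, 1080), (55080, 1080), (56160, 1080), (57240, 1080), (58320, 1080), (59400, 1080), (60480, 1080), (61560, 1080), (62640, 1080), (63720, 1080), (64800, 1080),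 (65880, 1080), (66960, 1080), (68040, 1080), (69120, 1080), (70200, 1080), (71280, 1080), (72360, 1080), (73440, 1080), (74520, 1080), (75600, 1080), (76680, 1080), (77760, 1080), (78840, 1080), (79920, 1080), (81000, 1080), (82080, 1080), (83160, 1080), (84240, 1080), (85320, 1080), (86400, 1080), (87480, 1080), (88560, 1080), (89640, 1080), (90720, 1080), (91800, 1080), (92880, 1080), (93960, 1080), (95040, 1080), (96120, 1080), (97200, 1080)] (by decide)
    (all_cons rel1_0 (all_cons rel1_1 (all_cons rel1_2 (all_cons rel1_3 (all_cons rel1_4 (all_cons rel1_5 (all_cons rel1_6 (all_cons rel1_7 (all_cons rel1_8 (all_cons rel1_9 (all_cons rel1_10 (all_cons rel1_11 (all_cons rel1_12 (all_cons rel1_13 (all_cons rel1_14 (all_cons rel1_15 (all_cons rel1_16 (all_cons rel1_17 (all_cons rel1_18 (all_cons rel1_19 (all_cons rel1_20 (all_cons rel1_21 (all_cons rel1_22 (all_cons rel1_23 (all_cons rel1_24 (all_cons rel1_25 (all_cons rel1_26 (all_cons rel1_27 (all_cons rel1_28 (all_cons rel1_29 (all_cons rel1_30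 (all_cons rel1_31 (all_cons rel1_32 (all_cons rel1_33 (all_cons rel1_34 (all_cons rel1_35 (all_cons rel1_36 (all_cons rel1_37 (all_cons rel1_38 (all_cons rel1_39 (all_cons rel1_40 (all_cons rel1_41 (all_cons rel1_42 (all_cons rel1_43 (all_cons rel1_44 (all_cons rel1_45 (all_cons rel1_46 (all_cons rel1_47 (all_cons rel1_48 (all_cons rel1_49 (all_cons rel1_50 (all_cons rel1_51 (all_cons rel1_52 (all_cons rel1_53 (all_cons rel1_54 (all_cons rel1_55 (all_cons rel1_56 (all_cons rel1_57 (all_cons rel1_58 (all_cons rel1_59 (all_cons rel1_60 (all_cons rel1_61 (all_cons rel1_62 (all_cons rel1_63 (all_cons rel1_64 (all_cons rel1_65 (all_cons rel1_66 (all_cons rel1_67 (all_cons rel1_68 (all_cons rel1_69 (all_cons rel1_70 (all_cons rel1_71 (all_cons rel1_72 (all_cons rel1_73 (all_cons rel1_74 (all_cons rel1_75 (all_cons rel1_76 (all_cons rel1_77 (all_cons rel1_78 (all_cons rel1_79 (all_cons rel1_80 (all_cons rel1_81 (all_cons rel1_82 (all_cons rel1_83 (all_cons rel1_84 (all_cons rel1_85 (all_cons rel1_86 (all_cons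 rel1_87 (all_cons rel1_88 (all_cons rel1_89 (all_cons rel1_90 all_nil)))))))))))))))))))))))))))))))))))))))))))))))))))))))))))))))))))))))))))))))))))))))))))

/-- a relation -/
theorem rel1 : ∀ q < 98280, (evalF f13 f14 fv [0, 1, 2])^[15] q = (fun q => q) q :=
  fun q hq => Nat.eq_of_beq_eq_true (rel1_all q hq)

end Cfsg.Agent.Co1Out
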