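import Cfsg.Agent.Lib.Lead.Co1Out.D13
import Cfsg.Agent.Lib.Lead.Co1Out.D14
import Cfsg.Agent.Lib.Lead.Co1Out.DV
import Cfsg.Agent.Lib.Lead.Co1Out.Kills

/-! # The outer automorphism group of Co₁: the relation number 2, slices (generated) -/

set_option autoImplicit false
set_option Elab.async false
set_option maxRecDepth 100000

namespace Cfsg.Agent.Co1Out

open Cfsg.Agent.PF Cfsg.Agent.Lib.Helper6 Cfsg.Agent.Lib.Helper6.TC Cfsg.Agent.Lib.Helper6.NatArr Cfsg.Agent.Co1P
open Cfsg.Agent.PL (Acts evalF)

theorem rel2_25 : allR 20475 819 (fun q => (fun q => Nat.beq ((evalF f13 f14 fv [0, 1, 1, 2])^[15] q) ((fun q => q) q)) q) = true := by decide +kernel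

theorem rel2_26 : allR 21294 819 (fun q => (fun q => Nat.beq ((evalF f13 f14 fv [0, 1, 1, 2])^[15] q) ((fun q => q) q)) q) = true := by decide +kernel

theorem rel2_27 : allR 22113 819 (fun q => (fun q => Nat.beq ((evalF f13 f14 fv [0, 1, 1, 2])^[15] q) ((fun q => q) q)) q) = true := by decide +kernel

theorem rel2_28 : allR 22932 819 (fun q => (fun q => Nat.beq ((evalF f13 f14 fv [0, 1, 1, 2])^[15] q) ((fun q => q) q)) q) = true := by decide +kernel

theorem rel2_29 : allR 23751 819 (fun q => (fun q => Nat.beq ((evalF f13 f14 fv [0, 1, 1, 2])^[15] q) ((fun q => q) q)) q) = true := by decide +kernel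

theorem rel2_30 : allR 24570 819 (fun q => (fun q => Nat.beq ((evalF f13 f14 fv [0, 1, 1, 2])^[15] q) ((fun q => q) q)) q) = true := by decide +kernel

theorem rel2_31 : allR 25389 819 (fun q => (fun q => Nat.beq ((evalF f13 f14 fv [0, 1, 1, 2])^[15] q) ((fun q => q) q)) q) = true := by decide +kernel

theorem rel2_32 : allR 26208 819 (fun q => (fun q => Nat.beq ((evalF f13 f14 fv [0, 1, 1, 2])^[15] q) ((fun q => q) q)) q) = true := by decide +kernel

theorem rel2_33 : allR 27027 819 (fun q => (fun q => Nat.beq ((evalF f13 f14 fv [0, 1, 1, 2])^[15] q) ((fun q => q) q)) q) = true := by decide +kernel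

theorem rel2_34 : allR 27846 819 (fun q => (fun q => Nat.beq ((evalF f13 f14 fv [0, 1, 1, 2])^[15] q) ((fun q => q) q)) q) = true := by decide +kernel

theorem rel2_35 : allR 28665 819 (fun q => (fun q => Nat.beq ((evalF f13 f14 fv [0, 1, 1, 2])^[15] q) ((fun q => q) q)) q) = true := by decide +kernel

theorem rel2_36 : allR 29484 819 (fun q => (fun q => Nat.beq ((evalF f13 f14 fv [0, 1, 1, 2])^[15] q) ((fun q => q) q)) q) = true := by decide +kernel

theorem rel2_37 : allR 30303 819 (fun q => (fun q => Nat.beq ((evalF f13 f14 fv [0, 1, 1, 2])^[15] q) ((fun q => q) q)) q) = true := by decide +kernel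

theorem rel2_38 : allR 31122 819 (fun q => (fun q => Nat.beq ((evalF f13 f14 fv [0, 1, 1, 2])^[15] q) ((fun q => q) q)) q) = true := by decide +kernel

theorem rel2_39 : allR 31941 819 (fun q => (fun q => Nat.beq ((evalF f13 f14 fv [0, 1, 1, 2])^[15] q) ((fun q => q) q)) q) = true := by decide +kernel

theorem rel2_40 : allR 32760 819 (fun q => (fun q => Nat.beq ((evalF f13 f14 fv [0, 1, 1, 2])^[15] q) ((fun q => q) q)) q) = true := by decide +kernel

theorem rel2_41 : allR 33579 819 (fun q => (fun q => Nat.beq ((evalF f13 f14 fv [0, 1, 1, 2])^[15] q) ((fun q => q) q)) q) = true := by decide +kernel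

theorem rel2_42 : allR 34398 819 (fun q => (fun q => Nat.beq ((evalF f13 f14 fv [0, 1, 1, 2])^[15] q) ((fun q => q) q)) q) = true := by decide +kernel

theorem rel2_43 : allR 35217 819 (fun q => (fun q => Nat.beq ((evalF f13 f14 fv [0, 1, 1, 2])^[15] q) ((fun q => q) q)) q) = true := by decide +kernel

theorem rel2_44 : allR 36036 819 (fun q => (fun q => Nat.beq ((evalF f13 f14 fv [0, 1, 1, 2])^[15] q) ((fun q => q) q)) q) = true := by decide +kernel

theorem rel2_45 : allR 36855 819 (fun q => (fun q => Nat.beq ((evalF f13 f14 fv [0, 1, 1, 2])^[15] q) ((fun q => q) q)) q) = true := by decide +kernel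

theorem rel2_46 : allR 37674 819 (fun q => (fun q => Nat.beq ((evalF f13 f14 fv [0, 1, 1, 2])^[15] q) ((fun q => q) q)) q) = true := by decide +kernel

theorem rel2_47 : allR 38493 819 (fun q => (fun q => Nat.beq ((evalF f13 f14 fv [0, 1, 1, 2])^[15] q) ((fun q => q) q)) q) = true := by decide +kernel

theorem rel2_48 : allR 39312 819 (fun q => (fun q => Nat.beq ((evalF f13 f14 fv [0, 1, 1, 2])^[15] q) ((fun q => q) q)) q) = true := by decide +kernel

theorem rel2_49 : allR 40131 819 (fun q => (fun q => Nat.beq ((evalF f13 f14 fv [0, 1, 1, 2])^[15] q) ((fun q => q) q)) q) = true := by decide +kernel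


end Cfsg.Agent.Co1Out
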