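import Cfsg.Agent.Lib.Lead.Co1Out.D13
import Cfsg.Agent.Lib.Lead.Co1Out.D14
import Cfsg.Agent.Lib.Lead.Co1Out.DV
import Cfsg.Agent.Lib.Lead.Co1Out.Kills

/-! # The outer automorphism group of Co₁: the relation number 2, slices (generated) -/

set_option autoImplicit false
set_option Elab.async false
set_option maxRecDepth 100000

namespace Cfsg.Agent.Co1Out

open Cfsg.Agent.PF Cfsg.Agent.Lib.Helper6 Cfsg.Agent.Lib.Helper6.TC Cfsg.Agent.Lib.Helper6.NatArr Cfsg.Agent.Co1P
open Cfsg.Agent.PL (Acts evalF)

theorem rel2_50 : allR 40950 819 (fun q => (fun q => Nat.beq ((evalF f13 f14 fv [0, 1, 1, 2])^[15] q) ((fun q => q) q)) q) = true := by decide +kernel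

theorem rel2_51 : allR 41769 819 (fun q => (fun q => Nat.beq ((evalF f13 f14 fv [0, 1, 1, 2])^[15] q) ((fun q => q) q)) q) = true := by decide +kernel

theorem rel2_52 : allR 42588 819 (fun q => (fun q => Nat.beq ((evalF f13 f14 fv [0, 1, 1, 2])^[15] q) ((fun q => q) q)) q) = true := by decide +kernel

theorem rel2_53 : allR 43407 819 (fun q => (fun q => Nat.beq ((evalF f13 f14 fv [0, 1, 1, 2])^[15] q) ((fun q => q) q)) q) = true := by decide +kernel

theorem rel2_54 : allR 44226 819 (fun q => (fun q => Nat.beq ((evalF f13 f14 fv [0, 1, 1, 2])^[15] q) ((fun q => q) q)) q) = true := by decide +kernel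

theorem rel2_55 : allR 45045 819 (fun q => (fun q => Nat.beq ((evalF f13 f14 fv [0, 1, 1, 2])^[15] q) ((fun q => q) q)) q) = true := by decide +kernel

theorem rel2_56 : allR 45864 819 (fun q => (fun q => Nat.beq ((evalF f13 f14 fv [0, 1, 1, 2])^[15] q) ((fun q => q) q)) q) = true := by decide +kernel

theorem rel2_57 : allR 46683 819 (fun q => (fun q => Nat.beq ((evalF f13 f14 fv [0, 1, 1, 2])^[15] q) ((fun q => q) q)) q) = true := by decide +kernel

theorem rel2_58 : allR 47502 819 (fun q => (fun q => Nat.beq ((evalF f13 f14 fv [0, 1, 1, 2])^[15] q) ((fun q => q) q)) q) = true := by decide +kernel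

theorem rel2_59 : allR 48321 819 (fun q => (fun q => Nat.beq ((evalF f13 f14 fv [0, 1, 1, 2])^[15] q) ((fun q => q) q)) q) = true := by decide +kernel

theorem rel2_60 : allR 49140 819 (fun q => (fun q => Nat.beq ((evalF f13 f14 fv [0, 1, 1, 2])^[15] q) ((fun q => q) q)) q) = true := by decide +kernel

theorem rel2_61 : allR 49959 819 (fun q => (fun q => Nat.beq ((evalF f13 f14 fv [0, 1, 1, 2])^[15] q) ((fun q => q) q)) q) = true := by decide +kernel

theorem rel2_62 : allR 50778 819 (fun q => (fun q => Nat.beq ((evalF f13 f14 fv [0, 1, 1, 2])^[15] q) ((fun q => q) q)) q) = true := by decide +kernel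

theorem rel2_63 : allR 51597 819 (fun q => (fun q => Nat.beq ((evalF f13 f14 fv [0, 1, 1, 2])^[15] q) ((fun q => q) q)) q) = true := by decide +kernel

theorem rel2_64 : allR 52416 819 (fun q => (fun q => Nat.beq ((evalF f13 f14 fv [0, 1, 1, 2])^[15] q) ((fun q => q) q)) q) = true := by decide +kernel

theorem rel2_65 : allR 53235 819 (fun q => (fun q => Nat.beq ((evalF f13 f14 fv [0, 1, 1, 2])^[15] q) ((fun q => q) q)) q) = true := by decide +kernel

theorem rel2_66 : allR 54054 819 (fun q => (fun q => Nat.beq ((evalF f13 f14 fv [0, 1, 1, 2])^[15] q) ((fun q => q) q)) q) = true := by decide +kernel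

theorem rel2_67 : allR 54873 819 (fun q => (fun q => Nat.beq ((evalF f13 f14 fv [0, 1, 1, 2])^[15] q) ((fun q => q) q)) q) = true := by decide +kernel

theorem rel2_68 : allR 55692 819 (fun q => (fun q => Nat.beq ((evalF f13 f14 fv [0, 1, 1, 2])^[15] q) ((fun q => q) q)) q) = true := by decide +kernel

theorem rel2_69 : allR 56511 819 (fun q => (fun q => Nat.beq ((evalF f13 f14 fv [0, 1, 1, 2])^[15] q) ((fun q => q) q)) q) = true := by decide +kernel

theorem rel2_70 : allR 57330 819 (fun q => (fun q => Nat.beq ((evalF f13 f14 fv [0, 1, 1, 2])^[15] q) ((fun q => q) q)) q) = true := by decide +kernel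

theorem rel2_71 : allR 58149 819 (fun q => (fun q => Nat.beq ((evalF f13 f14 fv [0, 1, 1, 2])^[15] q) ((fun q => q) q)) q) = true := by decide +kernel

theorem rel2_72 : allR 58968 819 (fun q => (fun q => Nat.beq ((evalF f13 f14 fv [0, 1, 1, 2])^[15] q) ((fun q => q) q)) q) = true := by decide +kernel

theorem rel2_73 : allR 59787 819 (fun q => (fun q => Nat.beq ((evalF f13 f14 fv [0, 1, 1, 2])^[15] q) ((fun q => q) q)) q) = true := by decide +kernel

theorem rel2_74 : allR 60606 819 (fun q => (fun q => Nat.beq ((evalF f13 f14 fv [0, 1, 1, 2])^[15] q) ((fun q => q) q)) q) = true := by decide +kernel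


end Cfsg.Agent.Co1Out
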