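import Cfsg.Agent.Lib.Lead.Co1Out.D13
import Cfsg.Agent.Lib.Lead.Co1Out.D14
import Cfsg.Agent.Lib.Lead.Co1Out.DV
import Cfsg.Agent.Lib.Lead.Co1Out.Kills

/-! # The outer automorphism group of Co₁: the relation number 2, slices (generated) -/

set_option autoImplicit false
set_option Elab.async false
set_option maxRecDepth 100000

namespace Cfsg.Agent.Co1Out

open Cfsg.Agent.PF Cfsg.Agent.Lib.Helper6 Cfsg.Agent.Lib.Helper6.TC Cfsg.Agent.Lib.Helper6.NatArr Cfsg.Agent.Co1P
open Cfsg.Agent.PL (Acts evalF)

theorem rel2_75 : allR 61425 819 (fun q => (fun q => Nat.beq ((evalF f13 f14 fv [0, 1, 1, 2])^[15] q) ((fun q => q) q)) q) = true := by decide +kernel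

theorem rel2_76 : allR 62244 819 (fun q => (fun q => Nat.beq ((evalF f13 f14 fv [0, 1, 1, 2])^[15] q) ((fun q => q) q)) q) = true := by decide +kernel

theorem rel2_77 : allR 63063 819 (fun q => (fun q => Nat.beq ((evalF f13 f14 fv [0, 1, 1, 2])^[15] q) ((fun q => q) q)) q) = true := by decide +kernel

theorem rel2_78 : allR 63882 819 (fun q => (fun q => Nat.beq ((evalF f13 f14 fv [0, 1, 1, 2])^[15] q) ((fun q => q) q)) q) = true := by decide +kernel

theorem rel2_79 : allR 64701 819 (fun q => (fun q => Nat.beq ((evalF f13 f14 fv [0, 1, 1, 2])^[15] q) ((fun q => q) q)) q) = true := by decide +kernel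

theorem rel2_80 : allR 65520 819 (fun q => (fun q => Nat.beq ((evalF f13 f14 fv [0, 1, 1, 2])^[15] q) ((fun q => q) q)) q) = true := by decide +kernel

theorem rel2_81 : allR 66339 819 (fun q => (fun q => Nat.beq ((evalF f13 f14 fv [0, 1, 1, 2])^[15] q) ((fun q => q) q)) q) = true := by decide +kernel

theorem rel2_82 : allR 67158 819 (fun q => (fun q => Nat.beq ((evalF f13 f14 fv [0, 1, 1, 2])^[15] q) ((fun q => q) q)) q) = true := by decide +kernel

theorem rel2_83 : allR 67977 819 (fun q => (fun q => Nat.beq ((evalF f13 f14 fv [0, 1, 1, 2])^[15] q) ((fun q => q) q)) q) = true := by decide +kernel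

theorem rel2_84 : allR 68796 819 (fun q => (fun q => Nat.beq ((evalF f13 f14 fv [0, 1, 1, 2])^[15] q) ((fun q => q) q)) q) = true := by decide +kernel

theorem rel2_85 : allR 69615 819 (fun q => (fun q => Nat.beq ((evalF f13 f14 fv [0, 1, 1, 2])^[15] q) ((fun q => q) q)) q) = true := by decide +kernel

theorem rel2_86 : allR 70434 819 (fun q => (fun q => Nat.beq ((evalF f13 f14 fv [0, 1, 1, 2])^[15] q) ((fun q => q) q)) q) = true := by decide +kernel

theorem rel2_87 : allR 71253 819 (fun q => (fun q => Nat.beq ((evalF f13 f14 fv [0, 1, 1, 2])^[15] q) ((fun q => q) q)) q) = true := by decide +kernel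

theorem rel2_88 : allR 72072 819 (fun q => (fun q => Nat.beq ((evalF f13 f14 fv [0, 1, 1, 2])^[15] q) ((fun q => q) q)) q) = true := by decide +kernel

theorem rel2_89 : allR 72891 819 (fun q => (fun q => Nat.beq ((evalF f13 f14 fv [0, 1, 1, 2])^[15] q) ((fun q => q) q)) q) = true := by decide +kernel

theorem rel2_90 : allR 73710 819 (fun q => (fun q => Nat.beq ((evalF f13 f14 fv [0, 1, 1, 2])^[15] q) ((fun q => q) q)) q) = true := by decide +kernel

theorem rel2_91 : allR 74529 819 (fun q => (fun q => Nat.beq ((evalF f13 f14 fv [0, 1, 1, 2])^[15] q) ((fun q => q) q)) q) = true := by decide +kernel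

theorem rel2_92 : allR 75348 819 (fun q => (fun q => Nat.beq ((evalF f13 f14 fv [0, 1, 1, 2])^[15] q) ((fun q => q) q)) q) = true := by decide +kernel

theorem rel2_93 : allR 76167 819 (fun q => (fun q => Nat.beq ((evalF f13 f14 fv [0, 1, 1, 2])^[15] q) ((fun q => q) q)) q) = true := by decide +kernel

theorem rel2_94 : allR 76986 819 (fun q => (fun q => Nat.beq ((evalF f13 f14 fv [0, 1, 1, 2])^[15] q) ((fun q => q) q)) q) = true := by decide +kernel

theorem rel2_95 : allR 77805 819 (fun q => (fun q => Nat.beq ((evalF f13 f14 fv [0, 1, 1, 2])^[15] q) ((fun q => q) q)) q) = true := by decide +kernel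

theorem rel2_96 : allR 78624 819 (fun q => (fun q => Nat.beq ((evalF f13 f14 fv [0, 1, 1, 2])^[15] q) ((fun q => q) q)) q) = true := by decide +kernel

theorem rel2_97 : allR 79443 819 (fun q => (fun q => Nat.beq ((evalF f13 f14 fv [0, 1, 1, 2])^[15] q) ((fun q => q) q)) q) = true := by decide +kernel

theorem rel2_98 : allR 80262 819 (fun q => (fun q => Nat.beq ((evalF f13 f14 fv [0, 1, 1, 2])^[15] q) ((fun q => q) q)) q) = true := by decide +kernel

theorem rel2_99 : allR 81081 819 (fun q => (fun q => Nat.beq ((evalF f13 f14 fv [0, 1, 1, 2])^[15] q) ((fun q => q) q)) q) = true := by decide +kernel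


end Cfsg.Agent.Co1Out
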