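import Cfsg.Agent.Lib.Lead.Co1Out.Rel2_0
import Cfsg.Agent.Lib.Lead.Co1Out.Rel2_1
import Cfsg.Agent.Lib.Lead.Co1Out.Rel2_2
import Cfsg.Agent.Lib.Lead.Co1Out.Rel2_3
import Cfsg.Agent.Lib.Lead.Co1Out.Rel2_4

/-! # The outer automorphism group of Co₁: the relation number 2 (generated) -/

set_option autoImplicit false
set_option maxRecDepth 100000

namespace Cfsg.Agent.Co1Out

open Cfsg.Agent.PF Cfsg.Agent.Lib.Helper6 Cfsg.Agent.Lib.Helper6.TC Cfsg.Agent.Lib.Helper6.NatArr Cfsg.Agent.Co1P
open Cfsg.Agent.PL (Acts evalF)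

theorem rel2_all : ∀ q < 98280, (fun q => Nat.beq ((evalF f13 f14 fv [0, 1, 1, 2])^[15] q) ((fun q => q) q)) q = true :=
  forall_lt_of_chunks (f := fun q => (fun q => Nat.beq ((evalF f13 f14 fv [0, 1, 1, 2])^[15] q) ((fun q => q) q)) q) [(0, 819), (819, 819), (1638, 819), (2457, 819), (3276, 819), (4095, 819), (4914, 819), (5733, 819), (6552, 819), (7371, 819), (8190, 819), (9009, 819), (9828, 819), (10647, 819), (11466, 819), (12285, 819), (13104, 819), (13923, 819), (14742, 819), (15561, 819), (16380, 819), (17199, 819), (18018, 819), (18837, 819), (19656, 819), (20475, 819), (21294, 819), (22113, 819), (22932, 819), (23751, 819), (24570, 819), (25389, 819), (26208, 819), (27027, 819), (27846, 819), (28665, 819), (29484, 819), (30303, 819), (31122, 819), (31941, 819), (32760, 819), (33579, 819), (34398, 819), (35217, 819), (36036, 819), (36855, 819), (37674, 819), (38493, 819), (39312, 819), (40131, 819), (40950, 819), (41769, 819), (42588, 819), (43407, 819), (44226, 819), (45045, 819), (45864, 819), (46683, 819), (47502,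 819), (48321, 819), (49140, 819), (49959, 819), (50778, 819), (51597, 819), (52416, 819), (53235, 819), (54054, 819), (54873, 819), (55692, 819), (56511, 819), (57330, 819), (58149, 819), (58968, 819), (59787, 819), (60606, 819), (61425, 819), (62244, 819), (63063, 819), (63882, 819), (64701, 819), (65520, 819), (66339, 819), (67158, 819), (67977, 819), (68796, 819), (69615, 819), (70434, 819), (71253, 819), (72072, 819), (72891, 819), (73710, 819), (74529, 819), (75348, 819), (76167, 819), (76986, 819), (77805, 819), (78624, 819), (79443, 819), (80262, 819), (81081, 819), (81900, 819), (82719, 819), (83538, 819), (84357, 819), (85176, 819), (85995, 819), (86814, 819), (87633, 819), (88452, 819), (89271, 819), (90090, 819), (90909, 819), (91728, 819), (92547, 819), (93366, 819), (94185, 819), (95004, 819), (95823, 819), (96642, 819), (97461, 819)] (by decide)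
    (all_cons rel2_0 (all_cons rel2_1 (all_cons rel2_2 (all_cons rel2_3 (all_cons rel2_4 (all_cons rel2_5 (all_cons rel2_6 (all_cons rel2_7 (all_cons rel2_8 (all_cons rel2_9 (all_cons rel2_10 (all_cons rel2_11 (all_cons rel2_12 (all_cons rel2_13 (all_cons rel2_14 (all_cons rel2_15 (all_cons rel2_16 (all_cons rel2_17 (all_cons rel2_18 (all_cons rel2_19 (all_cons rel2_20 (all_cons rel2_21 (all_cons rel2_22 (all_cons rel2_23 (all_cons rel2_24 (all_cons rel2_25 (all_cons rel2_26 (all_cons rel2_27 (all_cons rel2_28 (all_cons rel2_29 (all_cons rel2_30 (all_cons rel2_31 (all_cons rel2_32 (all_cons rel2_33 (all_cons rel2_34 (all_cons rel2_35 (all_cons rel2_36 (all_cons rel2_37 (all_cons rel2_38 (all_cons rel2_39 (all_cons rel2_40 (all_cons rel2_41 (all_cons rel2_42 (all_cons rel2_43 (all_cons rel2_44 (all_cons rel2_45 (all_cons rel2_46 (all_cons rel2_47 (all_cons rel2_48 (all_cons rel2_49 (all_cons rel2_50 (all_cons rel2_51 (all_cons rel2_52 (all_cons rel2_53 (all_cons rel2_54 (all_cons rel2_55 (all_cons rel2_56 (all_cons rel2_57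 (all_cons rel2_58 (all_cons rel2_59 (all_cons rel2_60 (all_cons rel2_61 (all_cons rel2_62 (all_cons rel2_63 (all_cons rel2_64 (all_cons rel2_65 (all_cons rel2_66 (all_cons rel2_67 (all_cons rel2_68 (all_cons rel2_69 (all_cons rel2_70 (all_cons rel2_71 (all_cons rel2_72 (all_cons rel2_73 (all_cons rel2_74 (all_cons rel2_75 (all_cons rel2_76 (all_cons rel2_77 (all_cons rel2_78 (all_cons rel2_79 (all_cons rel2_80 (all_cons rel2_81 (all_cons rel2_82 (all_cons rel2_83 (all_cons rel2_84 (all_cons rel2_85 (all_cons rel2_86 (all_cons rel2_87 (all_cons rel2_88 (all_cons rel2_89 (all_cons rel2_90 (all_cons rel2_91 (all_cons rel2_92 (all_cons rel2_93 (all_cons rel2_94 (all_cons rel2_95 (all_cons rel2_96 (all_cons rel2_97 (all_cons rel2_98 (all_cons rel2_99 (all_cons rel2_100 (all_cons rel2_101 (all_cons rel2_102 (all_cons rel2_103 (all_cons rel2_104 (all_cons rel2_105 (all_cons rel2_106 (all_cons rel2_107 (all_cons rel2_108 (all_cons rel2_109 (all_cons rel2_110 (all_cons rel2_111 (all_cons rel2_112 (all_cons rel2_113 (all_cons rel2_114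 (all_cons rel2_115 (all_cons rel2_116 (all_cons rel2_117 (all_cons rel2_118 (all_cons rel2_119 all_nil))))))))))))))))))))))))))))))))))))))))))))))))))))))))))))))))))))))))))))))))))))))))))))))))))))))))))))))))))))))))

/-- a relation -/
theorem rel2 : ∀ q < 98280, (evalF f13 f14 fv [0, 1, 1, 2])^[15] q = (fun q => q) q :=
  fun q hq => Nat.eq_of_beq_eq_true (rel2_all q hq)

end Cfsg.Agent.Co1Out
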