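import Cfsg.Agent.Lib.Lead.Co1Out.Rel0
import Cfsg.Agent.Lib.Lead.Co1Out.Rel1
import Cfsg.Agent.Lib.Lead.Co1Out.Rel2

/-! # The outer automorphism group of Co₁: the relations (generated) -/

set_option autoImplicit false
set_option maxRecDepth 100000

namespace Cfsg.Agent.Co1Out

open Cfsg.Agent.PF Cfsg.Agent.Lib.Helper6 Cfsg.Agent.Lib.Helper6.TC Cfsg.Agent.Lib.Helper6.NatArr Cfsg.Agent.Co1P
open Cfsg.Agent.PL (Acts evalF)

theorem chk_rels : ∀ e ∈ kills, ∀ q < 98280, (evalF f13 f14 fv e.1)^[e.2.1] q = q := by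
  intro e he
  simp only [kills, List.mem_cons, List.not_mem_nil, or_false] at he
  rcases he with rfl | rfl | rfl
  · exact rel0
  · exact rel1
  · exact rel2

end Cfsg.Agent.Co1Out
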