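import Cfsg.Agent.Lib.Lead.Co1Out.TV_0

/-! # The outer automorphism group of Co₁: the inverse of `w` (generated) -/

set_option autoImplicit false
set_option maxRecDepth 100000

namespace Cfsg.Agent.Co1Out

open Cfsg.Agent.PF Cfsg.Agent.Lib.Helper6 Cfsg.Agent.Lib.Helper6.TC Cfsg.Agent.Lib.Helper6.NatArr Cfsg.Agent.Co1P
open Cfsg.Agent.PL (Acts evalF)

theorem chk_v_all : ∀ q < 98280, (fun q => Nat.beq ((fun q => fv (f24 q)) q) ((fun q => q) q)) q = true :=
  forall_lt_of_chunks (f := fun q => (fun q => Nat.beq ((fun q => fv (f24 q)) q) ((fun q => q) q)) q) [(0, 32760), (32760, 32760), (65520, 32760)] (by decide)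
    (all_cons chk_v_0 (all_cons chk_v_1 (all_cons chk_v_2 all_nil)))

/-- the map of the inverse of `w` -/
theorem chk_v : ∀ q < 98280, (fun q => fv (f24 q)) q = (fun q => q) q :=
  fun q hq => Nat.eq_of_beq_eq_true (chk_v_all q hq)

end Cfsg.Agent.Co1Out
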