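import Cfsg.Agent.Lib.Lead.Co1P.Real
import Cfsg.Agent.Lib.Helper6.OutGeneric
import Cfsg.Agent.Lib.Lead.PF.Out1
import Cfsg.Agent.Lib.Lead.Co1Out.XYW
import Cfsg.Agent.Lib.Lead.Co1Out.TV
import Cfsg.Agent.Lib.Lead.Co1Out.CXR
import Cfsg.Agent.Lib.Lead.Co1Out.ChkX
import Cfsg.Agent.Lib.Lead.Co1Out.ChkX1
import Cfsg.Agent.Lib.Lead.Co1Out.ChkYX
import Cfsg.Agent.Lib.Lead.Co1Out.ChkWY
import Cfsg.Agent.Lib.Lead.Co1Out.LevA
import Cfsg.Agent.Lib.Lead.Co1Out.LevB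
import Cfsg.Agent.Lib.Lead.Co1Out.LevG
import Cfsg.Agent.Lib.Lead.Co1Out.CntA
import Cfsg.Agent.Lib.Lead.Co1Out.CntB
import Cfsg.Agent.Lib.Lead.Co1Out.CntG
import Cfsg.Agent.Lib.Lead.Co1Out.Cent
import Cfsg.Agent.Lib.Lead.Co1Out.Kill
import Cfsg.Agent.Lib.Lead.Co1Out.KillR
import Cfsg.Agent.Lib.Lead.Co1Out.Rels

/-! # The outer automorphism group of Co₁: the theorem (generated) -/

set_option autoImplicit false
set_option maxRecDepth 100000

namespace Cfsg.Agent.Co1Out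

open Cfsg.Agent.PF Cfsg.Agent.Lib.Helper6 Cfsg.Agent.Lib.Helper6.TC Cfsg.Agent.Lib.Helper6.NatArr Cfsg.Agent.Co1P
open Cfsg.Agent.PL (Acts evalF)

open Cfsg Cfsg.Spor

theorem hR : ∀ k < 23, k ≠ 0 → ∃ j : ℕ, ∃ r ∈ ({1, 5} : Finset ℕ), (k * 2 ^ j) % 23 = r % 23 := by
  have h : ∀ k < 23, k ≠ 0 → ∃ j < 11, ∃ r ∈ ({1, 5} : Finset ℕ), (k * 2 ^ j) % 23 = r % 23 := by decide
  intro k hk hk0
  obtain ⟨j, -, r, hr, e⟩ := h k hk hk0
  exact ⟨j, r, hr, e⟩

theorem hsolve : ∀ i < 23, ∃ a : ℕ, (a + 2 * i) % 23 = (2 * a) % 23 := by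
  have h : ∀ i < 23, ∃ a < 23, (a + 2 * i) % 23 = (2 * a) % 23 := by decide
  intro i hi
  obtain ⟨a, -, e⟩ := h i hi
  exact ⟨a, e⟩

/-- the certificate -/
noncomputable def setup : FSetup 98280 P where
  N := 4157776806543360000
  hN := card_P
  fuel := 10
  p := 23
  hp := by norm_num
  hp2 := by norm_num
  m := 2
  s := 1
  r₁ := 5
  hR := hR
  hsolve := hsolve
  x := x
  y := y
  w := w
  hx := hx
  hy := hy
  hw := hw
  fx := f13
  fy := f14
  fw := f24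
  fv := fv
  ax := ax
  ay := ay
  aw := aw
  chk_v := chk_v
  q₀ := 1000
  hq₀ := by norm_num
  chk_x := chk_x
  chk_x1 := chk_x1
  chk_yx := chk_yx
  chk_wy := chk_wy
  LG := LG0
  LsG := LsG
  hG := hG
  chk_treeG := chk_treeG
  chk_countsG := chk_countsG
  LA := LA0
  LsA := LsA
  hA := hA
  chk_treeA := chk_treeA
  chk_countsA := chk_countsA
  chk_cycA := chk_cycA
  tests := [0]
  chk_centX := chk_centX
  LB := LB0
  LsB := LsB
  hB := hB
  chk_treeB := chk_treeB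
  chk_countsB := chk_countsB
  chk_cycB := chk_cycB
  kills := kills
  chk_rels := chk_rels
  testsB := []

/-- the outer automorphism group of the permutation group is trivial -/
theorem card_out_P : Nat.card (Cfsg.Out ↥P) = 1 :=
  setup.card_out_one_two chk_kill fxr chk_xr chk_r

/-- **The outer automorphism group of the Conway group Co₁ is trivial.** -/
theorem card_out : Nat.card (Cfsg.Out Cfsg.Spor.Co1) = 1 := by
  rw [OutGeneric.card_out_congr Cfsg.Agent.Co1P.iso]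
  exact card_out_P

end Cfsg.Agent.Co1Out
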