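import Cfsg.Agent.Lib.Lead.Co1Out.D13
import Cfsg.Agent.Lib.Lead.Co1Out.D14
import Cfsg.Agent.Lib.Lead.Co1Out.DV
import Cfsg.Agent.Lib.Lead.Co1Out.Kills

/-! # The outer automorphism group of Co₁: the relation number 0, slices (generated) -/

set_option autoImplicit false
set_option Elab.async false
set_option maxRecDepth 100000

namespace Cfsg.Agent.Co1Out

open Cfsg.Agent.PF Cfsg.Agent.Lib.Helper6 Cfsg.Agent.Lib.Helper6.TC Cfsg.Agent.Lib.Helper6.NatArr Cfsg.Agent.Co1P
open Cfsg.Agent.PL (Acts evalF)

theorem rel0_25 : allR 26425 1057 (fun q => (fun q => Nat.beq ((evalF f13 f14 fv [0, 2])^[23] q) ((fun q => q) q)) q) = true := by decide +kernel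

theorem rel0_26 : allR 27482 1057 (fun q => (fun q => Nat.beq ((evalF f13 f14 fv [0, 2])^[23] q) ((fun q => q) q)) q) = true := by decide +kernel

theorem rel0_27 : allR 28539 1057 (fun q => (fun q => Nat.beq ((evalF f13 f14 fv [0, 2])^[23] q) ((fun q => q) q)) q) = true := by decide +kernel

theorem rel0_28 : allR 29596 1057 (fun q => (fun q => Nat.beq ((evalF f13 f14 fv [0, 2])^[23] q) ((fun q => q) q)) q) = true := by decide +kernel

theorem rel0_29 : allR 30653 1057 (fun q => (fun q => Nat.beq ((evalF f13 f14 fv [0, 2])^[23] q) ((fun q => q) q)) q) = true := by decide +kernel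

theorem rel0_30 : allR 31710 1057 (fun q => (fun q => Nat.beq ((evalF f13 f14 fv [0, 2])^[23] q) ((fun q => q) q)) q) = true := by decide +kernel

theorem rel0_31 : allR 32767 1057 (fun q => (fun q => Nat.beq ((evalF f13 f14 fv [0, 2])^[23] q) ((fun q => q) q)) q) = true := by decide +kernel

theorem rel0_32 : allR 33824 1057 (fun q => (fun q => Nat.beq ((evalF f13 f14 fv [0, 2])^[23] q) ((fun q => q) q)) q) = true := by decide +kernel

theorem rel0_33 : allR 34881 1057 (fun q => (fun q => Nat.beq ((evalF f13 f14 fv [0, 2])^[23] q) ((fun q => q) q)) q) = true := by decide +kernel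

theorem rel0_34 : allR 35938 1057 (fun q => (fun q => Nat.beq ((evalF f13 f14 fv [0, 2])^[23] q) ((fun q => q) q)) q) = true := by decide +kernel

theorem rel0_35 : allR 36995 1057 (fun q => (fun q => Nat.beq ((evalF f13 f14 fv [0, 2])^[23] q) ((fun q => q) q)) q) = true := by decide +kernel

theorem rel0_36 : allR 38052 1057 (fun q => (fun q => Nat.beq ((evalF f13 f14 fv [0, 2])^[23] q) ((fun q => q) q)) q) = true := by decide +kernel

theorem rel0_37 : allR 39109 1057 (fun q => (fun q => Nat.beq ((evalF f13 f14 fv [0, 2])^[23] q) ((fun q => q) q)) q) = true := by decide +kernel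

theorem rel0_38 : allR 40166 1057 (fun q => (fun q => Nat.beq ((evalF f13 f14 fv [0, 2])^[23] q) ((fun q => q) q)) q) = true := by decide +kernel

theorem rel0_39 : allR 41223 1057 (fun q => (fun q => Nat.beq ((evalF f13 f14 fv [0, 2])^[23] q) ((fun q => q) q)) q) = true := by decide +kernel

theorem rel0_40 : allR 42280 1057 (fun q => (fun q => Nat.beq ((evalF f13 f14 fv [0, 2])^[23] q) ((fun q => q) q)) q) = true := by decide +kernel

theorem rel0_41 : allR 43337 1057 (fun q => (fun q => Nat.beq ((evalF f13 f14 fv [0, 2])^[23] q) ((fun q => q) q)) q) = true := by decide +kernel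

theorem rel0_42 : allR 44394 1057 (fun q => (fun q => Nat.beq ((evalF f13 f14 fv [0, 2])^[23] q) ((fun q => q) q)) q) = true := by decide +kernel

theorem rel0_43 : allR 45451 1057 (fun q => (fun q => Nat.beq ((evalF f13 f14 fv [0, 2])^[23] q) ((fun q => q) q)) q) = true := by decide +kernel

theorem rel0_44 : allR 46508 1057 (fun q => (fun q => Nat.beq ((evalF f13 f14 fv [0, 2])^[23] q) ((fun q => q) q)) q) = true := by decide +kernel

theorem rel0_45 : allR 47565 1057 (fun q => (fun q => Nat.beq ((evalF f13 f14 fv [0, 2])^[23] q) ((fun q => q) q)) q) = true := by decide +kernel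

theorem rel0_46 : allR 48622 1057 (fun q => (fun q => Nat.beq ((evalF f13 f14 fv [0, 2])^[23] q) ((fun q => q) q)) q) = true := by decide +kernel

theorem rel0_47 : allR 49679 1057 (fun q => (fun q => Nat.beq ((evalF f13 f14 fv [0, 2])^[23] q) ((fun q => q) q)) q) = true := by decide +kernel

theorem rel0_48 : allR 50736 1057 (fun q => (fun q => Nat.beq ((evalF f13 f14 fv [0, 2])^[23] q) ((fun q => q) q)) q) = true := by decide +kernel

theorem rel0_49 : allR 51793 1057 (fun q => (fun q => Nat.beq ((evalF f13 f14 fv [0, 2])^[23] q) ((fun q => q) q)) q) = true := by decide +kernel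


end Cfsg.Agent.Co1Out
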