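import Cfsg.Agent.Lib.Lead.Co1Out.D13
import Cfsg.Agent.Lib.Lead.Co1Out.D14
import Cfsg.Agent.Lib.Lead.Co1Out.DV
import Cfsg.Agent.Lib.Lead.Co1Out.Kills

/-! # The outer automorphism group of Co₁: the relation number 0, slices (generated) -/

set_option autoImplicit false
set_option Elab.async false
set_option maxRecDepth 100000

namespace Cfsg.Agent.Co1Out

open Cfsg.Agent.PF Cfsg.Agent.Lib.Helper6 Cfsg.Agent.Lib.Helper6.TC Cfsg.Agent.Lib.Helper6.NatArr Cfsg.Agent.Co1P
open Cfsg.Agent.PL (Acts evalF)

theorem rel0_50 : allR 52850 1057 (fun q => (fun q => Nat.beq ((evalF f13 f14 fv [0, 2])^[23] q) ((fun q => q) q)) q) = true := by decide +kernel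

theorem rel0_51 : allR 53907 1057 (fun q => (fun q => Nat.beq ((evalF f13 f14 fv [0, 2])^[23] q) ((fun q => q) q)) q) = true := by decide +kernel

theorem rel0_52 : allR 54964 1057 (fun q => (fun q => Nat.beq ((evalF f13 f14 fv [0, 2])^[23] q) ((fun q => q) q)) q) = true := by decide +kernel

theorem rel0_53 : allR 56021 1057 (fun q => (fun q => Nat.beq ((evalF f13 f14 fv [0, 2])^[23] q) ((fun q => q) q)) q) = true := by decide +kernel

theorem rel0_54 : allR 57078 1057 (fun q => (fun q => Nat.beq ((evalF f13 f14 fv [0, 2])^[23] q) ((fun q => q) q)) q) = true := by decide +kernel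

theorem rel0_55 : allR 58135 1057 (fun q => (fun q => Nat.beq ((evalF f13 f14 fv [0, 2])^[23] q) ((fun q => q) q)) q) = true := by decide +kernel

theorem rel0_56 : allR 59192 1057 (fun q => (fun q => Nat.beq ((evalF f13 f14 fv [0, 2])^[23] q) ((fun q => q) q)) q) = true := by decide +kernel

theorem rel0_57 : allR 60249 1057 (fun q => (fun q => Nat.beq ((evalF f13 f14 fv [0, 2])^[23] q) ((fun q => q) q)) q) = true := by decide +kernel

theorem rel0_58 : allR 61306 1057 (fun q => (fun q => Nat.beq ((evalF f13 f14 fv [0, 2])^[23] q) ((fun q => q) q)) q) = true := by decide +kernel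

theorem rel0_59 : allR 62363 1057 (fun q => (fun q => Nat.beq ((evalF f13 f14 fv [0, 2])^[23] q) ((fun q => q) q)) q) = true := by decide +kernel

theorem rel0_60 : allR 63420 1057 (fun q => (fun q => Nat.beq ((evalF f13 f14 fv [0, 2])^[23] q) ((fun q => q) q)) q) = true := by decide +kernel

theorem rel0_61 : allR 64477 1057 (fun q => (fun q => Nat.beq ((evalF f13 f14 fv [0, 2])^[23] q) ((fun q => q) q)) q) = true := by decide +kernel

theorem rel0_62 : allR 65534 1057 (fun q => (fun q => Nat.beq ((evalF f13 f14 fv [0, 2])^[23] q) ((fun q => q) q)) q) = true := by decide +kernel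

theorem rel0_63 : allR 66591 1057 (fun q => (fun q => Nat.beq ((evalF f13 f14 fv [0, 2])^[23] q) ((fun q => q) q)) q) = true := by decide +kernel

theorem rel0_64 : allR 67648 1057 (fun q => (fun q => Nat.beq ((evalF f13 f14 fv [0, 2])^[23] q) ((fun q => q) q)) q) = true := by decide +kernel

theorem rel0_65 : allR 68705 1057 (fun q => (fun q => Nat.beq ((evalF f13 f14 fv [0, 2])^[23] q) ((fun q => q) q)) q) = true := by decide +kernel

theorem rel0_66 : allR 69762 1057 (fun q => (fun q => Nat.beq ((evalF f13 f14 fv [0, 2])^[23] q) ((fun q => q) q)) q) = true := by decide +kernel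

theorem rel0_67 : allR 70819 1057 (fun q => (fun q => Nat.beq ((evalF f13 f14 fv [0, 2])^[23] q) ((fun q => q) q)) q) = true := by decide +kernel

theorem rel0_68 : allR 71876 1057 (fun q => (fun q => Nat.beq ((evalF f13 f14 fv [0, 2])^[23] q) ((fun q => q) q)) q) = true := by decide +kernel

theorem rel0_69 : allR 72933 1057 (fun q => (fun q => Nat.beq ((evalF f13 f14 fv [0, 2])^[23] q) ((fun q => q) q)) q) = true := by decide +kernel

theorem rel0_70 : allR 73990 1057 (fun q => (fun q => Nat.beq ((evalF f13 f14 fv [0, 2])^[23] q) ((fun q => q) q)) q) = true := by decide +kernel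

theorem rel0_71 : allR 75047 1057 (fun q => (fun q => Nat.beq ((evalF f13 f14 fv [0, 2])^[23] q) ((fun q => q) q)) q) = true := by decide +kernel

theorem rel0_72 : allR 76104 1057 (fun q => (fun q => Nat.beq ((evalF f13 f14 fv [0, 2])^[23] q) ((fun q => q) q)) q) = true := by decide +kernel

theorem rel0_73 : allR 77161 1057 (fun q => (fun q => Nat.beq ((evalF f13 f14 fv [0, 2])^[23] q) ((fun q => q) q)) q) = true := by decide +kernel

theorem rel0_74 : allR 78218 1057 (fun q => (fun q => Nat.beq ((evalF f13 f14 fv [0, 2])^[23] q) ((fun q => q) q)) q) = true := by decide +kernel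


end Cfsg.Agent.Co1Out
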