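import Cfsg.Agent.Lib.Lead.Co1Out.D13
import Cfsg.Agent.Lib.Lead.Co1Out.D14
import Cfsg.Agent.Lib.Lead.Co1Out.DV
import Cfsg.Agent.Lib.Lead.Co1Out.Kills

/-! # The outer automorphism group of Co₁: the relation number 0, slices (generated) -/

set_option autoImplicit false
set_option Elab.async false
set_option maxRecDepth 100000

namespace Cfsg.Agent.Co1Out

open Cfsg.Agent.PF Cfsg.Agent.Lib.Helper6 Cfsg.Agent.Lib.Helper6.TC Cfsg.Agent.Lib.Helper6.NatArr Cfsg.Agent.Co1P
open Cfsg.Agent.PL (Acts evalF)

theorem rel0_75 : allR 79275 1057 (fun q => (fun q => Nat.beq ((evalF f13 f14 fv [0, 2])^[23] q) ((fun q => q) q)) q) = true := by decide +kernel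

theorem rel0_76 : allR 80332 1057 (fun q => (fun q => Nat.beq ((evalF f13 f14 fv [0, 2])^[23] q) ((fun q => q) q)) q) = true := by decide +kernel

theorem rel0_77 : allR 81389 1057 (fun q => (fun q => Nat.beq ((evalF f13 f14 fv [0, 2])^[23] q) ((fun q => q) q)) q) = true := by decide +kernel

theorem rel0_78 : allR 82446 1057 (fun q => (fun q => Nat.beq ((evalF f13 f14 fv [0, 2])^[23] q) ((fun q => q) q)) q) = true := by decide +kernel

theorem rel0_79 : allR 83503 1057 (fun q => (fun q => Nat.beq ((evalF f13 f14 fv [0, 2])^[23] q) ((fun q => q) q)) q) = true := by decide +kernel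

theorem rel0_80 : allR 84560 1057 (fun q => (fun q => Nat.beq ((evalF f13 f14 fv [0, 2])^[23] q) ((fun q => q) q)) q) = true := by decide +kernel

theorem rel0_81 : allR 85617 1057 (fun q => (fun q => Nat.beq ((evalF f13 f14 fv [0, 2])^[23] q) ((fun q => q) q)) q) = true := by decide +kernel

theorem rel0_82 : allR 86674 1057 (fun q => (fun q => Nat.beq ((evalF f13 f14 fv [0, 2])^[23] q) ((fun q => q) q)) q) = true := by decide +kernel

theorem rel0_83 : allR 87731 1057 (fun q => (fun q => Nat.beq ((evalF f13 f14 fv [0, 2])^[23] q) ((fun q => q) q)) q) = true := by decide +kernel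

theorem rel0_84 : allR 88788 1057 (fun q => (fun q => Nat.beq ((evalF f13 f14 fv [0, 2])^[23] q) ((fun q => q) q)) q) = true := by decide +kernel

theorem rel0_85 : allR 89845 1057 (fun q => (fun q => Nat.beq ((evalF f13 f14 fv [0, 2])^[23] q) ((fun q => q) q)) q) = true := by decide +kernel

theorem rel0_86 : allR 90902 1057 (fun q => (fun q => Nat.beq ((evalF f13 f14 fv [0, 2])^[23] q) ((fun q => q) q)) q) = true := by decide +kernel

theorem rel0_87 : allR 91959 1057 (fun q => (fun q => Nat.beq ((evalF f13 f14 fv [0, 2])^[23] q) ((fun q => q) q)) q) = true := by decide +kernel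

theorem rel0_88 : allR 93016 1057 (fun q => (fun q => Nat.beq ((evalF f13 f14 fv [0, 2])^[23] q) ((fun q => q) q)) q) = true := by decide +kernel

theorem rel0_89 : allR 94073 1057 (fun q => (fun q => Nat.beq ((evalF f13 f14 fv [0, 2])^[23] q) ((fun q => q) q)) q) = true := by decide +kernel

theorem rel0_90 : allR 95130 1057 (fun q => (fun q => Nat.beq ((evalF f13 f14 fv [0, 2])^[23] q) ((fun q => q) q)) q) = true := by decide +kernel

theorem rel0_91 : allR 96187 1057 (fun q => (fun q => Nat.beq ((evalF f13 f14 fv [0, 2])^[23] q) ((fun q => q) q)) q) = true := by decide +kernel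

theorem rel0_92 : allR 97244 1036 (fun q => (fun q => Nat.beq ((evalF f13 f14 fv [0, 2])^[23] q) ((fun q => q) q)) q) = true := by decide +kernel


end Cfsg.Agent.Co1Out
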