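import Cfsg.Agent.Lib.Lead.Co1Out.Rel0_0
import Cfsg.Agent.Lib.Lead.Co1Out.Rel0_1
import Cfsg.Agent.Lib.Lead.Co1Out.Rel0_2
import Cfsg.Agent.Lib.Lead.Co1Out.Rel0_3

/-! # The outer automorphism group of Co₁: the relation number 0 (generated) -/

set_option autoImplicit false
set_option maxRecDepth 100000

namespace Cfsg.Agent.Co1Out

open Cfsg.Agent.PF Cfsg.Agent.Lib.Helper6 Cfsg.Agent.Lib.Helper6.TC Cfsg.Agent.Lib.Helper6.NatArr Cfsg.Agent.Co1P
open Cfsg.Agent.PL (Acts evalF)

theorem rel0_all : ∀ q < 98280, (fun q => Nat.beq ((evalF f13 f14 fv [0, 2])^[23] q) ((fun q => q) q)) q = true :=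
  forall_lt_of_chunks (f := fun q => (fun q => Nat.beq ((evalF f13 f14 fv [0, 2])^[23] q) ((fun q => q) q)) q) [(0, 1057), (1057, 1057), (2114, 1057), (3171, 1057), (4228, 1057), (5285, 1057), (6342, 1057), (7399, 1057), (8456, 1057), (9513, 1057), (10570, 1057), (11627, 1057), (12684, 1057), (13741, 1057), (14798, 1057), (15855, 1057), (16912, 1057), (17969, 1057), (19026, 1057), (20083, 1057), (21140, 1057), (22197, 1057), (23254, 1057), (24311, 1057), (25368, 1057), (26425, 1057), (27482, 1057), (28539, 1057), (29596, 1057), (30653, 1057), (31710, 1057), (32767, 1057), (33824, 1057), (34881, 1057), (35938, 1057), (36995, 1057), (38052, 1057), (39109, 1057), (40166, 1057), (41223, 1057), (42280, 1057), (43337, 1057), (44394, 1057), (45451, 1057), (46508, 1057), (47565, 1057), (48622, 1057), (49679, 1057), (50736, 1057), (51793, 1057), (52850, 1057), (53907, 1057), (54964, 1057), (56021, 1057), (57078, 1057), (58135, 1057), (59192, 1057), (60249, 1057), (61306, 1057), (62363, 1057), (63420, 1057),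 (64477, 1057), (65534, 1057), (66591, 1057), (67648, 1057), (68705, 1057), (69762, 1057), (70819, 1057), (71876, 1057), (72933, 1057), (73990, 1057), (75047, 1057), (76104, 1057), (77161, 1057), (78218, 1057), (79275, 1057), (80332, 1057), (81389, 1057), (82446, 1057), (83503, 1057), (84560, 1057), (85617, 1057), (86674, 1057), (87731, 1057), (88788, 1057), (89845, 1057), (90902, 1057), (91959, 1057), (93016, 1057), (94073, 1057), (95130, 1057), (96187, 1057), (97244, 1036)] (by decide)
    (all_cons rel0_0 (all_cons rel0_1 (all_cons rel0_2 (all_cons rel0_3 (all_cons rel0_4 (all_cons rel0_5 (all_cons rel0_6 (all_cons rel0_7 (all_cons rel0_8 (all_cons rel0_9 (all_cons rel0_10 (all_cons rel0_11 (all_cons rel0_12 (all_cons rel0_13 (all_cons rel0_14 (all_cons rel0_15 (all_cons rel0_16 (all_cons rel0_17 (all_cons rel0_18 (all_cons rel0_19 (all_cons rel0_20 (all_cons rel0_21 (all_cons rel0_22 (all_cons rel0_23 (all_cons rel0_24 (all_cons rel0_25 (all_cons rel0_26 (all_cons rel0_27 (all_cons rel0_28 (all_cons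 rel0_29 (all_cons rel0_30 (all_cons rel0_31 (all_cons rel0_32 (all_cons rel0_33 (all_cons rel0_34 (all_cons rel0_35 (all_cons rel0_36 (all_cons rel0_37 (all_cons rel0_38 (all_cons rel0_39 (all_cons rel0_40 (all_cons rel0_41 (all_cons rel0_42 (all_cons rel0_43 (all_cons rel0_44 (all_cons rel0_45 (all_cons rel0_46 (all_cons rel0_47 (all_cons rel0_48 (all_cons rel0_49 (all_cons rel0_50 (all_cons rel0_51 (all_cons rel0_52 (all_cons rel0_53 (all_cons rel0_54 (all_cons rel0_55 (all_cons rel0_56 (all_cons rel0_57 (all_cons rel0_58 (all_cons rel0_59 (all_cons rel0_60 (all_cons rel0_61 (all_cons rel0_62 (all_cons rel0_63 (all_cons rel0_64 (all_cons rel0_65 (all_cons rel0_66 (all_cons rel0_67 (all_cons rel0_68 (all_cons rel0_69 (all_cons rel0_70 (all_cons rel0_71 (all_cons rel0_72 (all_cons rel0_73 (all_cons rel0_74 (all_cons rel0_75 (all_cons rel0_76 (all_cons rel0_77 (all_cons rel0_78 (all_cons rel0_79 (all_cons rel0_80 (all_cons rel0_81 (all_cons rel0_82 (all_cons rel0_83 (all_cons rel0_84 (all_cons rel0_85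 (all_cons rel0_86 (all_cons rel0_87 (all_cons rel0_88 (all_cons rel0_89 (all_cons rel0_90 (all_cons rel0_91 (all_cons rel0_92 all_nil)))))))))))))))))))))))))))))))))))))))))))))))))))))))))))))))))))))))))))))))))))))))))))))

/-- a relation -/
theorem rel0 : ∀ q < 98280, (evalF f13 f14 fv [0, 2])^[23] q = (fun q => q) q :=
  fun q hq => Nat.eq_of_beq_eq_true (rel0_all q hq)

end Cfsg.Agent.Co1Out
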