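import Cfsg.Agent.Lib.Lead.Co1Out.D13
import Cfsg.Agent.Lib.Lead.Co1Out.D14
import Cfsg.Agent.Lib.Lead.Co1Out.DV
import Cfsg.Agent.Lib.Lead.Co1Out.Kills

/-! # The outer automorphism group of Co₁: the relation number 0, slices (generated) -/

set_option autoImplicit false
set_option Elab.async false
set_option maxRecDepth 100000

namespace Cfsg.Agent.Co1Out

open Cfsg.Agent.PF Cfsg.Agent.Lib.Helper6 Cfsg.Agent.Lib.Helper6.TC Cfsg.Agent.Lib.Helper6.NatArr Cfsg.Agent.Co1P
open Cfsg.Agent.PL (Acts evalF)

theorem rel0_0 : allR 0 1057 (fun q => (fun q => Nat.beq ((evalF f13 f14 fv [0, 2])^[23] q) ((fun q => q) q)) q) = true := by decide +kernel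

theorem rel0_1 : allR 1057 1057 (fun q => (fun q => Nat.beq ((evalF f13 f14 fv [0, 2])^[23] q) ((fun q => q) q)) q) = true := by decide +kernel

theorem rel0_2 : allR 2114 1057 (fun q => (fun q => Nat.beq ((evalF f13 f14 fv [0, 2])^[23] q) ((fun q => q) q)) q) = true := by decide +kernel

theorem rel0_3 : allR 3171 1057 (fun q => (fun q => Nat.beq ((evalF f13 f14 fv [0, 2])^[23] q) ((fun q => q) q)) q) = true := by decide +kernel

theorem rel0_4 : allR 4228 1057 (fun q => (fun q => Nat.beq ((evalF f13 f14 fv [0, 2])^[23] q) ((fun q => q) q)) q) = true := by decide +kernel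

theorem rel0_5 : allR 5285 1057 (fun q => (fun q => Nat.beq ((evalF f13 f14 fv [0, 2])^[23] q) ((fun q => q) q)) q) = true := by decide +kernel

theorem rel0_6 : allR 6342 1057 (fun q => (fun q => Nat.beq ((evalF f13 f14 fv [0, 2])^[23] q) ((fun q => q) q)) q) = true := by decide +kernel

theorem rel0_7 : allR 7399 1057 (fun q => (fun q => Nat.beq ((evalF f13 f14 fv [0, 2])^[23] q) ((fun q => q) q)) q) = true := by decide +kernel

theorem rel0_8 : allR 8456 1057 (fun q => (fun q => Nat.beq ((evalF f13 f14 fv [0, 2])^[23] q) ((fun q => q) q)) q) = true := by decide +kernel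

theorem rel0_9 : allR 9513 1057 (fun q => (fun q => Nat.beq ((evalF f13 f14 fv [0, 2])^[23] q) ((fun q => q) q)) q) = true := by decide +kernel

theorem rel0_10 : allR 10570 1057 (fun q => (fun q => Nat.beq ((evalF f13 f14 fv [0, 2])^[23] q) ((fun q => q) q)) q) = true := by decide +kernel

theorem rel0_11 : allR 11627 1057 (fun q => (fun q => Nat.beq ((evalF f13 f14 fv [0, 2])^[23] q) ((fun q => q) q)) q) = true := by decide +kernel

theorem rel0_12 : allR 12684 1057 (fun q => (fun q => Nat.beq ((evalF f13 f14 fv [0, 2])^[23] q) ((fun q => q) q)) q) = true := by decide +kernel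

theorem rel0_13 : allR 13741 1057 (fun q => (fun q => Nat.beq ((evalF f13 f14 fv [0, 2])^[23] q) ((fun q => q) q)) q) = true := by decide +kernel

theorem rel0_14 : allR 14798 1057 (fun q => (fun q => Nat.beq ((evalF f13 f14 fv [0, 2])^[23] q) ((fun q => q) q)) q) = true := by decide +kernel

theorem rel0_15 : allR 15855 1057 (fun q => (fun q => Nat.beq ((evalF f13 f14 fv [0, 2])^[23] q) ((fun q => q) q)) q) = true := by decide +kernel

theorem rel0_16 : allR 16912 1057 (fun q => (fun q => Nat.beq ((evalF f13 f14 fv [0, 2])^[23] q) ((fun q => q) q)) q) = true := by decide +kernel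

theorem rel0_17 : allR 17969 1057 (fun q => (fun q => Nat.beq ((evalF f13 f14 fv [0, 2])^[23] q) ((fun q => q) q)) q) = true := by decide +kernel

theorem rel0_18 : allR 19026 1057 (fun q => (fun q => Nat.beq ((evalF f13 f14 fv [0, 2])^[23] q) ((fun q => q) q)) q) = true := by decide +kernel

theorem rel0_19 : allR 20083 1057 (fun q => (fun q => Nat.beq ((evalF f13 f14 fv [0, 2])^[23] q) ((fun q => q) q)) q) = true := by decide +kernel

theorem rel0_20 : allR 21140 1057 (fun q => (fun q => Nat.beq ((evalF f13 f14 fv [0, 2])^[23] q) ((fun q => q) q)) q) = true := by decide +kernel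

theorem rel0_21 : allR 22197 1057 (fun q => (fun q => Nat.beq ((evalF f13 f14 fv [0, 2])^[23] q) ((fun q => q) q)) q) = true := by decide +kernel

theorem rel0_22 : allR 23254 1057 (fun q => (fun q => Nat.beq ((evalF f13 f14 fv [0, 2])^[23] q) ((fun q => q) q)) q) = true := by decide +kernel

theorem rel0_23 : allR 24311 1057 (fun q => (fun q => Nat.beq ((evalF f13 f14 fv [0, 2])^[23] q) ((fun q => q) q)) q) = true := by decide +kernel

theorem rel0_24 : allR 25368 1057 (fun q => (fun q => Nat.beq ((evalF f13 f14 fv [0, 2])^[23] q) ((fun q => q) q)) q) = true := by decide +kernel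


end Cfsg.Agent.Co1Out
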