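import Cfsg.Agent.Lib.Lead.Co1Out.D13
import Cfsg.Agent.Lib.Lead.Co1Out.D14
import Cfsg.Agent.Lib.Lead.Co1Out.DV
import Cfsg.Agent.Lib.Lead.Co1Out.Kills

/-! # The outer automorphism group of Co₁: the relation number 1, slices (generated) -/

set_option autoImplicit false
set_option Elab.async false
set_option maxRecDepth 100000

namespace Cfsg.Agent.Co1Out

open Cfsg.Agent.PF Cfsg.Agent.Lib.Helper6 Cfsg.Agent.Lib.Helper6.TC Cfsg.Agent.Lib.Helper6.NatArr Cfsg.Agent.Co1P
open Cfsg.Agent.PL (Acts evalF)

theorem rel1_0 : allR 0 1080 (fun q => (fun q => Nat.beq ((evalF f13 f14 fv [0, 1, 2])^[15] q) ((fun q => q) q)) q) = true := by decide +kernel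

theorem rel1_1 : allR 1080 1080 (fun q => (fun q => Nat.beq ((evalF f13 f14 fv [0, 1, 2])^[15] q) ((fun q => q) q)) q) = true := by decide +kernel

theorem rel1_2 : allR 2160 1080 (fun q => (fun q => Nat.beq ((evalF f13 f14 fv [0, 1, 2])^[15] q) ((fun q => q) q)) q) = true := by decide +kernel

theorem rel1_3 : allR 3240 1080 (fun q => (fun q => Nat.beq ((evalF f13 f14 fv [0, 1, 2])^[15] q) ((fun q => q) q)) q) = true := by decide +kernel

theorem rel1_4 : allR 4320 1080 (fun q => (fun q => Nat.beq ((evalF f13 f14 fv [0, 1, 2])^[15] q) ((fun q => q) q)) q) = true := by decide +kernel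

theorem rel1_5 : allR 5400 1080 (fun q => (fun q => Nat.beq ((evalF f13 f14 fv [0, 1, 2])^[15] q) ((fun q => q) q)) q) = true := by decide +kernel

theorem rel1_6 : allR 6480 1080 (fun q => (fun q => Nat.beq ((evalF f13 f14 fv [0, 1, 2])^[15] q) ((fun q => q) q)) q) = true := by decide +kernel

theorem rel1_7 : allR 7560 1080 (fun q => (fun q => Nat.beq ((evalF f13 f14 fv [0, 1, 2])^[15] q) ((fun q => q) q)) q) = true := by decide +kernel

theorem rel1_8 : allR 8640 1080 (fun q => (fun q => Nat.beq ((evalF f13 f14 fv [0, 1, 2])^[15] q) ((fun q => q) q)) q) = true := by decide +kernel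

theorem rel1_9 : allR 9720 1080 (fun q => (fun q => Nat.beq ((evalF f13 f14 fv [0, 1, 2])^[15] q) ((fun q => q) q)) q) = true := by decide +kernel

theorem rel1_10 : allR 10800 1080 (fun q => (fun q => Nat.beq ((evalF f13 f14 fv [0, 1, 2])^[15] q) ((fun q => q) q)) q) = true := by decide +kernel

theorem rel1_11 : allR 11880 1080 (fun q => (fun q => Nat.beq ((evalF f13 f14 fv [0, 1, 2])^[15] q) ((fun q => q) q)) q) = true := by decide +kernel

theorem rel1_12 : allR 12960 1080 (fun q => (fun q => Nat.beq ((evalF f13 f14 fv [0, 1, 2])^[15] q) ((fun q => q) q)) q) = true := by decide +kernel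

theorem rel1_13 : allR 14040 1080 (fun q => (fun q => Nat.beq ((evalF f13 f14 fv [0, 1, 2])^[15] q) ((fun q => q) q)) q) = true := by decide +kernel

theorem rel1_14 : allR 15120 1080 (fun q => (fun q => Nat.beq ((evalF f13 f14 fv [0, 1, 2])^[15] q) ((fun q => q) q)) q) = true := by decide +kernel

theorem rel1_15 : allR 16200 1080 (fun q => (fun q => Nat.beq ((evalF f13 f14 fv [0, 1, 2])^[15] q) ((fun q => q) q)) q) = true := by decide +kernel

theorem rel1_16 : allR 17280 1080 (fun q => (fun q => Nat.beq ((evalF f13 f14 fv [0, 1, 2])^[15] q) ((fun q => q) q)) q) = true := by decide +kernel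

theorem rel1_17 : allR 18360 1080 (fun q => (fun q => Nat.beq ((evalF f13 f14 fv [0, 1, 2])^[15] q) ((fun q => q) q)) q) = true := by decide +kernel

theorem rel1_18 : allR 19440 1080 (fun q => (fun q => Nat.beq ((evalF f13 f14 fv [0, 1, 2])^[15] q) ((fun q => q) q)) q) = true := by decide +kernel

theorem rel1_19 : allR 20520 1080 (fun q => (fun q => Nat.beq ((evalF f13 f14 fv [0, 1, 2])^[15] q) ((fun q => q) q)) q) = true := by decide +kernel

theorem rel1_20 : allR 21600 1080 (fun q => (fun q => Nat.beq ((evalF f13 f14 fv [0, 1, 2])^[15] q) ((fun q => q) q)) q) = true := by decide +kernel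

theorem rel1_21 : allR 22680 1080 (fun q => (fun q => Nat.beq ((evalF f13 f14 fv [0, 1, 2])^[15] q) ((fun q => q) q)) q) = true := by decide +kernel

theorem rel1_22 : allR 23760 1080 (fun q => (fun q => Nat.beq ((evalF f13 f14 fv [0, 1, 2])^[15] q) ((fun q => q) q)) q) = true := by decide +kernel

theorem rel1_23 : allR 24840 1080 (fun q => (fun q => Nat.beq ((evalF f13 f14 fv [0, 1, 2])^[15] q) ((fun q => q) q)) q) = true := by decide +kernel

theorem rel1_24 : allR 25920 1080 (fun q => (fun q => Nat.beq ((evalF f13 f14 fv [0, 1, 2])^[15] q) ((fun q => q) q)) q) = true := by decide +kernel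


end Cfsg.Agent.Co1Out
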