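import Cfsg.Agent.Lib.Lead.Co1Out.D13
import Cfsg.Agent.Lib.Lead.Co1Out.D14
import Cfsg.Agent.Lib.Lead.Co1Out.DV
import Cfsg.Agent.Lib.Lead.Co1Out.Kills

/-! # The outer automorphism group of Co₁: the relation number 2, slices (generated) -/

set_option autoImplicit false
set_option Elab.async false
set_option maxRecDepth 100000

namespace Cfsg.Agent.Co1Out

open Cfsg.Agent.PF Cfsg.Agent.Lib.Helper6 Cfsg.Agent.Lib.Helper6.TC Cfsg.Agent.Lib.Helper6.NatArr Cfsg.Agent.Co1P
open Cfsg.Agent.PL (Acts evalF)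

theorem rel2_0 : allR 0 819 (fun q => (fun q => Nat.beq ((evalF f13 f14 fv [0, 1, 1, 2])^[15] q) ((fun q => q) q)) q) = true := by decide +kernel

theorem rel2_1 : allR 819 819 (fun q => (fun q => Nat.beq ((evalF f13 f14 fv [0, 1, 1, 2])^[15] q) ((fun q => q) q)) q) = true := by decide +kernel

theorem rel2_2 : allR 1638 819 (fun q => (fun q => Nat.beq ((evalF f13 f14 fv [0, 1, 1, 2])^[15] q) ((fun q => q) q)) q) = true := by decide +kernel

theorem rel2_3 : allR 2457 819 (fun q => (fun q => Nat.beq ((evalF f13 f14 fv [0, 1, 1, 2])^[15] q) ((fun q => q) q)) q) = true := by decide +kernel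

theorem rel2_4 : allR 3276 819 (fun q => (fun q => Nat.beq ((evalF f13 f14 fv [0, 1, 1, 2])^[15] q) ((fun q => q) q)) q) = true := by decide +kernel

theorem rel2_5 : allR 4095 819 (fun q => (fun q => Nat.beq ((evalF f13 f14 fv [0, 1, 1, 2])^[15] q) ((fun q => q) q)) q) = true := by decide +kernel

theorem rel2_6 : allR 4914 819 (fun q => (fun q => Nat.beq ((evalF f13 f14 fv [0, 1, 1, 2])^[15] q) ((fun q => q) q)) q) = true := by decide +kernel

theorem rel2_7 : allR 5733 819 (fun q => (fun q => Nat.beq ((evalF f13 f14 fv [0, 1, 1, 2])^[15] q) ((fun q => q) q)) q) = true := by decide +kernel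

theorem rel2_8 : allR 6552 819 (fun q => (fun q => Nat.beq ((evalF f13 f14 fv [0, 1, 1, 2])^[15] q) ((fun q => q) q)) q) = true := by decide +kernel

theorem rel2_9 : allR 7371 819 (fun q => (fun q => Nat.beq ((evalF f13 f14 fv [0, 1, 1, 2])^[15] q) ((fun q => q) q)) q) = true := by decide +kernel

theorem rel2_10 : allR 8190 819 (fun q => (fun q => Nat.beq ((evalF f13 f14 fv [0, 1, 1, 2])^[15] q) ((fun q => q) q)) q) = true := by decide +kernel

theorem rel2_11 : allR 9009 819 (fun q => (fun q => Nat.beq ((evalF f13 f14 fv [0, 1, 1, 2])^[15] q) ((fun q => q) q)) q) = true := by decide +kernel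

theorem rel2_12 : allR 9828 819 (fun q => (fun q => Nat.beq ((evalF f13 f14 fv [0, 1, 1, 2])^[15] q) ((fun q => q) q)) q) = true := by decide +kernel

theorem rel2_13 : allR 10647 819 (fun q => (fun q => Nat.beq ((evalF f13 f14 fv [0, 1, 1, 2])^[15] q) ((fun q => q) q)) q) = true := by decide +kernel

theorem rel2_14 : allR 11466 819 (fun q => (fun q => Nat.beq ((evalF f13 f14 fv [0, 1, 1, 2])^[15] q) ((fun q => q) q)) q) = true := by decide +kernel

theorem rel2_15 : allR 12285 819 (fun q => (fun q => Nat.beq ((evalF f13 f14 fv [0, 1, 1, 2])^[15] q) ((fun q => q) q)) q) = true := by decide +kernel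

theorem rel2_16 : allR 13104 819 (fun q => (fun q => Nat.beq ((evalF f13 f14 fv [0, 1, 1, 2])^[15] q) ((fun q => q) q)) q) = true := by decide +kernel

theorem rel2_17 : allR 13923 819 (fun q => (fun q => Nat.beq ((evalF f13 f14 fv [0, 1, 1, 2])^[15] q) ((fun q => q) q)) q) = true := by decide +kernel

theorem rel2_18 : allR 14742 819 (fun q => (fun q => Nat.beq ((evalF f13 f14 fv [0, 1, 1, 2])^[15] q) ((fun q => q) q)) q) = true := by decide +kernel

theorem rel2_19 : allR 15561 819 (fun q => (fun q => Nat.beq ((evalF f13 f14 fv [0, 1, 1, 2])^[15] q) ((fun q => q) q)) q) = true := by decide +kernel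

theorem rel2_20 : allR 16380 819 (fun q => (fun q => Nat.beq ((evalF f13 f14 fv [0, 1, 1, 2])^[15] q) ((fun q => q) q)) q) = true := by decide +kernel

theorem rel2_21 : allR 17199 819 (fun q => (fun q => Nat.beq ((evalF f13 f14 fv [0, 1, 1, 2])^[15] q) ((fun q => q) q)) q) = true := by decide +kernel

theorem rel2_22 : allR 18018 819 (fun q => (fun q => Nat.beq ((evalF f13 f14 fv [0, 1, 1, 2])^[15] q) ((fun q => q) q)) q) = true := by decide +kernel

theorem rel2_23 : allR 18837 819 (fun q => (fun q => Nat.beq ((evalF f13 f14 fv [0, 1, 1, 2])^[15] q) ((fun q => q) q)) q) = true := by decide +kernel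

theorem rel2_24 : allR 19656 819 (fun q => (fun q => Nat.beq ((evalF f13 f14 fv [0, 1, 1, 2])^[15] q) ((fun q => q) q)) q) = true := by decide +kernel


end Cfsg.Agent.Co1Out
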