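import Cfsg.Agent.Lib.Lead.Co1Out.C23
import Cfsg.Agent.Lib.Lead.Co1Out.T19
import Cfsg.Agent.Lib.Lead.Co1Out.T20
import Cfsg.Agent.Lib.Lead.Co1Out.T21
import Cfsg.Agent.Lib.Lead.Co1Out.T22

/-! # The outer automorphism group of Co₁: the element number 23 (generated) -/

set_option autoImplicit false
set_option maxRecDepth 100000

namespace Cfsg.Agent.Co1Out

open Cfsg.Agent.PF Cfsg.Agent.Lib.Helper6 Cfsg.Agent.Lib.Helper6.TC Cfsg.Agent.Lib.Helper6.NatArr Cfsg.Agent.Co1P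
open Cfsg.Agent.PL (Acts evalF)

theorem rep23 : Rep P f23 :=
  (rep_wordR (l := W23) (Reps.cons rep20 (Reps.cons rep19 (Reps.cons rep21 (Reps.cons rep21 (Reps.cons rep20 (Reps.cons rep21 (Reps.cons rep20 (Reps.cons rep22 (Reps.cons rep21 (Reps.cons rep19 (Reps.cons rep21 (Reps.nil P))))))))))))).congr eq23

end Cfsg.Agent.Co1Out
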